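import Groth.Prelude.Def_SGA3b
import Mathlib.RingTheory.HopfAlgebra.Convolution
import Mathlib.RingTheory.HopfAlgebra.Quotient

/-!
# Points of affine group schemes: convolution calculus

* `post f`, `pre h`: post- and pre-composition as homomorphisms of groups of points;
* `le_ker_iff`: an algebra map kills `φ(ker ε)` iff the corresponding point is in the kernel;
* `torsionIdeal_le_ker_iff`: an algebra map kills the ideal of `ₙG` iff it is a point of order
  dividing `n`.
-/

set_option autoImplicit false
universe u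

open TensorProduct SGA3b Coalgebra Bialgebra WithConv

namespace K202.Conv

section Basic

variable {R : Type*} [CommRing R] {A A' : Type*} [CommRing A] [Bialgebra R A]
  [CommRing A'] [Bialgebra R A']
  {B D : Type*} [CommRing B] [Algebra R B] [CommRing D] [Algebra R D]

/-- Post-composition with an algebra map. -/
def post (f : B →ₐ[R] D) : WithConv (A →ₐ[R] B) →* WithConv (A →ₐ[R] D) where
  toFun x := toConv (f.comp x.ofConv)
  map_one' := by
    apply WithConv.ofConv_injective
    ext a
    change f (algebraMap R B (counit a)) = algebraMap R D (counit a)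
    exact f.commutes _
  map_mul' x y := by
    apply WithConv.ofConv_injective
    exact AlgHom.comp_convMul_distrib f x y

/-- Pre-composition with a bialgebra map. -/
def pre (h : A' →ₐc[R] A) : WithConv (A →ₐ[R] D) →* WithConv (A' →ₐ[R] D) where
  toFun x := toConv (x.ofConv.comp (h : A' →ₐ[R] A))
  map_one' := by
    apply WithConv.ofConv_injective
    ext a
    change algebraMap R D (counit (h a)) = algebraMap R D (counit a)
    rw [CoalgHomClass.counit_comp_apply]
  map_mul' x y := by
    apply WithConv.ofConv_injective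
    exact AlgHom.convMul_comp_bialgHom_distrib x y h

@[simp] lemma post_apply (f : B →ₐ[R] D) (x : WithConv (A →ₐ[R] B)) (a : A) :
    post f x a = f (x a) := rfl

@[simp] lemma pre_apply (h : A' →ₐc[R] A) (x : WithConv (A →ₐ[R] D)) (a : A') :
    pre h x a = x (h a) := rfl

lemma eq_one_iff {x : WithConv (A →ₐ[R] D)} : x = 1 ↔ ∀ a, x a = algebraMap R D (counit a) := by
  constructor
  · rintro rfl a
    rfl
  · intro h
    apply WithConv.ofConv_injective
    ext a
    exact h a

lemma eq_one_iff' {x : WithConv (A →ₐ[R] D)} :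
    x = 1 ↔ RingHom.ker (counitAlgHom R A) ≤ RingHom.ker x.ofConv := by
  rw [eq_one_iff]
  constructor
  · intro h a ha
    have h0 : counit (R := R) a = 0 := ha
    change x a = 0
    rw [h, h0, map_zero]
  · intro h a
    have h1 : a - algebraMap R A (counit a) ∈ RingHom.ker (counitAlgHom R A) := by
      rw [RingHom.mem_ker, map_sub, AlgHom.commutes]
      simp
    have h2 : x.ofConv (a - algebraMap R A (counit a)) = 0 := h h1
    rw [map_sub, AlgHom.commutes, sub_eq_zero] at h2
    exact h2

/-- An algebra map kills `φ(ker ε)` iff the corresponding point is in the kernel. -/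
lemma map_ker_le_ker_iff (φ : A' →ₐc[R] A) (f : A →ₐ[R] D) :
    Ideal.map φ (RingHom.ker (counitAlgHom R A')) ≤ RingHom.ker f ↔ pre φ (toConv f) = 1 := by
  rw [eq_one_iff', Ideal.map_le_iff_le_comap]
  rfl

end Basic

section Torsion

variable {R : Type u} [CommRing R] {A : Type u} [CommRing A] [HopfAlgebra R A]
  {D : Type*} [CommRing D] [Algebra R D]

lemma toConv_comp_powConv (f : A →ₐ[R] D) (n : ℕ) :
    toConv (f.comp (powConv R A n)) = (toConv f) ^ n := by
  have h := map_pow (post (A := A) f) (toConv (AlgHom.id R A)) n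
  exact h

/-- An algebra map kills the ideal of `ₙG` iff it is a point of order dividing `n`. -/
lemma torsionIdeal_le_ker_iff (f : A →ₐ[R] D) (n : ℕ) :
    torsionIdeal R A n ≤ RingHom.ker f ↔ (toConv f) ^ n = 1 := by
  rw [← toConv_comp_powConv, eq_one_iff', torsionIdeal, Ideal.map_le_iff_le_comap]
  rfl

lemma torsionIdeal_le_of_dvd {m n : ℕ} (h : m ∣ n) : torsionIdeal R A n ≤ torsionIdeal R A m := by
  have h1 : RingHom.ker (Ideal.Quotient.mkₐ R (torsionIdeal R A m)) = torsionIdeal R A m :=
    Ideal.mk_ker
  rw [← h1, torsionIdeal_le_ker_iff]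
  obtain ⟨k, rfl⟩ := h
  rw [pow_mul, (torsionIdeal_le_ker_iff _ m).mp h1.ge, one_pow]

/-- `torsionIdeal` is compatible with bialgebra maps: quotient form. -/
lemma torsionIdeal_map_le {A' : Type u} [CommRing A'] [HopfAlgebra R A'] (φ : A' →ₐc[R] A) (n : ℕ) :
    (torsionIdeal R A' n).map (φ : A' →ₐ[R] A) ≤ torsionIdeal R A n := by
  have h1 : RingHom.ker (Ideal.Quotient.mkₐ R (torsionIdeal R A n)) = torsionIdeal R A n :=
    Ideal.mk_ker
  have h2 := (torsionIdeal_le_ker_iff (Ideal.Quotient.mkₐ R (torsionIdeal R A n)) n).mp h1.ge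
  have h3 := map_pow (pre (D := A ⧸ torsionIdeal R A n) φ)
    (toConv (Ideal.Quotient.mkₐ R (torsionIdeal R A n))) n
  rw [h2, map_one] at h3
  have h4 := (torsionIdeal_le_ker_iff
    ((Ideal.Quotient.mkₐ R (torsionIdeal R A n)).comp (φ : A' →ₐ[R] A)) n).mpr h3.symm
  rw [Ideal.map_le_iff_le_comap]
  intro x hx
  have h5 := h4 hx
  rw [Ideal.mem_comap, ← h1]
  exact h5

end Torsion

end K202.Conv
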