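import Groth.Agent.SGA3b.K202.DualSplit
import Groth.Agent.SGA3b.K201.MTBasics
import Mathlib.RingTheory.RingHom.Etale
import Mathlib.RingTheory.Etale.Descent

/-!
The dual algebra of a finite Hopf algebra of multiplicative type is étale; consequences for isotriviality over a
connected base.
-/

set_option autoImplicit false

open TensorProduct SGA3b
open Groth.Agent.Sga3A.MTBasis Groth.Agent.Sga3A.MTDual

namespace K202.DualEtale

universe u v

open K202.DualSplit

theorem etale_of_span {R : Type u} {D : Type u} [CommRing R] [CommRing D] [Algebra R D] (s : Set R)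
    (hs : Ideal.span s = ⊤)
    (h : ∀ f ∈ s, Algebra.Etale (Localization.Away f) (Localization.Away f ⊗[R] D)) : Algebra.Etale R D := by
  have hspan : Ideal.span ((algebraMap R D) '' s) = ⊤ := by
    have h1 := congrArg (Ideal.map (algebraMap R D)) hs
    rwa [Ideal.map_span, Ideal.map_top] at h1
  rw [← RingHom.etale_algebraMap (R := R) (S := D)]
  refine RingHom.Etale.ofLocalizationSpanTarget _ _ hspan ?_
  rintro ⟨_, f, hf, rfl⟩
  have := h f hf
  have h1 : Algebra.Etale R (Localization.Away f) := Algebra.Etale.of_isLocalizationAway f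
  have h2 : Algebra.Etale R (Localization.Away f ⊗[R] D) := Algebra.Etale.comp R (Localization.Away f) _
  let _ : Algebra D (Localization.Away f ⊗[R] D) := Algebra.TensorProduct.rightAlgebra
  have h3 : IsLocalization.Away (algebraMap R D f) (Localization.Away f ⊗[R] D) := inferInstance
  let e : (Localization.Away f ⊗[R] D) ≃ₐ[D] Localization.Away (algebraMap R D f) :=
    IsLocalization.algEquiv (Submonoid.powers (algebraMap R D f)) _ _
  have h4 : Algebra.Etale R (Localization.Away (algebraMap R D f)) :=
    Algebra.Etale.of_equiv (e.restrictScalars R)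
  have h5 := RingHom.etale_algebraMap.mpr h4
  have h6 : (algebraMap D (Localization.Away (algebraMap R D f))).comp (algebraMap R D) =
      algebraMap R (Localization.Away (algebraMap R D f)) := rfl
  exact h6 ▸ h5

theorem etale_away_of_tower {R D L S : Type u} [CommRing R] [CommRing D] [Algebra R D] [CommRing L] [Algebra R L]
    [CommRing S] [Algebra R S] [Algebra L S] [IsScalarTower R L S] [Module.FaithfullyFlat L S]
    (h : Algebra.Etale S (S ⊗[R] D)) : Algebra.Etale L (L ⊗[R] D) := by
  have h2 : Algebra.Etale S (S ⊗[L] (L ⊗[R] D)) :=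
    Algebra.Etale.of_equiv (Algebra.TensorProduct.cancelBaseChange R L S S D).symm
  exact Algebra.Etale.of_etale_tensorProduct_of_faithfullyFlat S

section bc

variable {R A S : Type u} [CommRing R] [CommRing A] [HopfAlgebra R A] [CommRing S] [Algebra R S]
  [Coalgebra.IsCocomm R A] [Module.Finite R A] [Module.Projective R A]

/-- evaluation `S ⊗ D → (M → S)` -/
noncomputable def theta {M : Type u} [CommGroup M] (g : GBasis S (S ⊗[R] A) M) :
    S ⊗[R] WithConv (A →ₗ[R] R) →ₐ[S] (M → S) :=
  Algebra.TensorProduct.lift (Algebra.ofId S _) (AlgHom.pi fun m : M => ev (g.b m) (g.gl m)) (fun _ _ => .all _ _)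

omit [Coalgebra.IsCocomm R A] [Module.Finite R A] [Module.Projective R A] in
theorem theta_tmul {M : Type u} [CommGroup M] (g : GBasis S (S ⊗[R] A) M) (s : S) (l : WithConv (A →ₗ[R] R))
    (m : M) : theta g (s ⊗ₜ l) m = s * evL (g.b m) l := by
  simp [theta]

theorem theta_bijective {M : Type u} [CommGroup M] (g : GBasis S (S ⊗[R] A) M) :
    Function.Bijective (theta g) := by
  obtain ⟨n, e, f, hef⟩ := exists_db (R := R) (A := A)
  let P : S ⊗[R] WithConv (A →ₗ[R] R) →ₗ[S] Module.Dual S (S ⊗[R] A) :=
    TensorProduct.AlgebraTensorModule.lift (LinearMap.toSpanSingleton S _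
      ((Module.Dual.baseChange S) ∘ₗ (WithConv.linearEquiv R _).toLinearMap))
  have hP : ∀ s l y, P (s ⊗ₜ l) y = s * evL y l := fun s l y => rfl
  have hPb : ∀ z m, P z (g.b m) = theta g z m := by
    intro z m
    induction z using TensorProduct.induction_on with
    | zero => simp
    | tmul s l => rw [hP, theta_tmul]
    | add x y hx hy => rw [map_add, map_add, LinearMap.add_apply, hx, hy, Pi.add_apply]
  have hz : ∀ z, z = ∑ i, (P z ((1 : S) ⊗ₜ[R] e i)) ⊗ₜ[R] f i := by
    intro z
    induction z using TensorProduct.induction_on with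
    | zero => simp
    | tmul s l =>
      conv_lhs => rw [db_dual hef l, TensorProduct.tmul_sum]
      refine Finset.sum_congr rfl fun i _ => ?_
      rw [hP, evL_tmul, ← TensorProduct.smul_tmul, Algebra.smul_def, Algebra.smul_def, mul_one, mul_comm]
    | add x y hx hy =>
      conv_lhs => rw [hx, hy, ← Finset.sum_add_distrib]
      refine Finset.sum_congr rfl fun i _ => ?_
      rw [map_add, LinearMap.add_apply, TensorProduct.add_tmul]
  constructor
  · rw [injective_iff_map_eq_zero]
    intro z hz0
    have h1 : P z = 0 := by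
      apply g.b.ext
      intro m
      rw [hPb, hz0, LinearMap.zero_apply, Pi.zero_apply]
    rw [hz z, h1]
    simp
  · intro h
    refine ⟨∑ i, (g.b.constr S h ((1 : S) ⊗ₜ[R] e i)) ⊗ₜ[R] f i, ?_⟩
    funext m
    rw [map_sum, Finset.sum_apply]
    simp only [theta_tmul]
    calc ∑ i, (g.b.constr S h) ((1 : S) ⊗ₜ[R] e i) * evL (g.b m) (f i)
        = g.b.constr S h (∑ i, evL (g.b m) (f i) • ((1 : S) ⊗ₜ[R] e i)) := by
          rw [map_sum]
          exact Finset.sum_congr rfl fun i _ => by rw [map_smul, smul_eq_mul, mul_comm]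
      _ = h m := by rw [← db_bc hef, Module.Basis.constr_basis]

theorem etale_bc_of_gbasis {M : Type u} [CommGroup M] (g : GBasis S (S ⊗[R] A) M) :
    Algebra.Etale S (S ⊗[R] WithConv (A →ₗ[R] R)) := by
  cases subsingleton_or_nontrivial S with
  | inl hS =>
    have : Subsingleton (S ⊗[R] WithConv (A →ₗ[R] R)) := Module.subsingleton S _
    have hbij : Function.Bijective (Algebra.ofId S (S ⊗[R] WithConv (A →ₗ[R] R))) :=
      ⟨Function.injective_of_subsingleton _, fun x => ⟨0, Subsingleton.elim _ _⟩⟩
    exact Algebra.Etale.of_equiv (AlgEquiv.ofBijective _ hbij)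
  | inr hS =>
    have : Finite M := Module.Finite.finite_basis g.b
    exact Algebra.Etale.of_equiv (AlgEquiv.ofBijective _ (theta_bijective g)).symm

end bc

section main

variable {R A : Type u} [CommRing R] [CommRing A] [HopfAlgebra R A]

theorem etale_dual_of_const [Coalgebra.IsCocomm R A] [Module.Finite R A] [Module.Projective R A]
    (h : IsMultTypeConst R A) : Algebra.Etale R (WithConv (A →ₗ[R] R)) := by
  obtain ⟨S, _, _, hS, M, _, ⟨e⟩⟩ := h
  have := etale_bc_of_gbasis (GBasis.ofBialgEquiv e)
  exact Algebra.Etale.of_etale_tensorProduct_of_faithfullyFlat S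

theorem etale_dual_of_isMultType [Coalgebra.IsCocomm R A] [Module.Finite R A] [Module.Projective R A]
    (h : IsMultType R A) : Algebra.Etale R (WithConv (A →ₗ[R] R)) := by
  obtain ⟨s, hs, h⟩ := h
  refine etale_of_span s hs fun f hf => ?_
  obtain ⟨S, _, _, hS, M, _, ⟨e⟩⟩ := h f hf
  let _ : Algebra R S := ((algebraMap (Localization.Away f) S).comp (algebraMap R (Localization.Away f))).toAlgebra
  have : IsScalarTower R (Localization.Away f) S := .of_algebraMap_eq' rfl
  have g : GBasis S (S ⊗[R] A) M := (GBasis.ofBialgEquiv e).map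
    (Groth.Agent.Sga3A.BCIso.cancelBialg R (Localization.Away f) S A)
  have h1 := etale_bc_of_gbasis g
  exact etale_away_of_tower h1

end main

end K202.DualEtale
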