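import Groth.Agent.SGA3b.K202.DenseOpen
import Groth.Agent.S2969
import Groth.Agent.Sga3A.NilDescent
import Groth.Agent.Sga3A.TypeLemma
import Mathlib.FieldTheory.IsAlgClosed.AlgebraicClosure
import Mathlib.LinearAlgebra.TensorProduct.RightExactness

/-!
# Density of the torsion in a commutative group over a field with an open subgroup of multiplicative
type
-/

set_option autoImplicit false
universe u

open TensorProduct SGA3b Coalgebra Bialgebra

namespace K202.DenseField

open Groth.Agent Groth.Agent.Sga3A Groth.Agent.Sga3A.TorsionDense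

/-- Over an algebraically closed field, groups of multiplicative type and of finite type are
diagonalisable. -/
theorem isDiagFT_of_isAlgClosed (K B : Type u) [Field K] [IsAlgClosed K] [CommRing B]
    [HopfAlgebra K B] (hft : Algebra.FiniteType K B) (h : IsMultType K B) : IsDiagFT K B := by
  obtain ⟨k', _, _, _, _, M, _, hM, hd⟩ := S2969.result K B hft h
  let e : K ≃ₐ[K] k' := AlgEquiv.ofBijective (Algebra.ofId K k')
    IsAlgClosed.algebraMap_bijective_of_isIntegral
  obtain ⟨e'⟩ := TypeLemma.diag_of_algHom (e.symm : k' →ₐ[K] K) hd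
  exact ⟨M, _, hM, ⟨(Bialgebra.TensorProduct.lid K B).symm.trans e'⟩⟩

theorem dense_of_open {k : Type u} [Field k] {C : Type u} [CommRing C] [HopfAlgebra k C]
    [IsCocomm k C] (hft : Algebra.FiniteType k C) {e : C} (he : IsIdempotentElem e)
    [(Ideal.span {e}).IsHopfIdeal k] (hG : IsMultType k (C ⧸ Ideal.span {e})) : Dense k C := by
  let K := AlgebraicClosure k
  refine Dense.of_faithfullyFlat K ?_
  have h1 : IsMultType K (K ⊗[k] (C ⧸ Ideal.span {e})) := NilDescent.isMultType_baseChange K hG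
  have h2 : Algebra.FiniteType k (C ⧸ Ideal.span {e}) := inferInstance
  obtain ⟨M, _, hM, ⟨E⟩⟩ := isDiagFT_of_isAlgClosed K _ inferInstance h1
  let q : C →ₐc[k] C ⧸ Ideal.span {e} := Bialgebra.Quotient.mkBialgHom (Ideal.span {e})
  have hqs : Function.Surjective q := Ideal.Quotient.mk_surjective
  let qK : K ⊗[k] C →ₐc[K] K ⊗[k] (C ⧸ Ideal.span {e}) :=
    Bialgebra.TensorProduct.map (BialgHom.id K K) q
  let π : K ⊗[k] C →ₐc[K] MonoidAlgebra K M :=
    (E : K ⊗[k] (C ⧸ Ideal.span {e}) →ₐc[K] MonoidAlgebra K M).comp qK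
  have hqK : Function.Surjective qK := by
    intro y
    induction y with
    | zero => exact ⟨0, map_zero _⟩
    | add x y hx hy =>
      obtain ⟨x', rfl⟩ := hx
      obtain ⟨y', rfl⟩ := hy
      exact ⟨x' + y', map_add _ _ _⟩
    | tmul s b =>
      obtain ⟨a, rfl⟩ := hqs b
      exact ⟨s ⊗ₜ a, rfl⟩
  have hπ : Function.Surjective π := by
    intro y
    obtain ⟨x, hx⟩ := hqK (E.symm y)
    refine ⟨x, ?_⟩
    change E (qK x) = y
    rw [hx, BialgEquiv.apply_symm_apply]
  have hker : RingHom.ker (π : K ⊗[k] C →+* MonoidAlgebra K M) = Ideal.span {(1 : K) ⊗ₜ[k] e} := by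
    have h3 : (RingHom.ker (q : C →ₐ[k] C ⧸ Ideal.span {e})).map
        (Algebra.TensorProduct.includeRight : C →ₐ[k] K ⊗[k] C) = Ideal.span {(1 : K) ⊗ₜ[k] e} := by
      have h4 : RingHom.ker (q : C →ₐ[k] C ⧸ Ideal.span {e}) = Ideal.span {e} := Ideal.mk_ker
      rw [h4, Ideal.map_span, Set.image_singleton]
      rfl
    rw [← h3, ← Algebra.TensorProduct.lTensor_ker (A := K) (q : C →ₐ[k] C ⧸ Ideal.span {e}) hqs]
    have h5 : ∀ x, (Algebra.TensorProduct.map (AlgHom.id k K) (q : C →ₐ[k] C ⧸ Ideal.span {e})) x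
        = qK x := by
      intro x
      induction x with
      | zero => simp
      | add x y hx hy => rw [map_add, map_add, hx, hy]
      | tmul s c => rfl
    ext x
    rw [RingHom.mem_ker, RingHom.mem_ker, h5]
    change E (qK x) = 0 ↔ _
    exact EmbeddingLike.map_eq_zero_iff
  have heK : IsIdempotentElem ((1 : K) ⊗ₜ[k] e) :=
    he.map (Algebra.TensorProduct.includeRight : C →ₐ[k] K ⊗[k] C)
  exact DenseOpen.dense_of_open π inferInstance heK hπ hker

/-- From the elementwise form to the ideal-theoretic form of schematic density. -/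
theorem iInf_eq_bot_of_dense {R : Type u} [CommRing R] {A : Type u} [CommRing A] [HopfAlgebra R A]
    (h : Dense R A) (a : A) :
    ⨅ n : {n : ℕ // 0 < n}, Ideal.map (algebraMap A (Localization.Away a)) (torsionIdeal R A n.1)
      = ⊥ := by
  rw [eq_bot_iff]
  intro x hx
  obtain ⟨⟨y, m⟩, hy⟩ := IsLocalization.surj (Submonoid.powers a) x
  simp only at hy
  have hu : IsUnit (algebraMap A (Localization.Away a) (m : A)) :=
    IsLocalization.map_units _ m
  simp only [Ideal.mem_iInf] at hx
  have hD : ∀ n : ℕ, 0 < n → ∃ N : ℕ, a ^ N * y ∈ torsionIdeal R A n := by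
    intro n hn
    have h1 := hx ⟨n, hn⟩
    have h2 : algebraMap A (Localization.Away a) y ∈
        Ideal.map (algebraMap A (Localization.Away a)) (torsionIdeal R A n) := by
      rw [← hy]
      exact Ideal.mul_mem_right _ _ h1
    rw [IsLocalization.mem_map_algebraMap_iff (Submonoid.powers a)] at h2
    obtain ⟨⟨i, ⟨_, j, rfl⟩⟩, hij⟩ := h2
    rw [← map_mul, IsLocalization.eq_iff_exists (Submonoid.powers a)] at hij
    obtain ⟨⟨_, l, rfl⟩, hl⟩ := hij
    refine ⟨l + j, ?_⟩
    have h3 : a ^ (l + j) * y = a ^ l * i := by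
      rw [← hl]
      change a ^ (l + j) * y = a ^ l * (y * a ^ j)
      ring
    rw [h3]
    exact Ideal.mul_mem_left _ _ i.2
  obtain ⟨N, hN⟩ := h a y hD
  have h4 : algebraMap A (Localization.Away a) y = 0 := by
    rw [IsLocalization.map_eq_zero_iff (Submonoid.powers a)]
    exact ⟨⟨_, N, rfl⟩, hN⟩
  rw [h4] at hy
  have h5 : x = 0 := by
    rcases hu with ⟨u, hu⟩
    rw [← hu] at hy
    exact (Units.mul_left_eq_zero u).mp hy
  rw [h5]
  exact Submodule.zero_mem _

end K202.DenseField
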