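import Groth.Agent.SGA3b.K201.SmoothLift

/-!
# Lifting of homomorphisms with a prescribed restriction to a subgroup (S5291)
-/

set_option autoImplicit false
universe u

open TensorProduct Coalgebra Bialgebra WithConv
open Groth.Agent.Sga3B.HaarDef K201.HomConv K201.SmoothLift

namespace K202.RelLift

lemma push_conj {R C X Y : Type*} [CommRing R] [CommRing C] [HopfAlgebra R C] [CommRing X]
    [Algebra R X] [CommRing Y] [Algebra R Y] (θ : X →ₐ[R] Y) (a b : WithConv (C →ₐ[R] X)) :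
    pushG θ (a * b * a⁻¹) = pushG θ a * pushG θ b * (pushG θ a)⁻¹ := by
  rw [map_mul, map_mul, map_inv]

theorem main (R : Type u) [CommRing R] (I : Ideal R) (hI : IsNilpotent I)
    (A₁ : Type u) [CommRing A₁] [HopfAlgebra R A₁]
    (A₂ : Type u) [CommRing A₂] [HopfAlgebra R A₂] (μ : Haar R A₁) (α : A₂ →ₐc[R] A₁)
    (C : Type u) [CommRing C] [HopfAlgebra R C] [Algebra.FormallySmooth R C] (β : C →ₐc[R] A₁)
    (γ₀ : ((R ⧸ I) ⊗[R] C) →ₐc[R ⧸ I] ((R ⧸ I) ⊗[R] A₂))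
    (h0 : ∀ c : C, Algebra.TensorProduct.map (AlgHom.id (R ⧸ I) (R ⧸ I)) (α : A₂ →ₐ[R] A₁)
      (γ₀ ((1 : R ⧸ I) ⊗ₜ[R] c)) = (1 : R ⧸ I) ⊗ₜ[R] (β c))
    (γ' : C →ₐc[R] A₂) (hγ' : ∀ c : C, γ₀ ((1 : R ⧸ I) ⊗ₜ[R] c) = (1 : R ⧸ I) ⊗ₜ[R] (γ' c)) :
    ∃ γ : C →ₐc[R] A₂, (∀ c : C, γ₀ ((1 : R ⧸ I) ⊗ₜ[R] c) = (1 : R ⧸ I) ⊗ₜ[R] (γ c)) ∧
      ∀ c : C, α (γ c) = β c := by
  let pR : ∀ {A : Type u} [CommRing A] [HopfAlgebra R A], (C →ₐc[R] A) → WithConv (C →ₐ[R] A ⊗[R] R) :=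
    fun φ => toPt (Bialgebra.TensorProduct.map (BialgHom.id R R) φ)
  have hpR : ∀ {A : Type u} [CommRing A] [HopfAlgebra R A] (φ : C →ₐc[R] A) (c : C),
      pR φ c = φ c ⊗ₜ 1 := fun φ c => rfl
  let F := pR (α.comp γ')
  let F' := pR β
  have hF : IsHom F := isHom_toPt _
  have hF' : IsHom F' := isHom_toPt _
  have hred : pushG (T A₁ (Ideal.Quotient.mkₐ R I)) F = pushG (T A₁ (Ideal.Quotient.mkₐ R I)) F' := by
    apply WithConv.ofConv_injective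
    ext c
    change T A₁ (Ideal.Quotient.mkₐ R I) (F c) = T A₁ (Ideal.Quotient.mkₐ R I) (F' c)
    have e1 : F c = α (γ' c) ⊗ₜ 1 := rfl
    have e2 : F' c = β c ⊗ₜ 1 := rfl
    rw [e1, e2, T_tmul, T_tmul, map_one]
    have h1 := h0 c
    rw [hγ'] at h1
    have h2 : (1 : R ⧸ I) ⊗ₜ[R] α (γ' c) = (1 : R ⧸ I) ⊗ₜ[R] β c := h1
    exact congrArg (TensorProduct.comm R (R ⧸ I) A₁) h2
  obtain ⟨g, hg, hconj⟩ := exists_conj_quot μ I hI F F' hF hF' hred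
  let F₂ := pushG (ι R A₂ R) g * pR γ' * (pushG (ι R A₂ R) g)⁻¹
  have hF₂ : IsHom F₂ := isHom_conj (isHom_toPt _) g
  obtain ⟨γ, hγ⟩ := exists_bialgHom_of_isHom (R := R) (C := C) (A := A₂) (Y := R)
    Function.bijective_id F₂ hF₂
  refine ⟨γ, fun c => ?_, fun c => ?_⟩
  · have h1 : pushG (T A₂ (Ideal.Quotient.mkₐ R I)) F₂ =
        pushG (T A₂ (Ideal.Quotient.mkₐ R I)) (pR γ') := by
      have h2 : pushG (T A₂ (Ideal.Quotient.mkₐ R I)) (pushG (ι R A₂ R) g) = 1 := by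
        have h3 : (T A₂ (Ideal.Quotient.mkₐ R I)).comp (ι R A₂ R) =
            (ι R A₂ (R ⧸ I)).comp (Ideal.Quotient.mkₐ R I) := T_comp_ι _
        rw [pushG_comp, h3, ← pushG_comp, hg, map_one]
      rw [map_mul, map_mul, map_inv, h2, inv_one, mul_one, one_mul]
    have h4 := congrArg (fun G : WithConv (C →ₐ[R] A₂ ⊗[R] (R ⧸ I)) => G c) h1
    have h5 : γ c ⊗ₜ[R] (1 : R ⧸ I) = γ' c ⊗ₜ[R] (1 : R ⧸ I) := by
      have h6 : T A₂ (Ideal.Quotient.mkₐ R I) (F₂ c) = T A₂ (Ideal.Quotient.mkₐ R I) (γ' c ⊗ₜ 1) := h4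
      rw [hγ, T_tmul, T_tmul, map_one] at h6
      exact h6
    rw [hγ']
    exact congrArg (TensorProduct.comm R A₂ (R ⧸ I)) h5.symm
  · let θ : A₂ ⊗[R] R →ₐ[R] A₁ ⊗[R] R := Algebra.TensorProduct.map (α : A₂ →ₐ[R] A₁) (AlgHom.id R R)
    have h1 : pushG θ F₂ = F' := by
      have h2 : pushG θ (pushG (ι R A₂ R) g) = pushG (ι R A₁ R) g := by
        rw [pushG_comp]
        congr 2
        ext
      have h3 : pushG θ (pR γ') = F := by
        apply WithConv.ofConv_injective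
        ext c
        rfl
      refine (push_conj θ _ _).trans ?_
      rw [h2, h3]
      exact hconj.symm
    have h4 := congrArg (fun G : WithConv (C →ₐ[R] A₁ ⊗[R] R) => G c) h1
    have h5 : α (γ c) ⊗ₜ[R] (1 : R) = β c ⊗ₜ[R] (1 : R) := by
      have h6 : θ (F₂ c) = β c ⊗ₜ[R] (1 : R) := h4
      rw [hγ] at h6
      exact h6
    have h6 := congrArg (TensorProduct.rid R A₁) h5
    simpa using h6

end K202.RelLift
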