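import Groth.Prelude.Def_SGA3b
import Mathlib.RingTheory.Bialgebra.MonoidAlgebra
import Mathlib.RingTheory.HopfAlgebra.GroupLike
import Mathlib.RingTheory.Coalgebra.GroupLike

/-!
# Closed subgroups of diagonalisable groups over a field are diagonalisable
-/

set_option autoImplicit false
universe u

open TensorProduct SGA3b Coalgebra Bialgebra

namespace K202.FieldSub

/-- A Hopf algebra over a field which is spanned by group-like elements is diagonalisable. -/
theorem isDiag_of_span {k : Type u} [Field k] {C : Type u} [CommRing C] [HopfAlgebra k C]
    (h : Submodule.span k {a : C | IsGroupLikeElem k a} = ⊤) : IsDiag k C := by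
  let f : MonoidAlgebra k (GroupLike k C) →ₐc[k] C := MonoidAlgebra.liftGroupLikeBialgHom
  have hf : ∀ g : GroupLike k C, f (MonoidAlgebra.single g 1) = g.val := by
    intro g
    simp [f]
  have hinj : Function.Injective f := by
    rw [injective_iff_map_eq_zero]
    intro x hx
    have h1 : ∀ x, f x = Finsupp.linearCombination k (GroupLike.val (R := k) (A := C)) x.coeff := by
      intro x
      induction x using MonoidAlgebra.induction_linear with
      | zero => simp
      | add x y hx hy =>
        rw [map_add, hx, hy, MonoidAlgebra.coeff_add, map_add]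
      | single m r =>
        have h2 : (MonoidAlgebra.single m r : MonoidAlgebra k (GroupLike k C)) =
          r • MonoidAlgebra.single m 1 := by simp
        rw [h2, map_smul, hf]
        simp
    rw [h1] at hx
    have h3 := (linearIndependent_iff.mp
      (linearIndep_groupLikeVal (R := k) (A := C))) _ hx
    apply MonoidAlgebra.coeff_injective
    rw [h3]
    rfl
  have hsurj : Function.Surjective f := by
    intro c
    have hc : c ∈ Submodule.span k {a : C | IsGroupLikeElem k a} := h ▸ Submodule.mem_top
    have hle : Submodule.span k {a : C | IsGroupLikeElem k a} ≤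
        LinearMap.range (f : MonoidAlgebra k (GroupLike k C) →ₗ[k] C) := by
      rw [Submodule.span_le]
      intro a ha
      exact ⟨MonoidAlgebra.single ⟨a, ha⟩ 1, hf _⟩
    obtain ⟨x, hx⟩ := hle hc
    exact ⟨x, hx⟩
  exact ⟨GroupLike k C, inferInstance, ⟨(BialgEquiv.ofBijective f ⟨hinj, hsurj⟩).symm⟩⟩

/-- Closed subgroups of diagonalisable groups over a field are diagonalisable. -/
theorem isDiag_of_surjective {k : Type u} [Field k] {A C : Type u} [CommRing A] [HopfAlgebra k A]
    [CommRing C] [HopfAlgebra k C] (h : IsDiag k A) (π : A →ₐc[k] C) (hπ : Function.Surjective π) :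
    IsDiag k C := by
  obtain ⟨M, _, ⟨e⟩⟩ := h
  apply isDiag_of_span
  rw [eq_top_iff]
  intro c _
  obtain ⟨a, rfl⟩ := hπ c
  obtain ⟨x, rfl⟩ : ∃ x, e.symm x = a := e.symm.surjective a
  induction x using MonoidAlgebra.induction_linear with
  | zero => simp
  | add x y hx hy =>
    rw [map_add, map_add]
    exact Submodule.add_mem _ (hx (by trivial)) (hy (by trivial))
  | single m r =>
    have h1 : (MonoidAlgebra.single m r : MonoidAlgebra k M) = r • MonoidAlgebra.single m 1 := by simp
    rw [h1, map_smul, map_smul]
    apply Submodule.smul_mem
    apply Submodule.subset_span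
    have h2 : IsGroupLikeElem k (MonoidAlgebra.single m 1 : MonoidAlgebra k M) :=
      MonoidAlgebra.isGroupLikeElem_single_one m
    exact (h2.map e.symm).map π

end K202.FieldSub
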