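import Groth.Agent.SGA3b.K202.Kill
import Groth.Agent.SGA3b.K202.FieldSub
import Groth.Agent.SGA3b.K202.DenseField
import Groth.Agent.Sga3A.MTConst
import Mathlib.RingTheory.LocalRing.Module

/-!
# Closed subgroups of groups of multiplicative type over a local ring, with finite closed fibre

`R` a local ring, `A` of multiplicative type and of finite type, `π : A → L` a surjection of Hopf
algebras, `d` the rank of the closed fibre of `L`, assumed finite.
* `torsionIdeal_fibre`: the geometric fibres of `L` are killed by `d!`;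
* `exists_torsionIdeal_eq_bot`: `L` is killed by some `n > 0`;
* `ker_counit_eq_bot`: if `d ≤ 1` then `L = R`.
-/

set_option autoImplicit false
universe u

open TensorProduct SGA3b Coalgebra Bialgebra

namespace K202.SubFib

open Groth.Agent.Sga3A

variable {R : Type u} [CommRing R] [IsLocalRing R]

/-- Nakayama: number of generators. -/
lemma exists_generators (L : Type u) [CommRing L] [Algebra R L] {d : ℕ}
    [Module.Finite (IsLocalRing.ResidueField R) (IsLocalRing.ResidueField R ⊗[R] L)]
    (hd : Module.finrank (IsLocalRing.ResidueField R) (IsLocalRing.ResidueField R ⊗[R] L) = d) :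
    ∃ w : Fin d → L, ∀ (N : Type u) [AddCommGroup N] [Module R N] [Module.Finite R N]
      (f : L →ₗ[R] N), Function.Surjective f →
      Submodule.span R (Set.range fun i => f (w i)) = ⊤ := by
  let k := IsLocalRing.ResidueField R
  let b : Module.Basis (Fin d) k (k ⊗[R] L) := Module.finBasisOfFinrankEq k _ hd
  have hsurj : ∀ x : k ⊗[R] L, ∃ l : L, (1 : k) ⊗ₜ[R] l = x := by
    intro x
    induction x using TensorProduct.induction_on with
    | zero => exact ⟨0, TensorProduct.tmul_zero _ _⟩
    | tmul c l =>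
      obtain ⟨r, rfl⟩ := IsLocalRing.residue_surjective c
      refine ⟨r • l, ?_⟩
      rw [← TensorProduct.smul_tmul]
      congr 1
      rw [Algebra.smul_def, mul_one]
      rfl
    | add x y hx hy =>
      obtain ⟨l, hl⟩ := hx
      obtain ⟨l', hl'⟩ := hy
      exact ⟨l + l', by rw [TensorProduct.tmul_add, hl, hl']⟩
  choose w hw using fun i => hsurj (b i)
  refine ⟨w, fun N _ _ _ f hf => ?_⟩
  rw [← IsLocalRing.map_tensorProduct_mk_eq_top, Submodule.map_span,
    ← Submodule.restrictScalars_span R k Ideal.Quotient.mk_surjective,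
    Submodule.restrictScalars_eq_top_iff, ← Set.range_comp]
  have h1 : (fun i => (TensorProduct.mk R k N 1) (f (w i))) = fun i => (f.baseChange k) (b i) := by
    funext i
    rw [← hw i]
    rfl
  have h2 : Function.Surjective (f.baseChange k) := by
    intro y
    induction y using TensorProduct.induction_on with
    | zero => exact ⟨0, map_zero _⟩
    | tmul c l =>
      obtain ⟨l, rfl⟩ := hf l
      exact ⟨c ⊗ₜ l, rfl⟩
    | add x y hx hy =>
      obtain ⟨l, hl⟩ := hx
      obtain ⟨l', hl'⟩ := hy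
      exact ⟨l + l', by rw [map_add, hl, hl']⟩
  change Submodule.span k (Set.range (fun i => (TensorProduct.mk R k N 1) (f (w i)))) = ⊤
  rw [h1]
  have h3 : Set.range (fun i => (f.baseChange k) (b i)) = (f.baseChange k) '' (Set.range b) := by
    rw [← Set.range_comp]
    rfl
  rw [h3, ← Submodule.map_span, b.span_eq, Submodule.map_top, LinearMap.range_eq_top]
  exact h2

variable {A L : Type u} [CommRing A] [HopfAlgebra R A] [CommRing L] [HopfAlgebra R L]

/-- Over a local base, the torsion of a group of multiplicative type is finite. -/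
lemma finite_quot (hft : Algebra.FiniteType R A) (hA : IsMultType R A) {m : ℕ} (hm : 0 < m) :
    Module.Finite R (A ⧸ torsionIdeal R A m) := by
  obtain ⟨S, _, _, _, M, _, _, ⟨g⟩⟩ := MTConst.exists_gbasis (MultBC.IsMultType.const_of_isLocalRing hA)
  exact MTTorsion.finite_quot g m hm

lemma finite_quot_of_surjective (hft : Algebra.FiniteType R A) (hA : IsMultType R A)
    (π : A →ₐc[R] L) (hπ : Function.Surjective π) {m : ℕ} (hm : 0 < m) :
    Module.Finite R (L ⧸ torsionIdeal R L m) := by
  have h1 := finite_quot hft hA hm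
  let f : (A ⧸ torsionIdeal R A m) →ₐ[R] L ⧸ torsionIdeal R L m :=
    Ideal.Quotient.liftₐ _ ((Ideal.Quotient.mkₐ R _).comp (π : A →ₐ[R] L)) (fun a ha => by
      have h2 := K202.Conv.torsionIdeal_map_le π m (Ideal.mem_map_of_mem _ ha)
      exact Ideal.Quotient.eq_zero_iff_mem.mpr h2)
  refine Module.Finite.of_surjective f.toLinearMap ?_
  intro y
  obtain ⟨l, rfl⟩ := Ideal.Quotient.mk_surjective y
  obtain ⟨a, rfl⟩ := hπ l
  exact ⟨Ideal.Quotient.mk _ a, rfl⟩

/-- The geometric fibres of a closed subgroup of a group of multiplicative type over a local ring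
are killed by `d!`, where `d` is the rank of the closed fibre. -/
theorem torsionIdeal_fibre (hft : Algebra.FiniteType R A) (hA : IsMultType R A)
    (π : A →ₐc[R] L) (hπ : Function.Surjective π)
    [Module.Finite (IsLocalRing.ResidueField R) (IsLocalRing.ResidueField R ⊗[R] L)] {d : ℕ}
    (hd : Module.finrank (IsLocalRing.ResidueField R) (IsLocalRing.ResidueField R ⊗[R] L) = d)
    (Ω : Type u) [Field Ω] [IsAlgClosed Ω] [Algebra R Ω] :
    torsionIdeal Ω (Ω ⊗[R] L) d.factorial = ⊥ := by
  classical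
  obtain ⟨w, hw⟩ := exists_generators L hd
  -- the fibre is diagonalisable
  have hAΩ : IsMultType Ω (Ω ⊗[R] A) := NilDescent.isMultType_baseChange Ω hA
  obtain ⟨M₀, _, _, hM₀⟩ := K202.DenseField.isDiagFT_of_isAlgClosed Ω (Ω ⊗[R] A) inferInstance hAΩ
  have hsurjΩ : Function.Surjective (Bialgebra.TensorProduct.map (BialgHom.id Ω Ω) π :
      Ω ⊗[R] A →ₐc[Ω] Ω ⊗[R] L) := by
    intro y
    induction y with
    | zero => exact ⟨0, map_zero _⟩
    | add x y hx hy =>
      obtain ⟨x', rfl⟩ := hx
      obtain ⟨y', rfl⟩ := hy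
      exact ⟨x' + y', map_add _ _ _⟩
    | tmul s b =>
      obtain ⟨a, rfl⟩ := hπ b
      exact ⟨s ⊗ₜ a, rfl⟩
  have hft' : Algebra.FiniteType R L :=
    Algebra.FiniteType.of_surjective (π : A →ₐ[R] L) hπ
  obtain ⟨M, _, ⟨E⟩⟩ := K202.FieldSub.isDiag_of_surjective ⟨M₀, _, hM₀⟩ _ hsurjΩ
  have hM : Group.FG M := by
    have hft2 : Algebra.FiniteType Ω (MonoidAlgebra Ω M) :=
      Algebra.FiniteType.equiv inferInstance (E : (Ω ⊗[R] L) ≃ₐ[Ω] MonoidAlgebra Ω M)
    exact MonoidAlgebra.finiteType_iff_group_fg.mp hft2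
  -- the bound
  have hcard : ∀ m : ℕ, 0 < m → Nat.card (MTTorsion.Q M m) ≤ d := by
    intro m hm
    have hfinQ : Finite (MTTorsion.Q M m) := MTTorsion.finite_Q M m hm
    have hfin := finite_quot_of_surjective hft hA π hπ hm
    let mkL : L →ₐ[R] L ⧸ torsionIdeal R L m := Ideal.Quotient.mkₐ R _
    have hspan := hw (L ⧸ torsionIdeal R L m) mkL.toLinearMap Ideal.Quotient.mk_surjective
    -- `L → Ω[M/m]`
    let θ₀ : Ω ⊗[R] L →ₐ[Ω] MonoidAlgebra Ω (MTTorsion.Q M m) :=
      (TorsionDense.modPow Ω M m).comp (E : Ω ⊗[R] L →ₐ[Ω] MonoidAlgebra Ω M)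
    have hθ₀ : Function.Surjective θ₀ := by
      intro y
      have h1 : Function.Surjective (TorsionDense.modPow Ω M m) := by
        intro y
        induction y using MonoidAlgebra.induction_linear with
        | zero => exact ⟨0, map_zero _⟩
        | add x y hx hy =>
          obtain ⟨x', rfl⟩ := hx
          obtain ⟨y', rfl⟩ := hy
          exact ⟨x' + y', map_add _ _ _⟩
        | single q r =>
          obtain ⟨q, rfl⟩ := QuotientGroup.mk_surjective q
          refine ⟨MonoidAlgebra.single q r, ?_⟩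
          simp [TorsionDense.modPow_single]
      obtain ⟨x, rfl⟩ := h1 y
      obtain ⟨z, rfl⟩ := E.surjective x
      exact ⟨z, rfl⟩
    let θ₁ : L →ₐ[R] MonoidAlgebra Ω (MTTorsion.Q M m) :=
      (θ₀.restrictScalars R).comp (Algebra.TensorProduct.includeRight : L →ₐ[R] Ω ⊗[R] L)
    have hθ₁ : ∀ l ∈ torsionIdeal R L m, θ₁ l = 0 := by
      intro l hl
      have h1 := TorsionDense.torsionIdeal_le_comap_includeRight R L Ω m hl
      rw [Ideal.mem_comap] at h1
      have h2 := TorsionDense.torsionIdeal_le_comap Ω (Ω ⊗[R] L)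
        (E : Ω ⊗[R] L →ₐc[Ω] MonoidAlgebra Ω M) m h1
      rw [Ideal.mem_comap] at h2
      exact TorsionDense.torsionIdeal_le_ker_modPow Ω M m h2
    let θ₂ : L ⧸ torsionIdeal R L m →ₐ[R] MonoidAlgebra Ω (MTTorsion.Q M m) :=
      Ideal.Quotient.liftₐ _ θ₁ hθ₁
    let θ : Ω ⊗[R] (L ⧸ torsionIdeal R L m) →ₐ[Ω] MonoidAlgebra Ω (MTTorsion.Q M m) :=
      Algebra.TensorProduct.lift (Algebra.ofId _ _) θ₂ (fun _ _ => .all _ _)
    have hθ : ∀ (c : Ω) (l : L), θ (c ⊗ₜ mkL l) = θ₀ (c ⊗ₜ l) := by
      intro c l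
      have e1 : θ (c ⊗ₜ mkL l) = algebraMap Ω _ c * θ₀ (1 ⊗ₜ l) :=
        Algebra.TensorProduct.lift_tmul _ _ _ _ _
      have e2 : (c ⊗ₜ[R] l : Ω ⊗[R] L) = algebraMap Ω _ c * (1 ⊗ₜ l) := by
        rw [Algebra.TensorProduct.algebraMap_apply, Algebra.TensorProduct.tmul_mul_tmul,
          Algebra.algebraMap_self, RingHom.id_apply, mul_one, one_mul]
      rw [e1, e2, map_mul, AlgHom.commutes]
    have hspanΩ : Submodule.span Ω (Set.range fun i => θ₀ (1 ⊗ₜ w i)) = ⊤ := by
      rw [eq_top_iff]
      intro y _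
      obtain ⟨x, rfl⟩ := hθ₀ y
      have key : ∀ l : L, θ₀ (1 ⊗ₜ l) ∈ Submodule.span Ω (Set.range fun i => θ₀ (1 ⊗ₜ w i)) := by
        intro l
        have h1 : mkL l ∈ Submodule.span R (Set.range fun i => mkL.toLinearMap (w i)) :=
          hspan ▸ Submodule.mem_top
        have h2 : (θ₂.toLinearMap) (mkL l) ∈ (Submodule.span R
            (Set.range fun i => mkL.toLinearMap (w i))).map θ₂.toLinearMap :=
          Submodule.mem_map_of_mem h1
        rw [Submodule.map_span, ← Set.range_comp] at h2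
        exact Submodule.span_le_restrictScalars R Ω _ h2
      induction x using TensorProduct.induction_on with
      | zero => rw [map_zero]; exact zero_mem _
      | tmul c l =>
        have e2 : (c ⊗ₜ[R] l : Ω ⊗[R] L) = c • (1 ⊗ₜ l) := by
          rw [TensorProduct.smul_tmul', smul_eq_mul, mul_one]
        rw [e2, map_smul]
        exact Submodule.smul_mem _ _ (key l)
      | add x y hx hy =>
        rw [map_add]
        exact Submodule.add_mem _ (hx trivial) (hy trivial)
    have h1 : Module.finrank Ω (MonoidAlgebra Ω (MTTorsion.Q M m)) ≤ d := by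
      have := finrank_range_le_card (R := Ω) (fun i : Fin d => θ₀ (1 ⊗ₜ w i))
      rw [Set.finrank, hspanΩ, finrank_top, Fintype.card_fin] at this
      exact this
    have h2 : Module.finrank Ω (MonoidAlgebra Ω (MTTorsion.Q M m)) = Nat.card (MTTorsion.Q M m) :=
      Module.finrank_eq_nat_card_basis (MonoidAlgebra.basis _ _)
    rwa [h2] at h1
  -- the group `M` is killed by `d!`
  have hkill : ∀ x : M, x ^ d.factorial = 1 := by
    intro x
    have h1 : ∀ m : ℕ, 0 < m → TorsionDense.modPow Ω M m
        (MonoidAlgebra.single (x ^ d.factorial) (1 : Ω) - 1) = 0 := by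
      intro m hm
      have hfinQ : Finite (MTTorsion.Q M m) := MTTorsion.finite_Q M m hm
      have h2 : (QuotientGroup.mk x : MTTorsion.Q M m) ^ d.factorial = 1 := by
        have h3 : orderOf (QuotientGroup.mk x : MTTorsion.Q M m) ∣ d.factorial :=
          (orderOf_dvd_natCard _).trans (Nat.dvd_factorial Nat.card_pos (hcard m hm))
        exact orderOf_dvd_iff_pow_eq_one.mp h3
      rw [map_sub, map_one, TorsionDense.modPow_single]
      have h4 : (QuotientGroup.mk' (powMonoidHom m : M →* M).range) (x ^ d.factorial) = 1 := by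
        rw [map_pow]
        exact h2
      rw [h4, MonoidAlgebra.one_def, sub_self]
    obtain ⟨N, hN⟩ := TorsionDense.density (1 : MonoidAlgebra Ω M)
      (MonoidAlgebra.single (x ^ d.factorial) (1 : Ω) - 1)
      (fun m hm => ⟨0, by rw [pow_zero, one_mul]; exact h1 m hm⟩)
    rw [one_pow, one_mul, sub_eq_zero, MonoidAlgebra.one_def] at hN
    exact MonoidAlgebra.single_left_injective (R := Ω) one_ne_zero hN
  rw [PowConv.torsionIdeal_eq_bot_iff]
  exact PowConv.powConv_trivial_of_equiv Ω _ E.symm _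
    ((PowConv.powConv_trivial_monoidAlgebra Ω _).mpr hkill)

theorem exists_torsionIdeal_eq_bot (hft : Algebra.FiniteType R A) (hA : IsMultType R A)
    (π : A →ₐc[R] L) (hπ : Function.Surjective π)
    [Module.Finite (IsLocalRing.ResidueField R) (IsLocalRing.ResidueField R ⊗[R] L)] :
    ∃ n : ℕ, 0 < n ∧ torsionIdeal R L n = ⊥ := by
  have hft' : Algebra.FiniteType R L := Algebra.FiniteType.of_surjective (π : A →ₐ[R] L) hπ
  obtain ⟨j, hj⟩ := K202.Kill.exists_torsionIdeal_eq_bot hft' _
    (fun Ω _ _ _ => torsionIdeal_fibre hft hA π hπ rfl Ω)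
  exact ⟨_, pow_pos (Nat.factorial_pos _) j, hj⟩

/-- If the closed fibre is trivial, so is the group. -/
theorem ker_counit_eq_bot (hft : Algebra.FiniteType R A) (hA : IsMultType R A)
    (π : A →ₐc[R] L) (hπ : Function.Surjective π)
    [Module.Finite (IsLocalRing.ResidueField R) (IsLocalRing.ResidueField R ⊗[R] L)]
    (hd : Module.finrank (IsLocalRing.ResidueField R) (IsLocalRing.ResidueField R ⊗[R] L) ≤ 1) :
    RingHom.ker (counitAlgHom R L) = ⊥ := by
  have hft' : Algebra.FiniteType R L := Algebra.FiniteType.of_surjective (π : A →ₐ[R] L) hπ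
  obtain ⟨j, hj⟩ := K202.Kill.exists_torsionIdeal_eq_bot hft' 1
    (fun Ω _ _ _ => by
      have h1 := torsionIdeal_fibre hft hA π hπ rfl Ω
      rwa [Nat.factorial_eq_one.mpr hd] at h1)
  rw [one_pow, PowConv.torsionIdeal_eq_bot_iff] at hj
  rw [eq_bot_iff]
  intro x hx
  have h1 := hj x
  have h2 : powConv R L 1 x = x := by
    have h3 : (WithConv.toConv (AlgHom.id R L)) ^ 1 = WithConv.toConv (AlgHom.id R L) := pow_one _
    exact congr($h3 x)
  have h4 : counit (R := R) x = 0 := hx
  rw [h2, h4, map_zero] at h1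
  rw [h1]
  exact zero_mem _

end K202.SubFib
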