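import Groth.Agent.SGA3b.K202.NoethDesc
import Groth.Agent.SGA3b.K201.OpenIsotriv
import Groth.Agent.SGA3b.K201.TorsFib
import Groth.Agent.Sga3A.GeomConn
import Groth.Agent.S2974
import Groth.Agent.S0543
import Groth.Agent.S5285

/-!
# Groups over a local ring with closed fibre of multiplicative type
-/

set_option autoImplicit false
universe u
open TensorProduct SGA3b Groth.Agent.Sga3A K201 IsLocalRing

namespace K202.LocalMT

/-- transport of a clopen subgroup along an isomorphism -/
theorem span_equiv {R Y Z : Type u} [CommRing R] [CommRing Y] [CommRing Z] [HopfAlgebra R Y] [HopfAlgebra R Z]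
    (ψ : Y ≃ₐc[R] Z) (y : Y) [(Ideal.span {y}).IsHopfIdeal R] :
    ∃ _ : (Ideal.span {ψ y}).IsHopfIdeal R, Nonempty ((Z ⧸ Ideal.span {ψ y}) ≃ₐc[R] (Y ⧸ Ideal.span {y})) := by
  let q : Y →ₐc[R] Y ⧸ Ideal.span {y} := Bialgebra.Quotient.mkBialgHom (Ideal.span {y})
  let f : Z →ₐc[R] Y ⧸ Ideal.span {y} := q.comp (ψ.symm : Z →ₐc[R] Y)
  have hf : Function.Surjective f := by
    intro b
    obtain ⟨c, rfl⟩ := Ideal.Quotient.mk_surjective b
    refine ⟨ψ c, ?_⟩
    change q (ψ.symm (ψ c)) = _
    rw [BialgEquiv.symm_apply_apply]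
    rfl
  have hker : RingHom.ker f = Ideal.span {ψ y} := by
    ext z
    have h1 : f z = Ideal.Quotient.mk (Ideal.span {y}) (ψ.symm z) := rfl
    rw [RingHom.mem_ker, h1, Ideal.Quotient.eq_zero_iff_mem, Ideal.mem_span_singleton', Ideal.mem_span_singleton']
    constructor
    · rintro ⟨a, ha⟩
      refine ⟨ψ a, ?_⟩
      rw [← map_mul, ha]
      exact BialgEquiv.apply_symm_apply ψ z
    · rintro ⟨a, ha⟩
      refine ⟨ψ.symm a, ?_⟩
      rw [← ha, map_mul, BialgEquiv.symm_apply_apply]
  have hH : (Ideal.span {ψ y}).IsHopfIdeal R := by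
    have := OpenIsotriv.isHopfIdeal_ker_of_surjective f hf
    rwa [hker] at this
  obtain ⟨E, -⟩ := OpenIsotriv.exists_quotEquiv f hf (Ideal.span {ψ y}) (fun a => by rw [← hker]; rfl)
  exact ⟨hH, ⟨E⟩⟩

/-- if the clopen subgroup defined by an idempotent `e` is everything, the group is of multiplicative type -/
theorem isMultType_of_eq_zero {R Y : Type u} [CommRing R] [CommRing Y] [HopfAlgebra R Y] {e : Y}
    [(Ideal.span {e}).IsHopfIdeal R] (h : IsMultType R (Y ⧸ Ideal.span {e})) (he : e = 0) : IsMultType R Y := by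
  let q : Y →ₐc[R] Y ⧸ Ideal.span {e} := Bialgebra.Quotient.mkBialgHom (Ideal.span {e})
  have hq : Function.Bijective q := by
    refine ⟨?_, Ideal.Quotient.mk_surjective⟩
    rw [injective_iff_map_eq_zero]
    intro a ha
    have h1 : a ∈ Ideal.span {e} := Ideal.Quotient.eq_zero_iff_mem.mp ha
    rw [he, Ideal.span_singleton_eq_bot.mpr rfl] at h1
    exact h1
  exact QIBC.isMultType_congr (BialgEquiv.ofBijective q hq).symm h

/-- base change and transport of a clopen subgroup of multiplicative type -/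
theorem transport {A X R Z : Type u} [CommRing A] [CommRing X] [HopfAlgebra A X] [CommRing R] [Algebra A R]
    [CommRing Z] [HopfAlgebra R Z] (ψ : R ⊗[A] X ≃ₐc[R] Z) {e₀ : X} [(Ideal.span {e₀}).IsHopfIdeal A]
    (hG : IsMultType A (X ⧸ Ideal.span {e₀})) (he₀ : IsIdempotentElem e₀) {I : Ideal A}
    (heI : e₀ ∈ Ideal.map (algebraMap A X) I) {J : Ideal R} (hIJ : I.map (algebraMap A R) ≤ J) :
    ∃ e : Z, IsIdempotentElem e ∧ e ∈ Ideal.map (algebraMap R Z) J ∧
      ∃ _ : (Ideal.span {e}).IsHopfIdeal R, IsMultType R (Z ⧸ Ideal.span {e}) := by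
  obtain ⟨hH', ⟨E⟩⟩ := OpenIsotriv.exists_quot_baseChange (R := A) (C := X) (e := e₀) R
  obtain ⟨hH'', ⟨E'⟩⟩ := span_equiv ψ ((1 : R) ⊗ₜ[A] e₀)
  refine ⟨ψ (1 ⊗ₜ e₀), ?_, ?_, hH'', ?_⟩
  · change ψ (1 ⊗ₜ e₀) * ψ (1 ⊗ₜ e₀) = ψ (1 ⊗ₜ e₀)
    rw [← map_mul, Algebra.TensorProduct.tmul_mul_tmul, one_mul, he₀.eq]
  · let g : X →+* Z := (AlgEquivClass.toAlgEquiv ψ : R ⊗[A] X ≃ₐ[R] Z).toRingEquiv.toRingHom.comp
      (Algebra.TensorProduct.includeRight : X →ₐ[A] R ⊗[A] X).toRingHom
    have hg : g.comp (algebraMap A X) = (algebraMap R Z).comp (algebraMap A R) := by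
      ext x
      change (AlgEquivClass.toAlgEquiv ψ : R ⊗[A] X ≃ₐ[R] Z) ((1 : R) ⊗ₜ[A] (algebraMap A X x)) =
        algebraMap R Z (algebraMap A R x)
      rw [← AlgEquiv.commutes (AlgEquivClass.toAlgEquiv ψ : R ⊗[A] X ≃ₐ[R] Z) (algebraMap A R x)]
      exact congrArg _ (Algebra.TensorProduct.tmul_one_eq_one_tmul x).symm
    have h1 : g e₀ ∈ Ideal.map g (Ideal.map (algebraMap A X) I) := Ideal.mem_map_of_mem g heI
    rw [Ideal.map_map, hg, ← Ideal.map_map] at h1
    exact (Ideal.map_mono (f := algebraMap R Z) hIJ) h1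
  · have hG' : IsMultType R ((R ⊗[A] X) ⧸ Ideal.span {(1 : R) ⊗ₜ[A] e₀}) :=
      QIBC.isMultType_congr E.symm (NilDescent.isMultType_baseChange R hG)
    exact QIBC.isMultType_congr E'.symm hG'

/-- a faithfully flat algebra over a local ring has a local faithfully flat localisation -/
theorem exists_local_ff {R : Type u} [CommRing R] [IsLocalRing R] (D : Type u) [CommRing D] [Algebra R D]
    [Module.FaithfullyFlat R D] :
    ∃ (R' : Type u) (_ : CommRing R') (_ : IsLocalRing R') (_ : Algebra R R') (_ : Algebra D R'),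
      IsScalarTower R D R' ∧ Module.FaithfullyFlat R R' ∧ IsLocalHom (algebraMap R R') := by
  obtain ⟨P, hP, hPo⟩ := Ideal.exists_isPrime_liesOver_of_faithfullyFlat (B := D) (maximalIdeal R)
  let R' := Localization.AtPrime P
  have hflR' : Module.Flat R R' := Module.Flat.trans R D R'
  have hcomap : (maximalIdeal R').comap (algebraMap R R') = maximalIdeal R := by
    rw [IsScalarTower.algebraMap_eq R D R', ← Ideal.comap_comap]
    rw [show (maximalIdeal R').comap (algebraMap D R') = P from Localization.AtPrime.under_maximalIdeal (I := P)]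
    exact hPo.over.symm
  have hloc : IsLocalHom (algebraMap R R') := ((IsLocalRing.local_hom_TFAE (algebraMap R R')).out 4 0).mp hcomap
  exact ⟨R', inferInstance, inferInstance, inferInstance, inferInstance, inferInstance,
    Module.FaithfullyFlat.of_flat_of_isLocalHom, hloc⟩

/-- **Extension of the completion.** Over a local ring `R`, a finitely presented group flat along the closed fibre
and with closed fibre of multiplicative type has, after a local faithfully flat extension `R'`, an open and closed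
subgroup of multiplicative type with the same closed fibre. -/
theorem exists_ext {R : Type u} [CommRing R] [IsLocalRing R] (C : Type u) [CommRing C] [HopfAlgebra R C]
    [Algebra.FinitePresentation R C]
    (hfl : ∀ (q : Ideal C) [q.IsPrime], Ideal.map (algebraMap R C) (IsLocalRing.maximalIdeal R) ≤ q →
      Module.Flat R (Localization.AtPrime q))
    (hs : IsMultType (IsLocalRing.ResidueField R) (IsLocalRing.ResidueField R ⊗[R] C)) :
    ∃ (R' : Type u) (_ : CommRing R') (_ : IsLocalRing R') (_ : Algebra R R') (_ : Module.FaithfullyFlat R R')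
      (e : R' ⊗[R] C), IsIdempotentElem e ∧
      e ∈ Ideal.map (algebraMap R' (R' ⊗[R] C)) (IsLocalRing.maximalIdeal R') ∧
      ∃ _ : (Ideal.span {e}).IsHopfIdeal R', IsMultType R' ((R' ⊗[R] C) ⧸ Ideal.span {e}) := by
  obtain ⟨A, _, _, _, X, _, _, _, _, _, ⟨ε⟩, hflA, hsA⟩ := NoethDesc.exists_local_model C hfl hs
  let Â := AdicCompletion (maximalIdeal A) A
  have hN : IsNoetherianRing Â := Groth.Agent.S0543.result A (maximalIdeal A)
  -- the group over the completion
  let X' := Â ⊗[A] X
  have hfl' : ∀ (q : Ideal X') [q.IsPrime], Ideal.map (algebraMap Â X') (maximalIdeal Â) ≤ q →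
      Module.Flat Â (Localization.AtPrime q) := by
    intro q hq hqm
    refine NoethDesc.flat_baseChange X Â (maximalIdeal A) ?_ (maximalIdeal Â)
      (IsLocalRing.maximalIdeal_comap (algebraMap A Â)).symm q
      (NoethDesc.liesOver_of_map_le q hqm)
    intro q hq h
    exact hflA q (by rw [Ideal.map_le_iff_le_comap]; exact h.over.le)
  have hs' : IsMultType (ResidueField Â) (ResidueField Â ⊗[Â] X') := by
    let _ : Algebra (ResidueField A) (ResidueField Â) := (ResidueField.map (algebraMap A Â)).toAlgebra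
    have : IsScalarTower A (ResidueField A) (ResidueField Â) := .of_algebraMap_eq fun x =>
      (ResidueField.map_residue (algebraMap A Â) x).symm
    exact QIBC.isMultType_congr ((BCIso.cancelBialg A (ResidueField A) (ResidueField Â) X).trans
      (BCIso.cancelBialg A Â (ResidueField Â) X).symm) (NilDescent.isMultType_baseChange (ResidueField Â) hsA)
  have h0 : IsIsotrivial (Â ⧸ maximalIdeal Â) ((Â ⧸ maximalIdeal Â) ⊗[Â] X') :=
    Groth.Agent.S2974.result (ResidueField Â) (ResidueField Â ⊗[Â] X') inferInstance hs'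
  obtain ⟨e₀, he₀, heI, hH, hG⟩ := Groth.Agent.S5285.result Â (maximalIdeal Â) X' inferInstance hfl' h0
  -- the extension
  let D := R ⊗[A] Â
  have hff : Module.FaithfullyFlat A Â := Module.FaithfullyFlat.of_flat_of_isLocalHom
  have hffD : Module.FaithfullyFlat R D := inferInstance
  obtain ⟨R', _, _, _, _, _, hffR', _⟩ := exists_local_ff (R := R) D
  let _ : Algebra Â R' := ((algebraMap D R').comp
    (Algebra.TensorProduct.includeRight : Â →ₐ[A] D).toRingHom).toAlgebra
  let _ : Algebra A R' := ((algebraMap R R').comp (algebraMap A R)).toAlgebra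
  have t2 : IsScalarTower A R R' := .of_algebraMap_eq' rfl
  have t1 : IsScalarTower A Â R' := .of_algebraMap_eq fun x => by
    change algebraMap R R' (algebraMap A R x) = algebraMap D R' (1 ⊗ₜ[A] algebraMap A Â x)
    rw [IsScalarTower.algebraMap_apply R D R']
    congr 1
    exact Algebra.TensorProduct.tmul_one_eq_one_tmul x
  let ψ : R' ⊗[Â] X' ≃ₐc[R'] R' ⊗[R] C :=
    (BCIso.cancelBialg A Â R' X).trans ((BCIso.cancelBialg A R R' X).symm.trans (BCIso.congrBialg R' ε))
  refine ⟨R', inferInstance, inferInstance, inferInstance, hffR', ?_⟩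
  refine transport (Z := R' ⊗[R] C) ψ (Isotriv.isMultType_of_isIsotrivial hG) he₀ heI ?_
  rw [AdicCompletion.maximalIdeal_eq_map, Ideal.map_map, ← IsScalarTower.algebraMap_eq,
    IsScalarTower.algebraMap_eq A R R', ← Ideal.map_map]
  exact (Ideal.map_mono (IsLocalRing.map_maximalIdeal_le (algebraMap A R))).trans
    (IsLocalRing.map_maximalIdeal_le (algebraMap R R'))

theorem counit_eq_zero {R Y : Type u} [CommRing R] [CommRing Y] [HopfAlgebra R Y] {e : Y}
    [h : (Ideal.span {e}).IsHopfIdeal R] : Coalgebra.counit (R := R) e = 0 :=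
  h.counit_eq_zero (Submodule.mem_span_singleton_self (R := Y) e)

/-- a clopen subgroup of a group with connected fibres is the whole group -/
theorem eq_zero_of_connected {R : Type u} [CommRing R] {C : Type u} [CommRing C] [HopfAlgebra R C]
    (hconn : ∀ (p : Ideal R) [p.IsPrime], ConnectedSpace (PrimeSpectrum (p.ResidueField ⊗[R] C)))
    (R' : Type u) [CommRing R'] [Algebra R R'] {e : R' ⊗[R] C} (he : IsIdempotentElem e)
    (h0 : Coalgebra.counit (R := R') e = 0) : e = 0 := by
  refine OpenIsotriv.eq_zero_of_isNilpotent he (OpenIsotriv.isNilpotent_of_fibres (R := R') e fun P _ => ?_)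
  let p : Ideal R := P.comap (algebraMap R R')
  have := hconn p
  let K := p.ResidueField
  let L := P.ResidueField
  let _ : Algebra K L := (Ideal.ResidueField.map p P (algebraMap R R') rfl).toAlgebra
  let _ : Algebra R L := ((algebraMap R' L).comp (algebraMap R R')).toAlgebra
  have : IsScalarTower R R' L := .of_algebraMap_eq' rfl
  have : IsScalarTower R K L := .of_algebraMap_eq fun x =>
    (Ideal.ResidueField.map_algebraMap p P (algebraMap R R') rfl x).symm
  let Θ : L ⊗[R'] (R' ⊗[R] C) ≃ₐc[L] L ⊗[K] (K ⊗[R] C) :=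
    (BCIso.cancelBialg R R' L C).trans (BCIso.cancelBialg R K L C).symm
  have hf : IsIdempotentElem (Θ (1 ⊗ₜ e)) := by
    change Θ (1 ⊗ₜ e) * Θ (1 ⊗ₜ e) = Θ (1 ⊗ₜ e)
    rw [← map_mul, Algebra.TensorProduct.tmul_mul_tmul, one_mul, he.eq]
  have h1 : Coalgebra.counit (R := L) ((1 : L) ⊗ₜ[R'] e) = 0 := by
    rw [TensorProduct.counit_tmul, h0, zero_smul]
  have h2 : Coalgebra.counit (R := L) (Θ (1 ⊗ₜ e)) = 0 := by
    rw [← h1]
    exact CoalgHomClass.counit_comp_apply Θ _
  have h3 : GeomConn.sp L (Bialgebra.counitAlgHom K (K ⊗[R] C)) = Bialgebra.counitAlgHom L (L ⊗[K] (K ⊗[R] C)) := by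
    apply Algebra.TensorProduct.ext' 
    intro l b
    rw [GeomConn.sp_tmul]
    change _ = Coalgebra.counit (R := L) (l ⊗ₜ[K] b)
    rw [TensorProduct.counit_tmul, Algebra.smul_def, mul_comm]
    rfl
  have h4 : Θ (1 ⊗ₜ e) = 0 := by
    refine GeomConn.eq_zero_of_sp_eq_zero (Bialgebra.counitAlgHom K (K ⊗[R] C)) _ hf ?_
    rw [h3]
    exact h2
  exact (map_eq_zero_iff Θ (EquivLike.injective Θ)).mp h4

/-- S5298 -/
theorem isMultType_of_connected {R : Type u} [CommRing R] [IsLocalRing R] (C : Type u) [CommRing C] [HopfAlgebra R C]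
    [Algebra.FinitePresentation R C]
    (hfl : ∀ (q : Ideal C) [q.IsPrime], Ideal.map (algebraMap R C) (IsLocalRing.maximalIdeal R) ≤ q →
      Module.Flat R (Localization.AtPrime q))
    (hs : IsMultType (IsLocalRing.ResidueField R) (IsLocalRing.ResidueField R ⊗[R] C))
    (hconn : ∀ (p : Ideal R) [p.IsPrime], ConnectedSpace (PrimeSpectrum (p.ResidueField ⊗[R] C))) :
    IsMultType R C := by
  obtain ⟨R', _, _, _, _, e, he, heI, hH, hG⟩ := exists_ext C hfl hs
  exact NoethDesc.isMultType_of_ff R' (isMultType_of_eq_zero hG (eq_zero_of_connected hconn R' he counit_eq_zero))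

/-- S5299 -/
theorem isMultType_of_torsion {R : Type u} [CommRing R] [IsLocalRing R] (C : Type u) [CommRing C] [HopfAlgebra R C]
    [Coalgebra.IsCocomm R C] [Algebra.FinitePresentation R C]
    (hfl : ∀ (q : Ideal C) [q.IsPrime], Ideal.map (algebraMap R C) (IsLocalRing.maximalIdeal R) ≤ q →
      Module.Flat R (Localization.AtPrime q))
    (hs : IsMultType (IsLocalRing.ResidueField R) (IsLocalRing.ResidueField R ⊗[R] C))
    (hfin : ∀ n : ℕ, 0 < n → Module.Finite R (C ⧸ torsionIdeal R C n)) :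
    IsMultType R C := by
  obtain ⟨R', _, _, _, _, e, he, heI, hH, hG⟩ := exists_ext C hfl hs
  refine NoethDesc.isMultType_of_ff R' (isMultType_of_eq_zero hG ?_)
  exact OpenIsotriv.eq_zero_of_torsion (I := IsLocalRing.maximalIdeal R') (IsLocalRing.maximalIdeal_le_jacobson ⊥)
    he heI hG (fun n hn => TorsFib.finite_torsion_baseChange R' n (hfin n hn))

end K202.LocalMT
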