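import Groth.Agent.SGA3b.K202.SubringDesc
import Groth.Agent.Fdesc.PureModel
import Groth.Agent.Sga3A.NilDescent
import Groth.Agent.SGA3b.K201.QIBC

/-!
# Noetherian reduction: a finitely presented Hopf algebra, flat along the fibre over a prime `p` whose fibre is of
multiplicative type, comes from a finitely generated `ℤ`-subalgebra with the same properties
-/

set_option autoImplicit false
universe u
open TensorProduct SGA3b Groth.Agent.Sga3A K201

namespace K202.NoethDesc

/-- multiplicative type (constant) descends along faithfully flat maps -/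
theorem isMultTypeConst_of_ff {R : Type u} [CommRing R] {A : Type u} [CommRing A] [HopfAlgebra R A] (S : Type u)
    [CommRing S] [Algebra R S] [Module.FaithfullyFlat R S] (h : IsMultTypeConst S (S ⊗[R] A)) :
    IsMultTypeConst R A := by
  obtain ⟨E, _, _, hff, hd⟩ := h
  let _ : Algebra R E := ((algebraMap S E).comp (algebraMap R S)).toAlgebra
  have : IsScalarTower R S E := .of_algebraMap_eq' rfl
  exact ⟨E, _, _, Module.FaithfullyFlat.trans R S E, MultBC.isDiag_tower hd⟩

theorem isMultType_of_const {R A : Type u} [CommRing R] [CommRing A] [HopfAlgebra R A]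
    (h : IsMultTypeConst R A) : IsMultType R A := by
  obtain ⟨S, _, _, hS, hd⟩ := h
  refine ⟨{1}, by simp, ?_⟩
  rintro f rfl
  let R₁ := Localization.Away (1 : R)
  refine ⟨R₁ ⊗[R] S, inferInstance, inferInstance, inferInstance, ?_⟩
  have h1 := NilDescent.isDiag_of_algHom (Algebra.TensorProduct.includeRight : S →ₐ[R] R₁ ⊗[R] S) hd
  exact MultBC.isDiag_tower' h1

/-- multiplicative type descends along faithfully flat maps with local target -/
theorem isMultType_of_ff {R : Type u} [CommRing R] {A : Type u} [CommRing A] [HopfAlgebra R A] (S : Type u)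
    [CommRing S] [Algebra R S] [IsLocalRing S] [Module.FaithfullyFlat R S] (h : IsMultType S (S ⊗[R] A)) :
    IsMultType R A :=
  isMultType_of_const (isMultTypeConst_of_ff S (MultBC.IsMultType.const_of_isLocalRing h))

/-- flatness at a prime, in the two forms -/
theorem flat_localizedModule_iff {R S : Type u} [CommRing R] [CommRing S] [Algebra R S] (q : Ideal S) [q.IsPrime] :
    Module.Flat R (LocalizedModule q.primeCompl S) ↔ Module.Flat R (Localization.AtPrime q) := by
  let e : LocalizedModule q.primeCompl S ≃ₗ[S] Localization.AtPrime q :=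
    IsLocalizedModule.iso q.primeCompl (Algebra.linearMap S (Localization.AtPrime q))
  exact ⟨fun h => Module.Flat.of_linearEquiv (e.restrictScalars R).symm,
    fun h => Module.Flat.of_linearEquiv (e.restrictScalars R)⟩

/-- flatness at a prime is invariant under isomorphisms -/
theorem flat_of_equiv {R S T : Type u} [CommRing R] [CommRing S] [CommRing T] [Algebra R S] [Algebra R T]
    (e : S ≃ₐ[R] T) (q : Ideal S) [q.IsPrime] (q' : Ideal T) [q'.IsPrime] (hq : q'.comap e = q)
    (h : Module.Flat R (Localization.AtPrime q')) : Module.Flat R (Localization.AtPrime q) := by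
  have hM : q.primeCompl.map (e : S →* T) = q'.primeCompl := by
    ext x
    constructor
    · rintro ⟨y, hy, rfl⟩
      subst hq
      exact hy
    · intro hx
      refine ⟨e.symm x, ?_, e.apply_symm_apply x⟩
      subst hq
      change e (e.symm x) ∉ q'
      rw [e.apply_symm_apply]
      exact hx
  let f := IsLocalization.ringEquivOfRingEquiv (M := q.primeCompl) (T := q'.primeCompl) (Localization.AtPrime q)
    (Localization.AtPrime q') e.toRingEquiv hM
  let g : Localization.AtPrime q ≃ₐ[R] Localization.AtPrime q' := AlgEquiv.ofRingEquiv (f := f) (by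
    intro r
    rw [IsScalarTower.algebraMap_apply R S (Localization.AtPrime q),
      IsScalarTower.algebraMap_apply R T (Localization.AtPrime q')]
    exact (IsLocalization.ringEquivOfRingEquiv_eq _ _ ).trans (congrArg _ (e.commutes r)))
  exact Module.Flat.of_linearEquiv g.toLinearEquiv

/-- multiplicative type of a fibre descends along field extensions -/
theorem isMultType_field_desc {R₀ R : Type u} [CommRing R₀] [CommRing R] [Algebra R₀ R] {X : Type u} [CommRing X]
    [HopfAlgebra R₀ X] {C : Type u} [CommRing C] [HopfAlgebra R C] (e : R ⊗[R₀] X ≃ₐc[R] C) (k K : Type u) [Field k]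
    [Field K] [Algebra R₀ k] [Algebra R K] [Algebra k K] [Algebra R₀ K] [IsScalarTower R₀ k K] [IsScalarTower R₀ R K]
    (hs : IsMultType K (K ⊗[R] C)) : IsMultType k (k ⊗[R₀] X) := by
  have h1 : IsMultType K (K ⊗[R] (R ⊗[R₀] X)) := QIBC.isMultType_congr (BCIso.congrBialg K e.symm) hs
  have h2 : IsMultType K (K ⊗[k] (k ⊗[R₀] X)) :=
    QIBC.isMultType_congr ((BCIso.cancelBialg R₀ R K X).trans (BCIso.cancelBialg R₀ k K X).symm) h1
  exact isMultType_of_ff K h2

/-- the fibre over `p₀` is of multiplicative type if the fibre over `p` is -/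
theorem isMultType_fibre_desc {R₀ R : Type u} [CommRing R₀] [CommRing R] [Algebra R₀ R] {X : Type u} [CommRing X]
    [HopfAlgebra R₀ X] {C : Type u} [CommRing C] [HopfAlgebra R C] (e : R ⊗[R₀] X ≃ₐc[R] C) (p : Ideal R) [p.IsPrime]
    (hs : IsMultType p.ResidueField (p.ResidueField ⊗[R] C)) (p₀ : Ideal R₀) [p₀.IsPrime]
    (hp : p₀ = p.comap (algebraMap R₀ R)) :
    IsMultType p₀.ResidueField (p₀.ResidueField ⊗[R₀] X) := by
  let _ : Algebra p₀.ResidueField p.ResidueField := (Ideal.ResidueField.map p₀ p (algebraMap R₀ R) hp).toAlgebra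
  let _ : Algebra R₀ p.ResidueField := ((algebraMap R p.ResidueField).comp (algebraMap R₀ R)).toAlgebra
  have : IsScalarTower R₀ R p.ResidueField := .of_algebraMap_eq' rfl
  have : IsScalarTower R₀ p₀.ResidueField p.ResidueField := .of_algebraMap_eq fun x =>
    (Ideal.ResidueField.map_algebraMap p₀ p (algebraMap R₀ R) hp x).symm
  exact isMultType_field_desc e p₀.ResidueField p.ResidueField hs

section

variable {A₀ A : Type u} [CommRing A₀] [CommRing A] [Algebra A₀ A] [IsNoetherianRing A₀] (X : Type u) [CommRing X]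
  [Algebra A₀ X] [Algebra.FiniteType A₀ X]

/-- flatness along the fibre over `p` descends to a finitely generated subalgebra -/
theorem exists_flat (p : Ideal A) [p.IsPrime]
    (hfl : ∀ (q : Ideal (A ⊗[A₀] X)) [q.IsPrime], q.LiesOver p → Module.Flat A (Localization.AtPrime q)) :
    ∃ A' : Subalgebra A₀ A, A'.FG ∧ ∀ (q : Ideal (A' ⊗[A₀] X)) [q.IsPrime],
      q.LiesOver (p.comap (algebraMap A' A)) → Module.Flat A' (Localization.AtPrime q) := by
  let _ : Algebra X (A ⊗[A₀] X) := Algebra.TensorProduct.rightAlgebra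
  obtain ⟨A', hA', H⟩ := Groth.Agent.Fdesc.PureModel.exists_fg_flat_fibre (A₀ := A₀) (B₀ := X) (N₀ := X) (A := A) (B := A ⊗[A₀] X)
    (N := A ⊗[A₀] X) (Algebra.linearMap X (A ⊗[A₀] X)) (IsBaseChange.linearMap X (A ⊗[A₀] X)) p
    (fun q hq h => (flat_localizedModule_iff q).mpr (hfl q h))
  refine ⟨A', hA', fun q hq h => (flat_localizedModule_iff q).mp ?_⟩
  let _ : Algebra X (A' ⊗[A₀] X) := Algebra.TensorProduct.rightAlgebra
  let f : A' ⊗[A₀] X →ₐ[A'] A ⊗[A₀] X := Algebra.TensorProduct.map (Algebra.ofId A' A) (AlgHom.id A₀ X)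
  let _ : Algebra (A' ⊗[A₀] X) (A ⊗[A₀] X) := f.toRingHom.toAlgebra
  have s1 : IsScalarTower X (A' ⊗[A₀] X) (A ⊗[A₀] X) := .of_algebraMap_eq fun x => by
    change (1 : A) ⊗ₜ[A₀] x = f ((1 : A') ⊗ₜ[A₀] x)
    refine ((Algebra.TensorProduct.map_tmul _ _ _ _).trans ?_).symm
    rw [map_one]
    rfl
  have s2 : IsScalarTower A' (A' ⊗[A₀] X) (A ⊗[A₀] X) := .of_algebraMap_eq fun x => (f.commutes x).symm
  exact H (A' ⊗[A₀] X) (A' ⊗[A₀] X) (Algebra.linearMap X (A' ⊗[A₀] X)) (IsBaseChange.linearMap X (A' ⊗[A₀] X)) q h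

end

/-- **Noetherian reduction.** A finitely presented Hopf algebra `C` over `R`, flat along the fibre over the prime `p`
and whose fibre at `p` is of multiplicative type, descends with these properties to a subring of `R` of finite type
over `ℤ`. -/
theorem exists_model {R : Type u} [CommRing R] (C : Type u) [CommRing C] [HopfAlgebra R C]
    [Algebra.FinitePresentation R C] (p : Ideal R) [p.IsPrime]
    (hfl : ∀ (q : Ideal C) [q.IsPrime], q.LiesOver p → Module.Flat R (Localization.AtPrime q))
    (hs : IsMultType p.ResidueField (p.ResidueField ⊗[R] C)) :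
    ∃ (R₀ : Type u) (_ : CommRing R₀) (_ : Algebra R₀ R) (X : Type u) (_ : CommRing X) (_ : HopfAlgebra R₀ X)
      (p₀ : Ideal R₀) (_ : p₀.IsPrime),
      Algebra.FiniteType ℤ R₀ ∧ Function.Injective (algebraMap R₀ R) ∧ Algebra.FinitePresentation R₀ X ∧
      p₀ = p.comap (algebraMap R₀ R) ∧ Nonempty (R ⊗[R₀] X ≃ₐc[R] C) ∧
      (∀ (q : Ideal X) [q.IsPrime], q.LiesOver p₀ → Module.Flat R₀ (Localization.AtPrime q)) ∧
      IsMultType p₀.ResidueField (p₀.ResidueField ⊗[R₀] X) := by
  classical
  let B : Finset R → Subring R := fun s => (Algebra.adjoin ℤ (s : Set R)).toSubring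
  have hmono : Monotone B := fun s t h => Algebra.adjoin_mono (R := ℤ) (Finset.coe_subset.mpr h)
  have hsup : ⨆ i, B i = ⊤ := by
    refine eq_top_iff.mpr fun x _ => ?_
    have : x ∈ B {x} := Algebra.subset_adjoin (R := ℤ) (by simp)
    exact (le_iSup B {x}) this
  obtain ⟨s, X, _, _, hX, ⟨e⟩⟩ := SubringDesc.exists_hopf hmono hsup C
  have hft : Algebra.FiniteType ℤ (B s) :=
    (Algebra.adjoin ℤ (s : Set R)).fg_iff_finiteType.mp (Subalgebra.fg_adjoin_finset s)
  have hN : IsNoetherianRing (B s) := Algebra.FiniteType.isNoetherianRing ℤ (B s)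
  obtain ⟨A', hA', H⟩ := exists_flat (A₀ := B s) (A := R) X p (by
    intro q hq hqp
    have hq' : (q.comap (e.symm : C ≃ₐc[R] R ⊗[B s] X)).IsPrime := inferInstance
    refine flat_of_equiv (AlgEquivClass.toAlgEquiv e : R ⊗[B s] X ≃ₐ[R] C) q
      (q.comap (AlgEquivClass.toAlgEquiv e.symm : C ≃ₐ[R] R ⊗[B s] X)) ?_ (hfl _ ⟨?_⟩)
    · ext x
      change e.symm (e x) ∈ q ↔ x ∈ q
      rw [BialgEquiv.symm_apply_apply]
    · rw [hqp.over]
      ext x
      change algebraMap R _ x ∈ q ↔ e.symm (algebraMap R C x) ∈ q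
      rw [AlgHomClass.commutes e.symm])
  have hft2 : Algebra.FiniteType (B s) A' := A'.fg_iff_finiteType.mp hA'
  refine ⟨A', inferInstance, inferInstance, A' ⊗[B s] X, inferInstance, inferInstance,
    p.comap (algebraMap A' R), inferInstance, Algebra.FiniteType.trans (R := ℤ) (S := B s) (A := A') hft hft2,
    Subtype.val_injective, inferInstance, rfl, ⟨(BCIso.cancelBialg (B s) A' R X).trans e⟩, H, ?_⟩
  exact isMultType_fibre_desc ((BCIso.cancelBialg (B s) A' R X).trans e) p hs _ rfl

/-- flatness along the fibre over `p₀` passes to any base change -/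
theorem flat_baseChange {R₀ : Type u} [CommRing R₀] (X : Type u) [CommRing X] [Algebra R₀ X] (A : Type u) [CommRing A]
    [Algebra R₀ A] (p₀ : Ideal R₀)
    (hfl : ∀ (q : Ideal X) [q.IsPrime], q.LiesOver p₀ → Module.Flat R₀ (Localization.AtPrime q)) (p : Ideal A)
    (hp : p₀ = p.comap (algebraMap R₀ A)) (q : Ideal (A ⊗[R₀] X)) [q.IsPrime] (hq : q.LiesOver p) :
    Module.Flat A (Localization.AtPrime q) := by
  let _ : Algebra X (A ⊗[R₀] X) := Algebra.TensorProduct.rightAlgebra
  refine (flat_localizedModule_iff q).mp ?_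
  refine Groth.Agent.FlatA.FlatModel.flat_localizedModule_of_isPushout (R₀ := R₀) (S₀ := X)
    (Algebra.linearMap X (A ⊗[R₀] X)) (IsBaseChange.linearMap X (A ⊗[R₀] X)) q (q.under X) rfl
    ((flat_localizedModule_iff _).mpr (hfl _ ⟨?_⟩))
  rw [hp, hq.over]
  change Ideal.comap _ (Ideal.comap _ _) = Ideal.comap _ (Ideal.comap _ _)
  rw [Ideal.comap_comap, Ideal.comap_comap, ← IsScalarTower.algebraMap_eq, ← IsScalarTower.algebraMap_eq]

/-- a prime containing `𝔪C` lies over the maximal ideal -/
theorem liesOver_of_map_le {R C : Type u} [CommRing R] [IsLocalRing R] [CommRing C] [Algebra R C] (q : Ideal C)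
    [q.IsPrime] (h : Ideal.map (algebraMap R C) (IsLocalRing.maximalIdeal R) ≤ q) :
    q.LiesOver (IsLocalRing.maximalIdeal R) := by
  exact ⟨(IsLocalRing.maximalIdeal.isMaximal R).eq_of_le (Ideal.comap_ne_top _ (Ideal.IsPrime.ne_top inferInstance))
    (Ideal.map_le_iff_le_comap.mp h)⟩

/-- **Noetherian reduction over a local ring.** -/
theorem exists_local_model {R : Type u} [CommRing R] [IsLocalRing R] (C : Type u) [CommRing C] [HopfAlgebra R C]
    [Algebra.FinitePresentation R C]
    (hfl : ∀ (q : Ideal C) [q.IsPrime], Ideal.map (algebraMap R C) (IsLocalRing.maximalIdeal R) ≤ q →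
      Module.Flat R (Localization.AtPrime q))
    (hs : IsMultType (IsLocalRing.ResidueField R) (IsLocalRing.ResidueField R ⊗[R] C)) :
    ∃ (A : Type u) (_ : CommRing A) (_ : IsLocalRing A) (_ : Algebra A R) (X : Type u) (_ : CommRing X)
      (_ : HopfAlgebra A X), IsNoetherianRing A ∧ IsLocalHom (algebraMap A R) ∧ Algebra.FinitePresentation A X ∧
      Nonempty (R ⊗[A] X ≃ₐc[R] C) ∧
      (∀ (q : Ideal X) [q.IsPrime], Ideal.map (algebraMap A X) (IsLocalRing.maximalIdeal A) ≤ q →
        Module.Flat A (Localization.AtPrime q)) ∧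
      IsMultType (IsLocalRing.ResidueField A) (IsLocalRing.ResidueField A ⊗[A] X) := by
  let 𝔪 := IsLocalRing.maximalIdeal R
  have hs' : IsMultType 𝔪.ResidueField (𝔪.ResidueField ⊗[R] C) := by
    let f : R →+* 𝔪.ResidueField := algebraMap R 𝔪.ResidueField
    let g : IsLocalRing.ResidueField R →+* 𝔪.ResidueField :=
      Ideal.Quotient.lift _ f (fun a ha => Ideal.algebraMap_residueField_eq_zero.mpr ha)
    let _ : Algebra (IsLocalRing.ResidueField R) 𝔪.ResidueField := g.toAlgebra
    have : IsScalarTower R (IsLocalRing.ResidueField R) 𝔪.ResidueField := .of_algebraMap_eq' rfl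
    exact QIBC.isMultType_congr (BCIso.cancelBialg R (IsLocalRing.ResidueField R) 𝔪.ResidueField C)
      (NilDescent.isMultType_baseChange 𝔪.ResidueField hs)
  obtain ⟨R₀, _, _, X, _, _, p₀, _, hft, hinj, hfp, hp₀, ⟨e⟩, hfl₀, hmt⟩ := exists_model C 𝔪 (fun q _ hq => hfl q (by
    rw [Ideal.map_le_iff_le_comap]; exact hq.over.le)) hs'
  have hN : IsNoetherianRing R₀ := Algebra.FiniteType.isNoetherianRing ℤ R₀
  let A := Localization.AtPrime p₀
  have hu : ∀ y : p₀.primeCompl, IsUnit (algebraMap R₀ R y) := by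
    intro y
    by_contra h
    exact y.2 (hp₀ ▸ h)
  let φ : A →+* R := IsLocalization.lift (M := p₀.primeCompl) (g := algebraMap R₀ R) hu
  let _ : Algebra A R := φ.toAlgebra
  have hA : IsScalarTower R₀ A R := .of_algebraMap_eq fun x => (IsLocalization.lift_eq hu x).symm
  have hloc : IsLocalHom (algebraMap A R) := by
    refine ⟨fun a ha => ?_⟩
    obtain ⟨x, y, rfl⟩ := IsLocalization.exists_mk'_eq p₀.primeCompl a
    have h1 : IsUnit (algebraMap R₀ R x) := by
      have h2 : algebraMap R₀ R x = algebraMap A R (IsLocalization.mk' A x y) * algebraMap R₀ R y := by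
        rw [IsScalarTower.algebraMap_apply R₀ A R y, ← map_mul, IsLocalization.mk'_spec,
          ← IsScalarTower.algebraMap_apply]
      rw [h2]
      exact ha.mul (hu y)
    have h3 : x ∉ p₀ := by
      rw [hp₀]
      exact fun h => h h1
    exact (IsLocalization.AtPrime.isUnit_mk'_iff A p₀ x y).mpr h3
  refine ⟨A, inferInstance, inferInstance, inferInstance, A ⊗[R₀] X, inferInstance, inferInstance,
    IsLocalization.isNoetherianRing p₀.primeCompl A hN, hloc, inferInstance,
    ⟨(BCIso.cancelBialg R₀ A R X).trans e⟩, ?_, ?_⟩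
  · intro q hq hqm
    exact flat_baseChange X A p₀ hfl₀ (IsLocalRing.maximalIdeal A) (Localization.AtPrime.under_maximalIdeal (I := p₀)).symm q
      (liesOver_of_map_le q hqm)
  · exact QIBC.isMultType_congr (BCIso.cancelBialg R₀ A (IsLocalRing.ResidueField A) X).symm hmt

end K202.NoethDesc
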