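import Groth.Agent.Sga3A.KernelGlobal

/-!
# Kernels of homomorphisms from groups of multiplicative type, not necessarily of finite type

`isMultType_of_ker`: the kernel of a homomorphism from a group of multiplicative type (any type) to an
affine group of finite type is of multiplicative type.
-/

set_option autoImplicit false
universe u
open TensorProduct SGA3b Coalgebra Bialgebra

namespace K202.KerAny

open Groth.Agent.Sga3A.MultBC Groth.Agent.Sga3A.TypeLemma Groth.Agent.Sga3A.KernelLocal
  Groth.Agent.Sga3A.KernelGlobal

/-- The augmentation ideal of a bialgebra of finite type is finitely generated. -/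
lemma ker_counit_fg {R C : Type*} [CommRing R] [CommRing C] [Bialgebra R C]
    (hft : Algebra.FiniteType R C) : (RingHom.ker (counitAlgHom R C)).FG := by
  classical
  obtain ⟨s, hs⟩ := hft.out
  refine ⟨s.image (fun c => c - algebraMap R C (counit (R := R) c)), ?_⟩
  apply le_antisymm
  · rw [Ideal.span_le]
    intro x hx
    simp only [Finset.coe_image, Set.mem_image] at hx
    obtain ⟨c, _, rfl⟩ := hx
    change counitAlgHom R C (c - algebraMap R C (counit (R := R) c)) = 0
    rw [map_sub, AlgHom.commutes]
    simp
  · intro x hx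
    let K : Ideal C := Ideal.span
      ((s.image (fun c => c - algebraMap R C (counit (R := R) c)) : Finset C) : Set C)
    change x ∈ K
    have key : ∀ y : C, y - algebraMap R C (counit (R := R) y) ∈ K := by
      intro y
      have hy : y ∈ Algebra.adjoin R (s : Set C) := hs ▸ Algebra.mem_top
      induction hy using Algebra.adjoin_induction with
      | mem y hy => exact Ideal.subset_span (by simpa using ⟨y, hy, rfl⟩)
      | algebraMap r => simp
      | add y z _ _ hy hz =>
        have := K.add_mem hy hz
        convert this using 1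
        rw [map_add, map_add]
        ring
      | mul y z _ _ hy hz =>
        have := K.add_mem (K.mul_mem_right z hy) (K.mul_mem_left (algebraMap R C (counit (R := R) y)) hz)
        convert this using 1
        rw [counit_mul, map_mul]
        ring
    have h0 : counit (R := R) x = 0 := hx
    have := key x
    rwa [h0, map_zero, sub_zero] at this

section

variable {R M C B : Type*} [CommRing R] [CommGroup M] [CommRing C] [Bialgebra R C]
  [CommRing B] [Bialgebra R B]
  (φ : C →ₐc[R] MonoidAlgebra R M) (π : MonoidAlgebra R M →ₐc[R] B)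

/-- The image of `φ` lies in the group algebra of a finitely generated subgroup. -/
lemma exists_fg_support (hft : Algebra.FiniteType R C) :
    ∃ N₀ : Subgroup M, N₀.FG ∧ ∀ n ∉ N₀, ∀ r ∈ aIdeal φ n, r = 0 := by
  classical
  obtain ⟨s, hs⟩ := hft.out
  let T : Finset M := s.biUnion (fun c => (φ c).coeff.support)
  let N₀ := Subgroup.closure (T : Set M)
  refine ⟨N₀, ⟨T, rfl⟩, ?_⟩
  have key : ∀ (c : C) (n : M), n ∉ N₀ → (φ c).coeff n = 0 := by
    intro c
    have hc : c ∈ Algebra.adjoin R (s : Set C) := hs ▸ Algebra.mem_top
    induction hc using Algebra.adjoin_induction with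
    | mem c hc =>
      intro n hn
      by_contra hne
      exact hn (Subgroup.subset_closure (by
        simp only [T, Finset.coe_biUnion, Set.mem_iUnion]
        exact ⟨c, hc, Finsupp.mem_support_iff.mpr hne⟩))
    | algebraMap r =>
      intro n hn
      have h1 : φ (algebraMap R C r) = MonoidAlgebra.single 1 r := AlgHomClass.commutes φ r
      rw [h1, MonoidAlgebra.coeff_single, Finsupp.single_apply, if_neg]
      rintro rfl
      exact hn (Subgroup.one_mem _)
    | add y z _ _ hy hz =>
      intro n hn
      rw [map_add]
      simp [hy n hn, hz n hn]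
    | mul y z _ _ hy hz =>
      intro n hn
      rw [map_mul, MonoidAlgebra.coeff_mul]
      refine Finset.sum_eq_zero fun a _ => Finset.sum_eq_zero fun b _ => ?_
      beta_reduce
      by_cases hab : a * b = n
      · rw [if_pos hab]
        by_cases ha : a ∈ N₀
        · have hb : b ∉ N₀ := fun hb => hn (hab ▸ N₀.mul_mem ha hb)
          rw [hz b hb, mul_zero]
        · rw [hy a ha, zero_mul]
      · rw [if_neg hab]
  intro n hn r hr
  obtain ⟨d, hd⟩ := hr
  have := key d n hn
  rw [hd] at this
  simpa using this

/-- In a commutative group, every subset of a finitely generated subgroup is contained in the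
subgroup generated by a finite subset of it. -/
lemma exists_finite_subset' {N₀ : Subgroup M} (hN₀ : N₀.FG) (S : Set M) (hS : S ⊆ N₀) :
    ∃ T : Set M, T.Finite ∧ T ⊆ S ∧ S ⊆ Subgroup.closure T := by
  have hfg : Group.FG N₀ := (Group.fg_iff_subgroup_fg N₀).mpr hN₀
  obtain ⟨T, hT, hTS, hST⟩ := exists_finite_subset (M := N₀) (Subtype.val ⁻¹' S)
  refine ⟨Subtype.val '' T, hT.image _, ?_, ?_⟩
  · rintro _ ⟨x, hx, rfl⟩
    exact hTS hx
  · intro x hx
    have h1 : (⟨x, hS hx⟩ : N₀) ∈ Subgroup.closure T := hST hx
    have h2 : (N₀.subtype) ⟨x, hS hx⟩ ∈ (Subgroup.closure T).map N₀.subtype :=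
      Subgroup.mem_map_of_mem _ h1
    rw [MonoidHom.map_closure] at h2
    exact h2

/-- **The kernel of a homomorphism from a diagonalisable group to an affine group of finite type
is locally diagonalisable.** -/
theorem exists_local' (hft : Algebra.FiniteType R C)
    (hπ : Function.Surjective π)
    (hker : RingHom.ker (π : MonoidAlgebra R M →+* B) =
      Ideal.map (φ : C →+* MonoidAlgebra R M) (RingHom.ker (counitAlgHom R C)))
    (p : PrimeSpectrum R) :
    ∃ f ∉ p.asIdeal, ∃ N : Subgroup M, ∀ (S : Type*) [CommRing S] [Algebra R S],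
      IsUnit (algebraMap R S f) → Nonempty (S ⊗[R] B ≃ₐc[S] MonoidAlgebra S (M ⧸ N)) := by
  classical
  have hfg := ker_counit_fg hft
  obtain ⟨N₀, hN₀, hN₀'⟩ := exists_fg_support φ hft
  obtain ⟨T, hTfin, hTS, hST⟩ := exists_finite_subset' hN₀ {n : M | ¬ (aIdeal φ n ≤ p.asIdeal)}
    (fun n hn => by
      by_contra hcon
      exact hn (fun r hr => by rw [hN₀' n hcon r hr]; exact zero_mem _))
  let N := Subgroup.closure T
  obtain ⟨e, he, heN⟩ := exists_aN_eq φ hfg N
  have hep : e ∈ p.asIdeal := by
    have : aN φ N ≤ p.asIdeal := by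
      apply iSup_le
      rintro ⟨n, hn⟩
      by_contra hcon
      exact hn (hST hcon)
    exact this (heN ▸ Ideal.mem_span_singleton_self e)
  have hT : ∀ n ∈ T, ∃ r ∈ aIdeal φ n, r ∉ p.asIdeal := fun n hn =>
    Set.not_subset.mp (hTS hn)
  choose! r hr hrp using hT
  have hfin : T.Finite := hTfin
  refine ⟨(1 - e) * ∏ n ∈ hfin.toFinset, r n, ?_, N, ?_⟩
  · intro hmem
    rcases p.isPrime.mem_or_mem hmem with h1 | h1
    · apply p.isPrime.ne_top
      rw [Ideal.eq_top_iff_one]
      have := p.asIdeal.add_mem h1 hep
      simpa using this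
    · rw [p.isPrime.prod_mem_iff] at h1
      obtain ⟨n, hn, hn'⟩ := h1
      exact hrp n (hfin.mem_toFinset.mp hn) hn'
  · intro S _ _ hunit
    rw [map_mul, map_prod] at hunit
    have hu1 : IsUnit (algebraMap R S (1 - e)) := isUnit_of_mul_isUnit_left hunit
    have hu2 := isUnit_of_mul_isUnit_right hunit
    have he0 : algebraMap R S e = 0 := by
      have h3 : algebraMap R S (1 - e) * algebraMap R S e = 0 := by
        rw [← map_mul, sub_mul, one_mul, he.eq, sub_self, map_zero]
      exact (hu1.mul_right_eq_zero).mp h3
    apply nonempty_equiv φ π hπ hker N S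
    · intro n hn
      induction hn using Subgroup.closure_induction with
      | mem n hn =>
        have hur : IsUnit (algebraMap R S (r n)) := by
          have : algebraMap R S (r n) ∣ ∏ n ∈ hfin.toFinset, algebraMap R S (r n) :=
            Finset.dvd_prod_of_mem _ (hfin.mem_toFinset.mpr hn)
          exact isUnit_of_dvd_unit this hu2
        obtain ⟨d, hd0, hd⟩ := exists_ker φ (hr n hn)
        have h4 : π (φ d) = 0 := by
          have : φ d ∈ RingHom.ker (π : MonoidAlgebra R M →+* B) := by
            rw [hker]
            exact Ideal.mem_map_of_mem _ hd0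
          exact this
        rw [hd, map_sub] at h4
        have e1 : ∀ m : M, (MonoidAlgebra.single m (r n) : MonoidAlgebra R M) =
          (r n) • MonoidAlgebra.single m 1 := fun m => by simp
        rw [e1, e1, map_smul, map_smul, ← smul_sub] at h4
        have h5 : algebraMap R S (r n) •
            ((1 : S) ⊗ₜ[R] (π (MonoidAlgebra.single n 1) - π (MonoidAlgebra.single 1 1))) = 0 := by
          rw [algebraMap_smul, ← TensorProduct.tmul_smul, h4, TensorProduct.tmul_zero]
        rw [hur.smul_eq_zero, TensorProduct.tmul_sub, sub_eq_zero] at h5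
        rw [h5, ← MonoidAlgebra.one_def, map_one, Algebra.TensorProduct.one_def]
      | one => rw [← MonoidAlgebra.one_def, map_one, Algebra.TensorProduct.one_def]
      | mul x y _ _ hx hy =>
        have : (MonoidAlgebra.single (x * y) 1 : MonoidAlgebra R M) =
          MonoidAlgebra.single x 1 * MonoidAlgebra.single y 1 := by
            rw [MonoidAlgebra.single_mul_single, mul_one]
        rw [this, map_mul, ← mul_one (1 : S), ← Algebra.TensorProduct.tmul_mul_tmul, hx, hy,
          mul_one]
      | inv x _ hx =>
        have h6 : ((1 : S) ⊗ₜ[R] π (MonoidAlgebra.single x 1)) *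
            ((1 : S) ⊗ₜ[R] π (MonoidAlgebra.single x⁻¹ 1)) = 1 := by
          rw [Algebra.TensorProduct.tmul_mul_tmul, ← map_mul, MonoidAlgebra.single_mul_single,
            mul_inv_cancel, mul_one, mul_one, ← MonoidAlgebra.one_def, map_one,
            Algebra.TensorProduct.one_def]
        rwa [hx, one_mul] at h6
    · intro n hn x hx
      have h7 : x ∈ Ideal.span {e} := heN ▸ aIdeal_le_aN φ hn hx
      obtain ⟨y, rfl⟩ := Ideal.mem_span_singleton'.mp h7
      rw [map_mul, he0, mul_zero]

end

/-- The kernel of a homomorphism from a group of multiplicative type to an affine group of finite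
type is of multiplicative type. Form with a surjection `A → B` whose kernel is generated by the
image of the augmentation ideal. -/
theorem isMultType_of_ker {R A B C : Type u} [CommRing R] [CommRing A] [CommRing B] [CommRing C]
    [HopfAlgebra R A] [HopfAlgebra R B] [HopfAlgebra R C]
    (h : IsMultType R A) (hC : Algebra.FiniteType R C)
    (φ : C →ₐc[R] A) (π : A →ₐc[R] B) (hπ : Function.Surjective π)
    (hker : RingHom.ker (π : A →+* B) =
      Ideal.map (φ : C →+* A) (RingHom.ker (counitAlgHom R C))) : IsMultType R B := by
  obtain ⟨ι, _, S, _, _, hflat, hsurj, hd⟩ := IsMultType.exists_family h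
  refine isMultType_of_local_family S hsurj fun i p => ?_
  obtain ⟨M, _, ⟨e⟩⟩ := hd i
  obtain ⟨φ', π', hπ', hker'⟩ := ker_baseChange (S := S i) φ π hπ hker e
  have hft1 : Algebra.FiniteType (S i) (S i ⊗[R] C) := inferInstance
  obtain ⟨f, hf, N, hN⟩ := exists_local' φ' π' hft1 hπ' hker' p
  obtain ⟨e'⟩ := hN (Localization.Away f) (IsLocalization.Away.algebraMap_isUnit f)
  exact ⟨f, hf, isDiag_tower ⟨M ⧸ N, inferInstance, ⟨e'⟩⟩⟩

end K202.KerAny
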