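import Groth.Agent.SGA3b.K202.SysMore
import Groth.Agent.Sga3A.TypeLemma
import Groth.Agent.SGA3b.K201.MTBasics

/-!
# Filtered systems: descent of isotriviality and quasi-isotriviality
-/

set_option autoImplicit false

open TensorProduct SGA3b

namespace K202.Sys

universe u v

open Groth.Agent.Sga3A.MTBasis

variable {T : Type u} [CommRing T] {ι : Type v} [Preorder ι] {L : Type u} [CommRing L]
  [Algebra T L] (D : Sys T ι L)

section mono

variable {E : Type u} [CommRing E] [Algebra T E]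

lemma finite_mono {i j : ι} (h : i ≤ j) (hi : Module.Finite (D.S i) (D.S i ⊗[T] E)) :
    Module.Finite (D.S j) (D.S j ⊗[T] E) := by
  let _ : Algebra (D.S i) (D.S j) := (D.f h).toRingHom.toAlgebra
  have : IsScalarTower T (D.S i) (D.S j) := .of_algebraMap_eq' (D.f h).comp_algebraMap.symm
  exact Module.Finite.equiv (Algebra.TensorProduct.cancelBaseChange T (D.S i) (D.S j) (D.S j) E).toLinearEquiv

lemma faithfullyFlat_mono {i j : ι} (h : i ≤ j) (hi : Module.FaithfullyFlat (D.S i) (D.S i ⊗[T] E)) :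
    Module.FaithfullyFlat (D.S j) (D.S j ⊗[T] E) := by
  let _ : Algebra (D.S i) (D.S j) := (D.f h).toRingHom.toAlgebra
  have : IsScalarTower T (D.S i) (D.S j) := .of_algebraMap_eq' (D.f h).comp_algebraMap.symm
  exact Module.FaithfullyFlat.of_linearEquiv _ _
    (Algebra.TensorProduct.cancelBaseChange T (D.S i) (D.S j) (D.S j) E).symm.toLinearEquiv

end mono

variable [IsDirected ι (· ≤ ·)]

/-- over `S j`: `(S j ⊗ E) ⊗_{S j} (S j ⊗ X)` is diagonalisable as soon as `(S j ⊗ E) ⊗_T X` is. -/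
lemma isDiag_of_gbasis {K E X : Type u} [CommRing K] [Algebra T K] [CommRing E] [Algebra T E] [CommRing X]
    [HopfAlgebra T X] {M : Type u} [CommGroup M] (g : GBasis (K ⊗[T] E) ((K ⊗[T] E) ⊗[T] X) M) :
    IsDiag (K ⊗[T] E) ((K ⊗[T] E) ⊗[K] (K ⊗[T] X)) := by
  have g' := g.map (Groth.Agent.Sga3A.BCIso.cancelBialg T K (K ⊗[T] E) X).symm
  exact ⟨M, inferInstance, ⟨g'.bialgEquiv.symm⟩⟩

/-- Isotriviality spreads out. -/
theorem exists_isIsotrivial {X : Type u} [CommRing X] [HopfAlgebra T X] [Algebra.FinitePresentation T X]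
    {E : Type u} [CommRing E] [Algebra T E] [Algebra.Etale T E] (hfin : Module.Finite L (L ⊗[T] E))
    (hff : Module.FaithfullyFlat L (L ⊗[T] E)) {M : Type u} [CommGroup M] [Group.FG M]
    (g : GBasis (L ⊗[T] E) ((L ⊗[T] E) ⊗[T] X) M) :
    ∃ j, IsIsotrivial (D.S j) (D.S j ⊗[T] X) := by
  obtain ⟨j1, h1⟩ := D.exists_finite hfin
  obtain ⟨j2, h2⟩ := D.exists_faithfullyFlat hff
  obtain ⟨j3, ⟨g3⟩⟩ := (D.tensor E).exists_gbasis M g
  obtain ⟨k, hk1, hk2⟩ := exists_ge_ge j1 j2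
  obtain ⟨j, hj1, hj2⟩ := exists_ge_ge k j3
  have H1 := D.finite_mono (hk1.trans hj1) h1
  have H2 := D.faithfullyFlat_mono (hk2.trans hj1) h2
  have g4 : GBasis (D.S j ⊗[T] E) ((D.S j ⊗[T] E) ⊗[T] X) M := g3.bc ((D.tensor E).f hj2)
  exact ⟨j, D.S j ⊗[T] E, inferInstance, inferInstance, inferInstance, H1, H2, isDiag_of_gbasis g4⟩

/-- Quasi-isotriviality spreads out. -/
theorem exists_isQuasiIsotrivial {X : Type u} [CommRing X] [HopfAlgebra T X] [Algebra.FinitePresentation T X]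
    {κ : Type u} [Finite κ] {E : κ → Type u} [∀ k, CommRing (E k)] [∀ k, Algebra T (E k)]
    [∀ k, Algebra.Etale T (E k)]
    (hff : Module.FaithfullyFlat L (∀ k, L ⊗[T] E k)) {M : κ → Type u} [∀ k, CommGroup (M k)]
    [∀ k, Group.FG (M k)] (g : ∀ k, GBasis (L ⊗[T] E k) ((L ⊗[T] E k) ⊗[T] X) (M k)) :
    ∃ j, IsQuasiIsotrivial (D.S j) (D.S j ⊗[T] X) := by
  classical
  have hfl : ∀ k, Module.Flat T (E k) := fun k => inferInstance
  have hflat : Module.Flat T (∀ k, E k) := Groth.Agent.Sga3A.TypeLemma.flat_pi E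
  have := Fintype.ofFinite κ
  have het : Algebra.Etale T (∀ k, E k) := inferInstance
  have hff' : Module.FaithfullyFlat L (L ⊗[T] (∀ k, E k)) :=
    Module.FaithfullyFlat.of_linearEquiv _ _ (TensorProduct.piRight T L L E)
  obtain ⟨j2, h2⟩ := D.exists_faithfullyFlat hff'
  choose j3 g3 using fun k => (D.tensor (E k)).exists_gbasis (M k) (g k)
  have hne : Nonempty ι := ⟨j2⟩
  obtain ⟨j, hj⟩ := Finset.exists_le (insert j2 (Finset.image j3 Finset.univ))
  have hj2 := hj j2 (Finset.mem_insert_self _ _)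
  have hj3 : ∀ k, j3 k ≤ j := fun k => hj _ (Finset.mem_insert_of_mem (Finset.mem_image_of_mem _ (Finset.mem_univ k)))
  have H2 := D.faithfullyFlat_mono hj2 h2
  have H3 : Module.FaithfullyFlat (D.S j) (∀ k, D.S j ⊗[T] E k) :=
    Module.FaithfullyFlat.of_linearEquiv _ _ (TensorProduct.piRight T (D.S j) (D.S j) E).symm
  refine ⟨j, Groth.Agent.Sga3A.TypeLemma.isQuasiIsotrivial_of_family (fun k => D.S j ⊗[T] E k) fun k => ?_⟩
  obtain ⟨g3k⟩ := g3 k
  have g4 : GBasis (D.S j ⊗[T] E k) ((D.S j ⊗[T] E k) ⊗[T] X) (M k) := g3k.bc ((D.tensor (E k)).f (hj3 k))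
  exact isDiag_of_gbasis g4

end K202.Sys
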