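import Groth.Agent.SGA3b.K202.SysHopf
import Groth.Agent.SGA3b.K202.SysMT
import Mathlib.RingTheory.Smooth.NoetherianDescent
import Mathlib.RingTheory.Extension.Presentation.Core

/-!
# Descent along a directed union of subrings
-/

set_option autoImplicit false

open TensorProduct SGA3b

namespace K202.SubringDesc

universe u v

open Groth.Agent.Sga3A.MTBasis

variable {A : Type u} [CommRing A] {ι : Type v} [Preorder ι] [IsDirected ι (· ≤ ·)] [Nonempty ι]
  {B : ι → Subring A} (hmono : Monotone B) (hsup : ⨆ i, B i = ⊤)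

include hmono hsup in
theorem exists_mem (a : A) : ∃ i, a ∈ B i :=
  (Subring.mem_iSup_of_directed hmono.directed_le).mp (hsup ▸ Subring.mem_top a)

include hmono hsup in
theorem exists_finite_subset (s : Set A) (hs : s.Finite) : ∃ i, s ⊆ B i := by
  induction s, hs using Set.Finite.induction_on with
  | empty => exact ⟨Classical.arbitrary ι, Set.empty_subset _⟩
  | @insert a s _ _ ih =>
    obtain ⟨i, hi⟩ := ih
    obtain ⟨j, hj⟩ := exists_mem hmono hsup a
    obtain ⟨k, h1, h2⟩ := exists_ge_ge i j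
    exact ⟨k, Set.insert_subset (hmono h2 hj) (hi.trans (hmono h1))⟩

instance (i₀ : ι) : IsDirected {j : ι // i₀ ≤ j} (· ≤ ·) where
  directed a b := by
    obtain ⟨k, h1, h2⟩ := exists_ge_ge a.1 b.1
    exact ⟨⟨k, a.2.trans h1⟩, h1, h2⟩

/-- the inclusion as an algebra structure -/
@[reducible] def algInc {i j : ι} (h : i ≤ j) : Algebra (B i) (B j) := (Subring.inclusion (hmono h)).toAlgebra

include hsup in
/-- the system of the `B j`, `j ≥ i₀`, over `B i₀` -/
@[reducible] noncomputable def sys (i₀ : ι) : Sys (B i₀) {j : ι // i₀ ≤ j} A :=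
  letI alg : ∀ j : {j : ι // i₀ ≤ j}, Algebra (B i₀) (B j.1) := fun j => algInc hmono j.2
  { S := fun j => B j.1
    alg := alg
    f := fun {j k} h => { (Subring.inclusion (hmono h) : B j.1 →+* B k.1) with commutes' := fun r => rfl }
    u := fun j => { (B j.1).subtype with commutes' := fun r => rfl }
    f_id := fun j => rfl
    f_comp := fun h h' => rfl
    u_comp := fun h => rfl
    surj := fun a => by
      obtain ⟨j, hj⟩ := exists_mem hmono hsup a
      obtain ⟨k, h1, h2⟩ := exists_ge_ge i₀ j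
      exact ⟨⟨k, h1⟩, ⟨a, hmono h2 hj⟩, rfl⟩
    zero := fun j s hs => ⟨j, le_rfl, Subtype.ext hs⟩ }

include hmono hsup in
/-- Descent of Hopf algebras along a directed union of subrings. -/
theorem exists_hopf (C : Type u) [CommRing C] [HopfAlgebra A C] [Algebra.FinitePresentation A C] :
    ∃ (i : ι) (X : Type u) (_ : CommRing X) (_ : HopfAlgebra (B i) X), Algebra.FinitePresentation (B i) X ∧
      Nonempty (A ⊗[B i] X ≃ₐc[A] C) := by
  let P := Algebra.Presentation.ofFinitePresentation A C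
  obtain ⟨i₀, hi₀⟩ := exists_finite_subset hmono hsup P.coeffs P.finite_coeffs
  let _ : Algebra (B i₀) C := ((algebraMap A C).comp (B i₀).subtype).toAlgebra
  have : IsScalarTower (B i₀) A C := .of_algebraMap_eq' rfl
  have : P.HasCoeffs (B i₀) := ⟨fun a ha => ⟨⟨a, hi₀ ha⟩, rfl⟩⟩
  let e := P.tensorModelOfHasCoeffsEquiv (B i₀)
  obtain ⟨j, X, h1, h2, h3, h4⟩ := (sys hmono hsup i₀).exists_hopf (fun j s => rfl) e
  exact ⟨j.1, X, h1, h2, h3, h4⟩

omit [IsDirected ι (· ≤ ·)] [Nonempty ι] in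
include hmono in
/-- base change of a descended Hopf algebra to a larger subring -/
theorem hopf_up {C : Type u} [CommRing C] [HopfAlgebra A C] {i j : ι} (h : i ≤ j) {X : Type u} [CommRing X]
    [HopfAlgebra (B i) X] [Algebra.FinitePresentation (B i) X] (e : A ⊗[B i] X ≃ₐc[A] C) :
    ∃ (X' : Type u) (_ : CommRing X') (_ : HopfAlgebra (B j) X'), Algebra.FinitePresentation (B j) X' ∧
      Nonempty (A ⊗[B j] X' ≃ₐc[A] C) := by
  let _ : Algebra (B i) (B j) := (Subring.inclusion (hmono h)).toAlgebra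
  have : IsScalarTower (B i) (B j) A := .of_algebraMap_eq' rfl
  exact ⟨B j ⊗[B i] X, inferInstance, inferInstance, inferInstance,
    ⟨(Groth.Agent.Sga3A.BCIso.cancelBialg (B i) (B j) A X).trans e⟩⟩

include hmono hsup in
/-- Descent of étale algebras along a directed union of subrings. -/
theorem exists_etale (E : Type u) [CommRing E] [Algebra A E] [Algebra.Etale A E] :
    ∃ i₀ : ι, ∀ i, i₀ ≤ i → ∃ (E' : Type u) (_ : CommRing E') (_ : Algebra (B i) E'),
      Algebra.Etale (B i) E' ∧ Nonempty (A ⊗[B i] E' ≃ₐ[A] E) := by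
  obtain ⟨A₀, E₀, _, _, hfg, het, ⟨e⟩⟩ := Algebra.Etale.exists_subalgebra_fg ℤ A E
  obtain ⟨s, hs⟩ := hfg
  obtain ⟨i₀, hi₀⟩ := exists_finite_subset hmono hsup (s : Set A) s.finite_toSet
  have hle : ∀ i, i₀ ≤ i → ∀ a ∈ A₀, a ∈ B i := by
    intro i hi a ha
    rw [← hs] at ha
    induction ha using Algebra.adjoin_induction with
    | mem x hx => exact hmono hi (hi₀ hx)
    | algebraMap r => simp
    | add x y _ _ hx hy => exact add_mem hx hy
    | mul x y _ _ hx hy => exact mul_mem hx hy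
  refine ⟨i₀, fun i hi => ?_⟩
  let f : A₀ →+* B i :=
    { toFun := fun a => ⟨a.1, hle i hi a.1 a.2⟩
      map_one' := rfl
      map_mul' := fun _ _ => rfl
      map_zero' := rfl
      map_add' := fun _ _ => rfl }
  let _ : Algebra A₀ (B i) := f.toAlgebra
  have : IsScalarTower A₀ (B i) A := .of_algebraMap_eq' rfl
  exact ⟨B i ⊗[A₀] E₀, inferInstance, inferInstance, inferInstance,
    ⟨(Algebra.TensorProduct.cancelBaseChange A₀ (B i) A A E₀).trans e.symm⟩⟩

include hmono hsup in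
/-- Descent of isotrivial groups along a directed union of subrings. -/
theorem exists_isIsotrivial [Nontrivial A] (C : Type u) [CommRing C] [HopfAlgebra A C] [Algebra.FiniteType A C]
    (h : IsIsotrivial A C) : ∃ (i : ι) (X : Type u) (_ : CommRing X) (_ : HopfAlgebra (B i) X),
      Algebra.FiniteType (B i) X ∧ IsIsotrivial (B i) X ∧ Nonempty (A ⊗[B i] X ≃ₐc[A] C) := by
  have hfp : Algebra.FinitePresentation A C := by
    obtain ⟨E, _, _, _, _, hff, hd⟩ := h
    exact K201.MTBasics.finitePresentation_of_const ⟨E, _, _, hff, hd⟩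
  obtain ⟨i1, X1, _, _, hX1, ⟨e1⟩⟩ := exists_hopf hmono hsup C
  obtain ⟨E, _, _, hEt, hEf, hff, M, _, ⟨eM⟩⟩ := h
  obtain ⟨i2, hE2⟩ := exists_etale hmono hsup E
  obtain ⟨i, h1, h2⟩ := exists_ge_ge i1 i2
  obtain ⟨X, _, _, hX, ⟨e⟩⟩ := hopf_up hmono h1 e1
  obtain ⟨E', _, _, hEt', ⟨eE⟩⟩ := hE2 i h2
  have hntE : Nontrivial E := (FaithfulSMul.algebraMap_injective A E).nontrivial
  have hfg : Group.FG M := Groth.Agent.Sga3A.MTConst.fg_of_gbasis (GBasis.ofBialgEquiv eM)
  have hfin' : Module.Finite A (A ⊗[B i] E') := Module.Finite.equiv eE.symm.toLinearEquiv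
  have hff' : Module.FaithfullyFlat A (A ⊗[B i] E') := Module.FaithfullyFlat.of_linearEquiv _ _ eE.toLinearEquiv
  -- the basis over `A ⊗ E'`
  have g1 : GBasis (A ⊗[B i] E') ((A ⊗[B i] E') ⊗[A] C) M :=
    (GBasis.ofBialgEquiv eM : GBasis E (E ⊗[A] C) M).bc (eE.symm : E →ₐ[A] A ⊗[B i] E')
  have g2 : GBasis (A ⊗[B i] E') ((A ⊗[B i] E') ⊗[A] (A ⊗[B i] X)) M :=
    g1.map (Groth.Agent.Sga3A.BCIso.congrBialg (A ⊗[B i] E') e.symm)
  have g3 : GBasis (A ⊗[B i] E') ((A ⊗[B i] E') ⊗[B i] X) M :=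
    g2.map (Groth.Agent.Sga3A.BCIso.cancelBialg (B i) A (A ⊗[B i] E') X)
  obtain ⟨j, hj⟩ := (sys hmono hsup i).exists_isIsotrivial hfin' hff' g3
  let _ : Algebra (B i) (B j.1) := algInc hmono j.2
  have : IsScalarTower (B i) (B j.1) A := .of_algebraMap_eq' rfl
  have hfp : Algebra.FinitePresentation (B j.1) (B j.1 ⊗[B i] X) := inferInstance
  exact ⟨j.1, B j.1 ⊗[B i] X, inferInstance, inferInstance, inferInstance, hj,
    ⟨(Groth.Agent.Sga3A.BCIso.cancelBialg (B i) (B j.1) A X).trans e⟩⟩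

/-- a finite type group which is diagonalisable over `E` has a finitely generated type -/
theorem exists_gbasis_fg {C : Type u} [CommRing C] [HopfAlgebra A C] [Algebra.FiniteType A C] {E : Type u}
    [CommRing E] [Algebra A E] (h : IsDiag E (E ⊗[A] C)) :
    ∃ (M : Type u) (_ : CommGroup M) (_ : Group.FG M), Nonempty (GBasis E (E ⊗[A] C) M) := by
  obtain ⟨M, _, ⟨e⟩⟩ := h
  cases subsingleton_or_nontrivial E with
  | inl hE =>
    obtain ⟨e'⟩ := Groth.Agent.Sga3A.TypeLemma.diag_of_subsingleton E M PUnit.{u + 1}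
    exact ⟨PUnit.{u + 1}, inferInstance, inferInstance, ⟨GBasis.ofBialgEquiv (e.trans e')⟩⟩
  | inr hE =>
    exact ⟨M, inferInstance, Groth.Agent.Sga3A.MTConst.fg_of_gbasis (GBasis.ofBialgEquiv e),
      ⟨GBasis.ofBialgEquiv e⟩⟩

/-- a quasi-isotrivial group is split by a finite étale (not finite!) family -/
theorem exists_family {C : Type u} [CommRing C] [HopfAlgebra A C] (h : IsQuasiIsotrivial A C) :
    ∃ (κ : Type u) (_ : Finite κ) (E : κ → Type u) (_ : ∀ k, CommRing (E k)) (_ : ∀ k, Algebra A (E k)),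
      (∀ k, Algebra.Etale A (E k)) ∧ Module.FaithfullyFlat A (∀ k, E k) ∧ ∀ k, IsDiag (E k) (E k ⊗[A] C) := by
  obtain ⟨s, hs, h⟩ := h
  obtain ⟨t, hts, ht⟩ := (Ideal.span_eq_top_iff_finite s).1 hs
  have h' : ∀ k : {f // f ∈ t}, IsQuasiIsotrivialConst (Localization.Away k.1) (Localization.Away k.1 ⊗[A] C) :=
    fun k => h k.1 (hts k.2)
  choose E i1 i2 hEt hff hd using h'
  let alg : ∀ k, Algebra A (E k) := fun k =>
    ((algebraMap (Localization.Away k.1) (E k)).comp (algebraMap A (Localization.Away k.1))).toAlgebra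
  have tow : ∀ k, IsScalarTower A (Localization.Away k.1) (E k) := fun k => .of_algebraMap_eq' rfl
  have het : ∀ k, Algebra.Etale A (E k) := fun k => by
    have : Algebra.Etale A (Localization.Away k.1) := Algebra.Etale.of_isLocalizationAway k.1
    exact Algebra.Etale.comp A (Localization.Away k.1) (E k)
  have hfl : ∀ k, Module.Flat A (E k) := fun k => inferInstance
  refine ⟨{f // f ∈ t}, inferInstance, E, i1, alg, het, ?_, fun k => ?_⟩
  · apply Groth.Agent.Sga3A.TypeLemma.faithfullyFlat_pi E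
    intro p
    obtain ⟨k, hfp⟩ : ∃ k : {f // f ∈ t}, k.1 ∉ p.asIdeal := by
      by_contra hcon
      push Not at hcon
      apply p.isPrime.ne_top
      rw [eq_top_iff, ← ht, Ideal.span_le]
      exact fun f hf => hcon ⟨f, hf⟩
    have hr : p ∈ Set.range (PrimeSpectrum.comap (algebraMap A (Localization.Away k.1))) := by
      rw [PrimeSpectrum.localization_away_comap_range (Localization.Away k.1) k.1]
      exact hfp
    obtain ⟨p', hp'⟩ := hr
    obtain ⟨q, hq⟩ := PrimeSpectrum.comap_surjective_of_faithfullyFlat (A := Localization.Away k.1)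
      (B := E k) p'
    refine ⟨k, q, ?_⟩
    rw [← hp', ← hq, ← PrimeSpectrum.comap_comp_apply]
    rfl
  · obtain ⟨M, _, ⟨e⟩⟩ := hd k
    exact ⟨M, inferInstance, ⟨(Groth.Agent.Sga3A.BCIso.cancelBialg A (Localization.Away k.1) (E k) C).symm.trans e⟩⟩

include hmono hsup in
/-- Descent of quasi-isotrivial groups along a directed union of subrings. -/
theorem exists_isQuasiIsotrivial (C : Type u) [CommRing C] [HopfAlgebra A C] [Algebra.FiniteType A C]
    (h : IsQuasiIsotrivial A C) : ∃ (i : ι) (X : Type u) (_ : CommRing X) (_ : HopfAlgebra (B i) X),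
      Algebra.FiniteType (B i) X ∧ IsQuasiIsotrivial (B i) X ∧ Nonempty (A ⊗[B i] X ≃ₐc[A] C) := by
  have hMT : IsMultType A C := by
    obtain ⟨s, hs, h⟩ := h
    refine ⟨s, hs, fun f hf => ?_⟩
    obtain ⟨E, _, _, _, hff, hd⟩ := h f hf
    exact ⟨E, _, _, hff, hd⟩
  have hfp : Algebra.FinitePresentation A C := K201.MTBasics.finitePresentation hMT
  obtain ⟨i1, X1, _, _, hX1, ⟨e1⟩⟩ := exists_hopf hmono hsup C
  obtain ⟨κ, _, E, _, _, hEt, hff, hd⟩ := exists_family h
  choose i2 hE2 using fun k => exists_etale hmono hsup (E k)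
  classical
  have := Fintype.ofFinite κ
  obtain ⟨i, hi⟩ := Finset.exists_le (insert i1 (Finset.image i2 Finset.univ))
  have h1 : i1 ≤ i := hi i1 (Finset.mem_insert_self _ _)
  have h2 : ∀ k, i2 k ≤ i := fun k =>
    hi _ (Finset.mem_insert_of_mem (Finset.mem_image_of_mem _ (Finset.mem_univ k)))
  obtain ⟨X, _, _, hX, ⟨e⟩⟩ := hopf_up hmono h1 e1
  choose E' iE1 iE2 hEt' eE using fun k => hE2 k i (h2 k)
  choose M iM hM gM using fun k => exists_gbasis_fg (hd k)
  have hff' : Module.FaithfullyFlat A (∀ k, A ⊗[B i] E' k) :=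
    Module.FaithfullyFlat.of_linearEquiv _ _
      (LinearEquiv.piCongrRight fun k => (eE k).some.toLinearEquiv)
  -- the basis over `A ⊗ E'`
  have g3 : ∀ k, GBasis (A ⊗[B i] E' k) ((A ⊗[B i] E' k) ⊗[B i] X) (M k) := fun k =>
    (((gM k).some.bc ((eE k).some.symm : E k →ₐ[A] A ⊗[B i] E' k)).map
      (Groth.Agent.Sga3A.BCIso.congrBialg (A ⊗[B i] E' k) e.symm)).map
      (Groth.Agent.Sga3A.BCIso.cancelBialg (B i) A (A ⊗[B i] E' k) X)
  obtain ⟨j, hj⟩ := (sys hmono hsup i).exists_isQuasiIsotrivial hff' g3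
  let _ : Algebra (B i) (B j.1) := algInc hmono j.2
  have : IsScalarTower (B i) (B j.1) A := .of_algebraMap_eq' rfl
  have hfp : Algebra.FinitePresentation (B j.1) (B j.1 ⊗[B i] X) := inferInstance
  exact ⟨j.1, B j.1 ⊗[B i] X, inferInstance, inferInstance, inferInstance, hj,
    ⟨(Groth.Agent.Sga3A.BCIso.cancelBialg (B i) (B j.1) A X).trans e⟩⟩

end K202.SubringDesc
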