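import Groth.Agent.Sga3A.GeomConn
import Mathlib.RingTheory.Flat.Rank
import Mathlib.RingTheory.TotallySplit
import Mathlib.RingTheory.Etale.Pi
import Mathlib.RingTheory.Flat.FaithfullyFlat.Algebra
import Mathlib.RingTheory.Finiteness.ModuleFinitePresentation
import Mathlib.RingTheory.Localization.Away.Lemmas

/-!
Finite étale algebras over a ring with connected spectrum: constant rank, faithful flatness, existence of a
connected finite étale factor, homomorphisms from split algebras.
-/

set_option autoImplicit false

open TensorProduct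

namespace K202.ConnRing

universe u v

theorem idem {B : Type*} [CommRing B] [ConnectedSpace (PrimeSpectrum B)] {e : B}
    (he : IsIdempotentElem e) : e = 0 ∨ e = 1 := by
  obtain h | h := isClopen_iff.mp (PrimeSpectrum.isClopen_iff.mpr ⟨e, he, rfl⟩ :
    IsClopen (PrimeSpectrum.basicOpen e : Set (PrimeSpectrum B)))
  · left
    apply PrimeSpectrum.basicOpen_injOn_isIdempotentElem he IsIdempotentElem.zero
    ext1
    simpa using h
  · right
    apply PrimeSpectrum.basicOpen_injOn_isIdempotentElem he IsIdempotentElem.one
    ext1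
    simpa using h

section rank

variable (R : Type u) [CommRing R] [ConnectedSpace (PrimeSpectrum R)]

theorem exists_rank (T : Type v) [AddCommGroup T] [Module R T] [Module.Finite R T]
    [Module.Projective R T] : ∃ n : ℕ, Module.rankAtStalk (R := R) T = n := by
  have := Module.finitePresentation_of_projective R T
  have h := Module.isLocallyConstant_rankAtStalk (R := R) (M := T)
  obtain ⟨p⟩ : Nonempty (PrimeSpectrum R) := inferInstance
  exact ⟨_, funext fun q =>
    h.apply_eq_of_isPreconnected isPreconnected_univ (Set.mem_univ q) (Set.mem_univ p)⟩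

theorem faithfullyFlat (T : Type v) [CommRing T] [Algebra R T] [Module.Finite R T]
    [Module.Projective R T] [Nontrivial T] : Module.FaithfullyFlat R T := by
  obtain ⟨n, hn⟩ := exists_rank R T
  have hpos : 0 < n := by
    rcases Nat.eq_zero_or_pos n with rfl | h
    · exfalso
      have : Subsingleton T := by
        rw [← Module.rankAtStalk_eq_zero_iff_subsingleton (R := R), hn]
        rfl
      exact not_subsingleton T this
    · exact h
  refine Module.FaithfullyFlat.of_comap_surjective ?_
  rw [← PrimeSpectrum.rankAtStalk_pos_iff_comap_surjective]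
  intro p
  rw [hn]
  exact hpos

end rank

section quot

variable {R : Type u} [CommRing R] {T : Type v} [CommRing T] [Algebra R T] {e : T}

/-- A finite étale algebra is the product of its two quotients by complementary idempotents. -/
theorem exists_prod (he : IsIdempotentElem e) :
    Nonempty (T ≃ₐ[R] (T ⧸ Ideal.span ({e} : Set T)) × (T ⧸ Ideal.span ({1 - e} : Set T))) := by
  let f : T →ₐ[R] (T ⧸ Ideal.span ({e} : Set T)) × (T ⧸ Ideal.span ({1 - e} : Set T)) :=
    (Ideal.Quotient.mkₐ R _).prod (Ideal.Quotient.mkₐ R _)
  refine ⟨AlgEquiv.ofBijective f ⟨?_, ?_⟩⟩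
  · rw [injective_iff_map_eq_zero]
    intro x hx
    have h1 : x ∈ Ideal.span ({e} : Set T) := Ideal.Quotient.eq_zero_iff_mem.mp (congrArg Prod.fst hx)
    have h2 : x ∈ Ideal.span ({1 - e} : Set T) := Ideal.Quotient.eq_zero_iff_mem.mp (congrArg Prod.snd hx)
    obtain ⟨y, hy⟩ := Ideal.mem_span_singleton'.mp h1
    obtain ⟨z, hz⟩ := Ideal.mem_span_singleton'.mp h2
    have h3 : x * e = x := by rw [← hy, mul_assoc, he.eq]
    have h4 : x * e = 0 := by rw [← hz, mul_assoc, sub_mul, one_mul, he.eq, sub_self, mul_zero]
    rw [← h3, h4]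
  · rintro ⟨a, b⟩
    obtain ⟨a, rfl⟩ := Ideal.Quotient.mk_surjective a
    obtain ⟨b, rfl⟩ := Ideal.Quotient.mk_surjective b
    refine ⟨a * (1 - e) + b * e, Prod.ext ?_ ?_⟩
    · change Ideal.Quotient.mk _ _ = Ideal.Quotient.mk _ _
      rw [Ideal.Quotient.eq, Ideal.mem_span_singleton']
      exact ⟨b - a, by ring⟩
    · change Ideal.Quotient.mk _ _ = Ideal.Quotient.mk _ _
      rw [Ideal.Quotient.eq, Ideal.mem_span_singleton']
      exact ⟨a - b, by ring⟩

theorem etale_quot [Algebra.Etale R T] (he : IsIdempotentElem e) :
    Algebra.Etale R (T ⧸ Ideal.span ({e} : Set T)) := by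
  have h1 : IsLocalization.Away (1 - e) (T ⧸ Ideal.span ({e} : Set T)) := by
    have := IsLocalization.Away.quotient_of_isIdempotentElem he.one_sub
    rwa [sub_sub_cancel] at this
  have h2 : Algebra.Etale T (T ⧸ Ideal.span ({e} : Set T)) := Algebra.Etale.of_isLocalizationAway (1 - e)
  exact Algebra.Etale.comp R T _

end quot

section factor

variable (R : Type u) [CommRing R] [ConnectedSpace (PrimeSpectrum R)]

omit [ConnectedSpace (PrimeSpectrum R)] in
theorem projective_of_etale (T : Type v) [CommRing T] [Algebra R T]
    [Module.Finite R T] [Algebra.Etale R T] : Module.Projective R T := by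
  have hfp : Module.FinitePresentation R T :=
    Module.FinitePresentation.of_finite_of_finitePresentation R T
  exact Module.Flat.projective_of_finitePresentation

theorem exists_connected_factor_aux (n : ℕ) : ∀ (T : Type v) [CommRing T] [Algebra R T]
    [Module.Finite R T] [Algebra.Etale R T] [Nontrivial T], Module.rankAtStalk (R := R) T = n →
    ∃ (I : Ideal T), Module.Finite R (T ⧸ I) ∧ Algebra.Etale R (T ⧸ I) ∧ Module.FaithfullyFlat R (T ⧸ I) ∧
      ConnectedSpace (PrimeSpectrum (T ⧸ I)) := by
  induction n using Nat.strong_induction_on with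
  | _ n ih =>
    intro T _ _ _ _ _ hn
    have hproj : Module.Projective R T := projective_of_etale R T
    by_cases hc : ∀ e : T, IsIdempotentElem e → e = 0 ∨ e = 1
    · have hconn := Groth.Agent.Sga3A.GeomConn.connectedSpace_of_idempotents T hc
      let eq : T ≃ₐ[R] T ⧸ (⊥ : Ideal T) := (AlgEquiv.quotientBot R T).symm
      have hff := faithfullyFlat R T
      refine ⟨⊥, Module.Finite.equiv eq.toLinearEquiv, Algebra.Etale.of_equiv eq,
        Module.FaithfullyFlat.of_linearEquiv _ _ eq.symm.toLinearEquiv, ?_⟩
      exact (PrimeSpectrum.homeomorphOfRingEquiv eq.toRingEquiv).surjective.connectedSpace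
        (PrimeSpectrum.homeomorphOfRingEquiv eq.toRingEquiv).continuous
    · push Not at hc
      obtain ⟨e, he, he0, he1⟩ := hc
      obtain ⟨E⟩ := exists_prod (R := R) he
      let T₁ := T ⧸ Ideal.span ({e} : Set T)
      let T₂ := T ⧸ Ideal.span ({1 - e} : Set T)
      have hnt1 : Nontrivial T₁ := by
        apply Ideal.Quotient.nontrivial_iff.mpr
        intro h
        rw [Ideal.span_singleton_eq_top] at h
        exact he1 ((IsIdempotentElem.iff_eq_one_of_isUnit h).mp he)
      have hnt2 : Nontrivial T₂ := by
        apply Ideal.Quotient.nontrivial_iff.mpr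
        intro h
        rw [Ideal.span_singleton_eq_top] at h
        apply he0
        have := (IsIdempotentElem.iff_eq_one_of_isUnit h).mp he.one_sub
        rwa [sub_eq_self] at this
      have het1 : Algebra.Etale R T₁ := etale_quot he
      have het2 : Algebra.Etale R T₂ := etale_quot he.one_sub
      have hp1 : Module.Projective R T₁ := projective_of_etale R T₁
      have hp2 : Module.Projective R T₂ := projective_of_etale R T₂
      obtain ⟨n1, hn1⟩ := exists_rank R T₁
      obtain ⟨n2, hn2⟩ := exists_rank R T₂
      obtain ⟨p⟩ : Nonempty (PrimeSpectrum R) := inferInstance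
      have hsum : n = n1 + n2 := by
        have h1 := congrFun (Module.rankAtStalk_eq_of_equiv E.toLinearEquiv) p
        rw [Module.rankAtStalk_prod, Pi.add_apply, hn, hn1, hn2] at h1
        simpa using h1
      have hpos : 0 < n2 := by
        rcases Nat.eq_zero_or_pos n2 with rfl | h
        · exfalso
          have : Subsingleton T₂ := by
            rw [← Module.rankAtStalk_eq_zero_iff_subsingleton (R := R), hn2]
            rfl
          exact not_subsingleton T₂ this
        · exact h
      obtain ⟨J, hJ1, hJ2, hJ3, hJ4⟩ := ih n1 (by omega) T₁ hn1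
      let J' : Ideal T := J.comap (Ideal.Quotient.mk (Ideal.span ({e} : Set T)))
      let ψ : T →ₐ[R] T₁ ⧸ J := (Ideal.Quotient.mkₐ R J).comp (Ideal.Quotient.mkₐ R (Ideal.span ({e} : Set T)))
      have hψ : Function.Surjective ψ := (Ideal.Quotient.mk_surjective).comp Ideal.Quotient.mk_surjective
      let eq : (T ⧸ RingHom.ker ψ) ≃ₐ[R] T₁ ⧸ J := Ideal.quotientKerAlgEquivOfSurjective hψ
      refine ⟨RingHom.ker ψ, Module.Finite.equiv eq.symm.toLinearEquiv, Algebra.Etale.of_equiv eq.symm,
        Module.FaithfullyFlat.of_linearEquiv _ _ eq.toLinearEquiv, ?_⟩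
      exact (PrimeSpectrum.homeomorphOfRingEquiv eq.symm.toRingEquiv).surjective.connectedSpace
        (PrimeSpectrum.homeomorphOfRingEquiv eq.symm.toRingEquiv).continuous

/-- A nonzero finite étale algebra over a ring with connected spectrum has a quotient which is finite étale,
faithfully flat and has connected spectrum. -/
theorem exists_connected_factor (T : Type v) [CommRing T] [Algebra R T]
    [Module.Finite R T] [Algebra.Etale R T] [Nontrivial T] :
    ∃ (I : Ideal T), Module.Finite R (T ⧸ I) ∧ Algebra.Etale R (T ⧸ I) ∧ Module.FaithfullyFlat R (T ⧸ I) ∧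
      ConnectedSpace (PrimeSpectrum (T ⧸ I)) := by
  have := projective_of_etale R T
  obtain ⟨n, hn⟩ := exists_rank R T
  exact exists_connected_factor_aux R n T hn

/-- A finite étale algebra over a ring with connected spectrum is split by a finite étale faithfully flat algebra
with connected spectrum. -/
theorem exists_connected_split (R : Type u) [CommRing R] [ConnectedSpace (PrimeSpectrum R)]
    (D : Type u) [CommRing D] [Algebra R D] [Module.Finite R D] [Algebra.Etale R D] :
    ∃ (T : Type u) (_ : CommRing T) (_ : Algebra R T), Module.FaithfullyFlat R T ∧ Module.Finite R T ∧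
      Algebra.Etale R T ∧ ConnectedSpace (PrimeSpectrum T) ∧ Algebra.IsFiniteSplit T (T ⊗[R] D) := by
  have := projective_of_etale R D
  obtain ⟨n, hn⟩ := exists_rank R D
  obtain ⟨T, _, _, _, _, _, hT⟩ := Algebra.IsFiniteSplit.exists_tensorProduct_of_etale (R := R) (S := D) hn
  have : Nontrivial R := PrimeSpectrum.nonempty_iff_nontrivial.mp inferInstance
  have : Nontrivial T := (FaithfulSMul.algebraMap_injective R T).nontrivial
  obtain ⟨I, h1, h2, h3, h4⟩ := exists_connected_factor R T
  refine ⟨T ⧸ I, inferInstance, inferInstance, h3, h1, h2, h4, ?_⟩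
  let E : (T ⧸ I) ⊗[T] (T ⊗[R] D) ≃ₐ[T ⧸ I] (T ⧸ I) ⊗[R] D :=
    Algebra.TensorProduct.cancelBaseChange R T (T ⧸ I) (T ⧸ I) D
  exact Algebra.IsFiniteSplit.of_algEquiv E

end factor

end K202.ConnRing
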