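import Groth.Agent.SGA3b.K202.Conv
import Groth.Agent.Sga3A.TorsionDense
import Mathlib.Algebra.Category.Grp.Injective
import Mathlib.FieldTheory.IsAlgClosed.Basic
import Mathlib.RingTheory.Jacobson.Ring
import Mathlib.RingTheory.Nullstellensatz
import Mathlib.RingTheory.Ideal.MinimalPrime.Noetherian

/-!
# Density of the torsion in a commutative group with an open diagonalisable subgroup

`K` algebraically closed, `C` a commutative cocommutative Hopf algebra of finite type over `K`,
`π : C → K[M]` surjective with kernel generated by an idempotent.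
* `exists_torsion_translate`: every point is in the translate of `D(M)` by a torsion point;
* `dense_of_open`: the torsion is schematically dense.
-/

set_option autoImplicit false
universe u

open TensorProduct SGA3b Coalgebra Bialgebra WithConv

namespace K202.DenseOpen

open K202.Conv Groth.Agent.Sga3A.TorsionDense

section Chars

variable {G : Type*} [CommGroup G] {K : Type*} [Field K] [IsAlgClosed K]

/-- Divisibility of `Kˣ`: characters extend from subgroups. -/
lemma exists_extend_char (H : Subgroup G) (f : H →* Kˣ) :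
    ∃ F : G →* Kˣ, ∀ h : H, F h = f h := by
  have hsurj : ∀ {n : ℤ}, n ≠ 0 → Function.Surjective (fun a : Additive Kˣ => n • a) := by
    intro n hn a
    have hnat : 0 < n.natAbs := Int.natAbs_pos.2 hn
    obtain ⟨z, hz⟩ := IsAlgClosed.exists_pow_nat_eq ((a.toMul : Kˣ) : K) hnat
    have hz0 : z ≠ 0 := by
      intro h0
      rw [h0, zero_pow hnat.ne'] at hz
      exact (a.toMul : Kˣ).ne_zero hz.symm
    let y : Kˣ := Units.mk0 z hz0
    have hy : y ^ n.natAbs = a.toMul := Units.ext (by rw [Units.val_pow_eq_pow_val]; exact hz)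
    rcases Int.natAbs_eq n with h | h
    · refine ⟨Additive.ofMul y, ?_⟩
      change n • Additive.ofMul y = a
      rw [← ofMul_zpow, h, zpow_natCast, hy]
      rfl
    · refine ⟨Additive.ofMul y⁻¹, ?_⟩
      change n • Additive.ofMul y⁻¹ = a
      rw [← ofMul_zpow, h, zpow_neg, inv_zpow, inv_inv, zpow_natCast, hy]
      rfl
  have hdiv : DivisibleBy (Additive Kˣ) ℤ := divisibleByOfSMulRightSurj _ _ hsurj
  obtain ⟨F, hF⟩ := (Module.Baer.of_divisible (Additive Kˣ)).extension_property_addMonoidHom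
    (MonoidHom.toAdditive H.subtype) (by
      intro x y hxy
      exact Additive.toMul.injective (Subtype.ext (Additive.ofMul.injective hxy)))
    (MonoidHom.toAdditive f)
  refine ⟨MonoidHom.toAdditive.symm F, fun h => ?_⟩
  exact congrArg Additive.toMul (DFunLike.congr_fun hF (Additive.ofMul h))

/-- The torsion of a finitely generated commutative group is killed by a positive integer. -/
lemma exists_exponent (M : Type*) [CommGroup M] [Group.FG M] :
    ∃ l : ℕ, 0 < l ∧ ∀ x : M, IsOfFinOrder x → x ^ l = 1 := by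
  have h1 : Module.Finite ℤ (Additive M) :=
    Module.Finite.iff_addGroup_fg.mpr (GroupFG.iff_add_fg.mp inferInstance)
  have h2 : IsNoetherian ℤ (Additive M) := isNoetherian_of_isNoetherianRing_of_finite ℤ _
  let f : ℕ →o Submodule ℤ (Additive M) :=
    { toFun := fun n => LinearMap.ker (LinearMap.lsmul ℤ (Additive M) (n.factorial : ℤ))
      monotone' := by
        intro a b hab x hx
        rw [LinearMap.mem_ker, LinearMap.lsmul_apply] at hx ⊢
        obtain ⟨c, hc⟩ := Nat.factorial_dvd_factorial hab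
        rw [hc, Nat.cast_mul, mul_comm, mul_smul, hx, smul_zero] }
  have hf : ∀ n (x : M), Additive.ofMul x ∈ f n ↔ x ^ n.factorial = 1 := by
    intro n x
    change ((n.factorial : ℤ) • Additive.ofMul x = 0) ↔ _
    rw [natCast_zsmul, ← ofMul_pow, ofMul_eq_zero]
  obtain ⟨N, hN⟩ := monotone_stabilizes_iff_noetherian.mpr h2 f
  refine ⟨N.factorial, N.factorial_pos, fun x hx => ?_⟩
  obtain ⟨n, hn, hxn⟩ := isOfFinOrder_iff_pow_eq_one.mp hx
  have h3 : Additive.ofMul x ∈ f n := by
    rw [hf]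
    obtain ⟨c, hc⟩ := Nat.dvd_factorial hn le_rfl
    rw [hc, pow_mul, hxn, one_pow]
  have h4 : Additive.ofMul x ∈ f (max n N) := f.monotone (le_max_left n N) h3
  rw [← hN _ (le_max_right n N), hf] at h4
  exact h4

/-- Up to a power, characters of a finitely generated group are divisible. -/
lemma exists_root {M : Type*} [CommGroup M] [Group.FG M] (χ : M →* Kˣ) {m : ℕ} (hm : 0 < m) :
    ∃ (χ' : M →* Kˣ) (l : ℕ), 0 < l ∧ ∀ x, χ' x ^ (m * l) = χ x ^ l := by
  obtain ⟨l, hl, hl'⟩ := exists_exponent M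
  let q := m * l
  have hq : 0 < q := Nat.mul_pos hm hl
  let H : Subgroup M := (powMonoidHom q : M →* M).range
  -- the character `x ^ q ↦ χ x ^ l`
  have hker : (powMonoidHom q : M →* M).ker ≤ (χ ^ l).ker := by
    intro x hx
    have hx' : x ^ q = 1 := hx
    have h3 : x ^ l = 1 := hl' x (isOfFinOrder_iff_pow_eq_one.mpr ⟨q, hq, hx'⟩)
    change χ x ^ l = 1
    rw [← map_pow, h3, map_one]
  let e : M ⧸ (powMonoidHom q : M →* M).ker ≃* H := QuotientGroup.quotientKerEquivRange _
  let ψ : H →* Kˣ := (QuotientGroup.lift _ (χ ^ l) hker).comp (e.symm : H →* _)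
  have hψ : ∀ x : M, ψ ⟨x ^ q, x, rfl⟩ = χ x ^ l := by
    intro x
    have h4 : e.symm ⟨x ^ q, x, rfl⟩ = QuotientGroup.mk x := by
      rw [MulEquiv.symm_apply_eq]
      rfl
    change (QuotientGroup.lift _ (χ ^ l) hker) (e.symm ⟨x ^ q, x, rfl⟩) = _
    rw [h4]
    rfl
  obtain ⟨F, hF⟩ := exists_extend_char H ψ
  refine ⟨F, l, hl, fun x => ?_⟩
  have h5 := hF ⟨x ^ q, x, rfl⟩
  rw [hψ] at h5
  change F x ^ q = χ x ^ l
  rw [← h5, ← map_pow]

end Chars

section Translate

variable {K : Type u} [Field K] {C : Type u} [CommRing C] [HopfAlgebra K C]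
  {D : Type*} [CommRing D] [Algebra K D]

/-- constant points -/
noncomputable abbrev cst (D : Type*) [CommRing D] [Algebra K D] :
    WithConv (C →ₐ[K] K) →* WithConv (C →ₐ[K] D) := post (Algebra.ofId K D)

/-- Left translation. -/
noncomputable def tr (g : WithConv (C →ₐ[K] K)) : C →ₐ[K] C :=
  (cst C g * toConv (AlgHom.id K C)).ofConv

lemma post_tr (g : WithConv (C →ₐ[K] K)) (f : C →ₐ[K] D) :
    toConv (f.comp (tr g)) = cst D g * toConv f := by
  have h := map_mul (post (A := C) f) (cst C g) (toConv (AlgHom.id K C))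
  refine h.trans ?_
  congr 1
  apply WithConv.ofConv_injective
  ext c
  exact f.commutes _

lemma tr_comp_tr (g h : WithConv (C →ₐ[K] K)) : (tr g).comp (tr h) = tr (h * g) := by
  apply WithConv.toConv_injective
  rw [post_tr]
  change cst C h * (cst C g * toConv (AlgHom.id K C)) = cst C (h * g) * toConv (AlgHom.id K C)
  rw [map_mul, mul_assoc]

lemma tr_one : tr (1 : WithConv (C →ₐ[K] K)) = AlgHom.id K C := by
  apply WithConv.toConv_injective
  change cst C 1 * toConv (AlgHom.id K C) = _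
  rw [map_one, one_mul]

lemma tr_tr_inv (g : WithConv (C →ₐ[K] K)) (c : C) : tr g (tr g⁻¹ c) = c := by
  have := tr_comp_tr g g⁻¹
  rw [inv_mul_cancel, tr_one] at this
  exact congr($this c)

lemma counit_tr (g : WithConv (C →ₐ[K] K)) (c : C) : counit (R := K) (tr g c) = g c := by
  have h := post_tr g (counitAlgHom K C)
  have h1 : (toConv (counitAlgHom K C) : WithConv (C →ₐ[K] K)) = 1 := rfl
  have h2 : cst K g = g := by
    apply WithConv.ofConv_injective
    ext c
    rfl
  rw [h1, mul_one, h2] at h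
  exact congr($h c)

end Translate

/-- Idempotents of a Noetherian ring lying in the same minimal primes are equal. -/
lemma idem_ext {C : Type*} [CommRing C] {e f : C} (he : IsIdempotentElem e)
    (hf : IsIdempotentElem f) (h : ∀ p ∈ minimalPrimes C, e ∈ p ↔ f ∈ p) : e = f := by
  have key : ∀ {e f : C}, IsIdempotentElem e → IsIdempotentElem f →
      (∀ p ∈ minimalPrimes C, e ∈ p ↔ f ∈ p) → e * (1 - f) = 0 := by
    intro e f he hf h
    have h1 : e * (1 - f) ∈ nilradical C := by
      change e * (1 - f) ∈ (⊥ : Ideal C).radical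
      rw [← Ideal.sInf_minimalPrimes (I := (⊥ : Ideal C)), Submodule.mem_sInf]
      intro (p : Ideal C) hp
      have hpp : p.IsPrime := hp.1.1
      by_cases hep : e ∈ p
      · exact p.mul_mem_right _ hep
      · have hfp : f ∉ p := fun hfp => hep ((h p hp).mpr hfp)
        have h2 : f * (1 - f) = 0 := by rw [mul_sub, mul_one, hf.eq, sub_self]
        have h3 : f * (1 - f) ∈ p := by rw [h2]; exact p.zero_mem
        exact p.mul_mem_left _ ((hpp.mem_or_mem h3).resolve_left hfp)
    have h4 : IsIdempotentElem (e * (1 - f)) := he.mul hf.one_sub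
    obtain ⟨n, hn⟩ := h1
    rcases Nat.eq_zero_or_pos n with h0 | h0
    · subst h0
      rw [pow_zero] at hn
      calc e * (1 - f) = (e * (1 - f)) * 1 := (mul_one _).symm
        _ = 0 := by rw [hn, mul_zero]
    · rwa [h4.pow_eq h0.ne'] at hn
  have h1 := key he hf h
  have h2 := key hf he (fun p hp => (h p hp).symm)
  rw [mul_sub, mul_one, sub_eq_zero] at h1 h2
  rw [h1, mul_comm, ← h2]

section Main

variable {K : Type u} [Field K] {C : Type u} [CommRing C] [HopfAlgebra K C]
  {e : C}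

lemma exists_pow_mem (hft : Algebra.FiniteType K C) (he : IsIdempotentElem e)
    (hε : counit (R := K) e = 0) (h : WithConv (C →ₐ[K] K)) : ∃ m : ℕ, 0 < m ∧ (h ^ m) e = 0 := by
  have hN : IsNoetherianRing C := Algebra.FiniteType.isNoetherianRing K C
  have hfin : Finite (minimalPrimes C) :=
    (Ideal.finite_minimalPrimes_of_isNoetherianRing C ⊥).to_subtype
  have hidem : ∀ g : WithConv (C →ₐ[K] K), IsIdempotentElem (tr g e) := fun g => he.map (tr g)
  let F : ℕ → Set (minimalPrimes C) := fun i => {p | tr (h ^ i) e ∈ p.1}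
  have hF : ¬ Function.Injective F := not_injective_infinite_finite F
  rw [Function.Injective] at hF
  push Not at hF
  obtain ⟨i, j, hij, hne⟩ := hF
  have key : ∀ i j : ℕ, i < j → F i = F j → ∃ m : ℕ, 0 < m ∧ (h ^ m) e = 0 := by
    intro i j hlt hij
    refine ⟨j - i, by omega, ?_⟩
    have h1 : tr (h ^ i) e = tr (h ^ j) e := by
      apply idem_ext (hidem _) (hidem _)
      intro p hp
      exact Set.ext_iff.mp hij ⟨p, hp⟩
    have h2 : tr (h ^ j) e = tr (h ^ i) (tr (h ^ (j - i)) e) := by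
      have := congr($(tr_comp_tr (h ^ i) (h ^ (j - i))) e)
      rw [← pow_add, Nat.sub_add_cancel hlt.le] at this
      exact this.symm
    rw [h2] at h1
    have h3 : tr (h ^ i)⁻¹ (tr (h ^ i) e) = tr (h ^ i)⁻¹ (tr (h ^ i) (tr (h ^ (j - i)) e)) := by
      rw [← h1]
    have h4 : ∀ c, tr (h ^ i)⁻¹ (tr (h ^ i) c) = c := by
      intro c
      have := tr_tr_inv (h ^ i)⁻¹ c
      rwa [inv_inv] at this
    rw [h4, h4] at h3
    rw [← counit_tr, ← h3, hε]
  rcases lt_trichotomy i j with h1 | h1 | h1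
  · exact key i j h1 hij
  · exact absurd h1 hne
  · exact key j i h1 hij.symm

variable {M : Type u} [CommGroup M]

/-- The point attached to a character. -/
noncomputable def pt (χ : M →* Kˣ) : WithConv (MonoidAlgebra K M →ₐ[K] K) :=
  toConv (MonoidAlgebra.lift K K M ((Units.coeHom K).comp χ))

lemma pt_single (χ : M →* Kˣ) (m : M) : pt χ (MonoidAlgebra.single m 1) = (χ m : K) := by
  change MonoidAlgebra.lift K K M ((Units.coeHom K).comp χ) (MonoidAlgebra.single m 1) = _
  simp

lemma pt_ext {x y : WithConv (MonoidAlgebra K M →ₐ[K] K)}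
    (h : ∀ m, x (MonoidAlgebra.single m 1) = y (MonoidAlgebra.single m 1)) : x = y := by
  apply WithConv.ofConv_injective
  ext m
  exact h m

lemma pt_pow_single (χ : M →* Kˣ) (n : ℕ) (m : M) :
    (pt χ ^ n) (MonoidAlgebra.single m 1) = ((χ m) ^ n : Kˣ) := by
  induction n with
  | zero =>
    rw [pow_zero, AlgHom.convOne_apply]
    simp
  | succ n ih =>
    rw [pow_succ (pt χ), AlgHom.convMul_apply]
    simp only [MonoidAlgebra.comul_single, CommSemiring.comul_apply, TensorProduct.map_tmul,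
      MonoidAlgebra.lsingle_apply, Algebra.TensorProduct.lift_tmul]
    rw [pow_succ, Units.val_mul, ← ih, ← pt_single χ m]

lemma exists_pt (x : WithConv (MonoidAlgebra K M →ₐ[K] K)) : ∃ χ : M →* Kˣ, x = pt χ := by
  let f : M →* K := (x.ofConv : MonoidAlgebra K M →* K).comp (MonoidAlgebra.of K M)
  refine ⟨MonoidHom.toHomUnits f, ?_⟩
  apply pt_ext
  intro m
  rw [pt_single]
  rfl

variable [IsAlgClosed K] [IsCocomm K C] [Group.FG M] (π : C →ₐc[K] MonoidAlgebra K M)

/-- Every point lies in the translate of `D(M)` by a torsion point. -/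
lemma exists_torsion (hft : Algebra.FiniteType K C) (he : IsIdempotentElem e)
    (hπ : Function.Surjective π) (hker : RingHom.ker (π : C →+* MonoidAlgebra K M) = Ideal.span {e})
    (h : WithConv (C →ₐ[K] K)) :
    ∃ (g : WithConv (C →ₐ[K] K)) (n : ℕ), 0 < n ∧ g ^ n = 1 ∧ (g⁻¹ * h) e = 0 := by
  have hπe : π e = 0 := by
    have : e ∈ RingHom.ker (π : C →+* MonoidAlgebra K M) := hker ▸ Ideal.mem_span_singleton_self e
    exact this
  have hε : counit (R := K) e = 0 := by
    rw [← CoalgHomClass.counit_comp_apply π e, hπe, map_zero]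
  obtain ⟨m, hm, hme⟩ := exists_pow_mem hft he hε h
  -- `h ^ m` factors through `π`
  have hle : RingHom.ker (π : C →ₐ[K] MonoidAlgebra K M) ≤ RingHom.ker (h ^ m).ofConv := by
    change RingHom.ker (π : C →+* MonoidAlgebra K M) ≤ _
    rw [hker, Ideal.span_le, Set.singleton_subset_iff]
    exact hme
  let ρ : MonoidAlgebra K M →ₐ[K] K :=
    (Ideal.Quotient.liftₐ (RingHom.ker (π : C →ₐ[K] MonoidAlgebra K M)) (h ^ m).ofConv
      (fun a ha => hle ha)).comp
      (Ideal.quotientKerAlgEquivOfSurjective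
        (f := (π : C →ₐ[K] MonoidAlgebra K M)) hπ).symm.toAlgHom
  have hρ : pre π (toConv ρ) = h ^ m := by
    apply WithConv.ofConv_injective
    ext c
    have h3 : (Ideal.quotientKerAlgEquivOfSurjective
        (f := (π : C →ₐ[K] MonoidAlgebra K M)) hπ).symm (π c) = Ideal.Quotient.mk _ c := by
      rw [AlgEquiv.symm_apply_eq]
      rfl
    change (Ideal.Quotient.liftₐ (RingHom.ker (π : C →ₐ[K] MonoidAlgebra K M)) (h ^ m).ofConv
      (fun a ha => hle ha)) ((Ideal.quotientKerAlgEquivOfSurjective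
        (f := (π : C →ₐ[K] MonoidAlgebra K M)) hπ).symm (π c)) = _
    rw [h3]
    rfl
  obtain ⟨χ, hχ⟩ := exists_pt (toConv ρ)
  obtain ⟨χ', l, hl, hχ'⟩ := exists_root χ hm
  have hpt : pt χ' ^ (m * l) = pt χ ^ l := by
    apply pt_ext
    intro x
    rw [pt_pow_single, pt_pow_single, hχ']
  let t : WithConv (C →ₐ[K] K) := pre π (pt χ')
  refine ⟨h * t⁻¹, m * l, Nat.mul_pos hm hl, ?_, ?_⟩
  · rw [mul_pow, inv_pow, mul_inv_eq_one, pow_mul, ← hρ, hχ, ← map_pow, ← hpt, map_pow]
  · have h5 : (h * t⁻¹)⁻¹ * h = t := by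
      rw [mul_inv_rev, inv_inv, mul_assoc, inv_mul_cancel, mul_one]
    rw [h5]
    change pt χ' (π e) = 0
    rw [hπe]
    exact map_zero (pt χ').ofConv

/-- **Density of the torsion** over an algebraically closed field. -/
theorem dense_of_open (hft : Algebra.FiniteType K C) (he : IsIdempotentElem e)
    (hπ : Function.Surjective π)
    (hker : RingHom.ker (π : C →+* MonoidAlgebra K M) = Ideal.span {e}) : Dense K C := by
  intro a y hay
  let I : Ideal C :=
    { carrier := {c | ∃ N : ℕ, c * (a ^ N * y) = 0}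
      zero_mem' := ⟨0, zero_mul _⟩
      add_mem' := by
        rintro c c' ⟨N, hN⟩ ⟨N', hN'⟩
        refine ⟨N + N', ?_⟩
        have h1 : (c + c') * (a ^ (N + N') * y) =
            a ^ N' * (c * (a ^ N * y)) + a ^ N * (c' * (a ^ N' * y)) := by ring
        rw [h1, hN, hN', mul_zero, mul_zero, add_zero]
      smul_mem' := by
        rintro r c ⟨N, hN⟩
        exact ⟨N, by rw [smul_eq_mul, mul_assoc, hN, mul_zero]⟩ }
  suffices hI : I = ⊤ by
    have h1 : (1 : C) ∈ I := hI ▸ Submodule.mem_top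
    obtain ⟨N, hN⟩ := h1
    exact ⟨N, by rwa [one_mul] at hN⟩
  by_contra hI
  obtain ⟨𝔫, h𝔫, hle⟩ := Ideal.exists_le_maximal I hI
  let _ : Field (C ⧸ 𝔫) := Ideal.Quotient.field 𝔫
  have : Algebra.FiniteType K (C ⧸ 𝔫) := inferInstance
  have hfin : Module.Finite K (C ⧸ 𝔫) := finite_of_finite_type_of_isJacobsonRing K (C ⧸ 𝔫)
  have hbij : Function.Bijective (algebraMap K (C ⧸ 𝔫)) :=
    IsAlgClosed.algebraMap_bijective_of_isIntegral
  let E : K ≃ₐ[K] C ⧸ 𝔫 := AlgEquiv.ofBijective (Algebra.ofId K (C ⧸ 𝔫)) hbij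
  let h : WithConv (C →ₐ[K] K) := toConv ((E.symm : (C ⧸ 𝔫) →ₐ[K] K).comp (Ideal.Quotient.mkₐ K 𝔫))
  have hh : ∀ c ∈ 𝔫, h c = 0 := by
    intro c hc
    change E.symm (Ideal.Quotient.mk 𝔫 c) = 0
    rw [Ideal.Quotient.eq_zero_iff_mem.mpr hc, map_zero]
  obtain ⟨g, n, hn, hgn, hge⟩ := exists_torsion π hft he hπ hker h
  let πg : C →ₐ[K] MonoidAlgebra K M := (π : C →ₐ[K] MonoidAlgebra K M).comp (tr g)
  have hD : Dense K (MonoidAlgebra K M) := dense_monoidAlgebra K M
  have hmem : ∀ n' : ℕ, 0 < n' →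
      ∃ N : ℕ, (πg a) ^ N * πg y ∈ torsionIdeal K (MonoidAlgebra K M) n' := by
    intro n' hn'
    obtain ⟨N, hN⟩ := hay (n' * n) (Nat.mul_pos hn' hn)
    refine ⟨N, ?_⟩
    let q := Ideal.Quotient.mkₐ K (torsionIdeal K (MonoidAlgebra K M) n')
    have hq : RingHom.ker q = torsionIdeal K (MonoidAlgebra K M) n' := Ideal.mk_ker
    have h1 : (toConv q) ^ n' = 1 := (torsionIdeal_le_ker_iff q n').mp hq.ge
    have h2 : torsionIdeal K C (n' * n) ≤ RingHom.ker (q.comp πg) := by
      rw [torsionIdeal_le_ker_iff]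
      have h3 : toConv (q.comp πg) =
          cst _ g * pre π (toConv q) := post_tr g (q.comp (π : C →ₐ[K] MonoidAlgebra K M))
      rw [h3, mul_pow, ← map_pow, ← map_pow, mul_comm n' n, pow_mul g, hgn, one_pow, map_one,
        one_mul, mul_comm n n', pow_mul, h1, one_pow, map_one]
    have h4 := h2 hN
    rw [← hq]
    change q (πg (a ^ N * y)) = 0 at h4
    rw [map_mul, map_pow] at h4
    exact h4
  obtain ⟨N, hN⟩ := hD (πg a) (πg y) hmem
  rw [← map_pow, ← map_mul] at hN
  have h5 : tr g (a ^ N * y) ∈ Ideal.span {e} := by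
    rw [← hker]
    exact hN
  obtain ⟨z, hz⟩ := Ideal.mem_span_singleton'.mp h5
  let c := tr g⁻¹ (1 - e)
  have h6 : tr g (c * (a ^ N * y)) = 0 := by
    rw [map_mul, tr_tr_inv, ← hz, mul_comm z e, ← mul_assoc, sub_mul, one_mul, he.eq, sub_self,
      zero_mul]
  have h7 : c * (a ^ N * y) = 0 := by
    have h8 := tr_tr_inv g⁻¹ (c * (a ^ N * y))
    rw [inv_inv, h6, map_zero] at h8
    exact h8.symm
  have h9 : h c = 0 := hh c (hle ⟨N, h7⟩)
  have h10 : h c = (g⁻¹ * h) (1 - e) := by
    have h11 := post_tr g⁻¹ h.ofConv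
    have h12 : cst K g⁻¹ = g⁻¹ := by
      apply WithConv.ofConv_injective
      ext c
      rfl
    rw [h12] at h11
    exact congr($h11 (1 - e))
  rw [h10] at h9
  have h13 : (g⁻¹ * h) (1 - e) = 1 := by
    have h14 : (g⁻¹ * h).ofConv (1 - e) = (g⁻¹ * h).ofConv 1 - (g⁻¹ * h).ofConv e := map_sub _ _ _
    rw [hge, sub_zero, map_one] at h14
    exact h14
  rw [h13] at h9
  exact one_ne_zero h9

end Main

end K202.DenseOpen
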