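import Groth.Agent.SGA3b.K202.ConnRing
import Groth.Agent.Sga3A.MTDual

/-!
Duality between group-like elements of `S ⊗ A` and algebra maps from the dual algebra of `A` to `S`, for a finite
projective Hopf algebra `A`, and the resulting splitting criterion: if the dual algebra is split over a ring `S` with
connected spectrum then `S ⊗ A` is a group algebra.
-/

set_option autoImplicit false

open TensorProduct SGA3b
open Groth.Agent.Sga3A.MTBasis Groth.Agent.Sga3A.MTDual

namespace K202.DualSplit

universe u v

section db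

variable {R : Type u} [CommRing R] {A : Type v} [AddCommGroup A] [Module R A]

theorem exists_db [Module.Finite R A] [Module.Projective R A] :
    ∃ (n : ℕ) (e : Fin n → A) (f : Fin n → WithConv (A →ₗ[R] R)), ∀ a : A, ∑ i, f i a • e i = a := by
  obtain ⟨n, F, G, -, -, hFG⟩ := Module.Finite.exists_comp_eq_id_of_projective R A
  refine ⟨n, fun i => F (Pi.single i 1), fun i => WithConv.toConv (LinearMap.proj i ∘ₗ G), fun a => ?_⟩
  have h1 : G a = ∑ i, G a i • (Pi.single i 1 : Fin n → R) := by
    funext j
    simp [Finset.sum_apply, Pi.single_apply]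
  have h2 := LinearMap.congr_fun hFG a
  rw [LinearMap.comp_apply, h1, map_sum] at h2
  simp only [map_smul, LinearMap.id_apply] at h2
  exact h2

theorem db_dual {n : ℕ} {e : Fin n → A} {f : Fin n → WithConv (A →ₗ[R] R)} (h : ∀ a : A, ∑ i, f i a • e i = a)
    (l : WithConv (A →ₗ[R] R)) : l = ∑ i, l (e i) • f i := by
  apply WithConv.ext
  refine LinearMap.ext fun a => ?_
  conv_lhs => rw [← h a, map_sum]
  rw [WithConv.ofConv_sum, LinearMap.sum_apply]
  refine Finset.sum_congr rfl fun i _ => ?_
  rw [map_smul, smul_eq_mul, mul_comm]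
  rfl

end db

section gl

variable {R A S : Type u} [CommRing R] [CommRing A] [HopfAlgebra R A] [CommRing S] [Algebra R S]

theorem evL_add (x y : S ⊗[R] A) (l : WithConv (A →ₗ[R] R)) : evL (x + y) l = evL x l + evL y l := by
  simp [evL_apply]

theorem evL_smul (s : S) (x : S ⊗[R] A) (l : WithConv (A →ₗ[R] R)) : evL (s • x) l = s * evL x l := by
  simp [evL_apply]

theorem evL_sum {ι : Type*} (t : Finset ι) (x : ι → S ⊗[R] A) (l : WithConv (A →ₗ[R] R)) :
    evL (∑ i ∈ t, x i) l = ∑ i ∈ t, evL (x i) l := by
  simp [evL_apply]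

theorem db_bc {n : ℕ} {e : Fin n → A} {f : Fin n → WithConv (A →ₗ[R] R)} (h : ∀ a : A, ∑ i, f i a • e i = a)
    (x : S ⊗[R] A) : x = ∑ i, evL x (f i) • ((1 : S) ⊗ₜ[R] e i) := by
  induction x using TensorProduct.induction_on with
  | zero => simp [evL_apply]
  | add x y hx hy =>
    conv_lhs => rw [hx, hy, ← Finset.sum_add_distrib]
    refine Finset.sum_congr rfl fun i _ => ?_
    rw [evL_add, add_smul]
  | tmul s a =>
    conv_lhs => rw [← h a, TensorProduct.tmul_sum]
    refine Finset.sum_congr rfl fun i _ => ?_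
    rw [evL_tmul, TensorProduct.tmul_smul, TensorProduct.smul_tmul', TensorProduct.smul_tmul', smul_assoc,
      smul_eq_mul, mul_one]

theorem evL_ext [Module.Finite R A] [Module.Projective R A] {x y : S ⊗[R] A}
    (h : ∀ l : WithConv (A →ₗ[R] R), evL x l = evL y l) : x = y := by
  obtain ⟨n, e, f, hef⟩ := exists_db (R := R) (A := A)
  rw [db_bc hef x, db_bc hef y]
  refine Finset.sum_congr rfl fun i _ => ?_
  rw [h]

/-- Elements of `(S ⊗ A) ⊗ (S ⊗ A)` are determined by their values under pairs of base changed linear forms. -/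
theorem tensor_ext [Module.Finite R A] [Module.Projective R A] {z z' : (S ⊗[R] A) ⊗[S] (S ⊗[R] A)}
    (h : ∀ l l' : WithConv (A →ₗ[R] R), LinearMap.mul' S S (TensorProduct.map (Module.Dual.baseChange S l.ofConv)
      (Module.Dual.baseChange S l'.ofConv) z) = LinearMap.mul' S S (TensorProduct.map
        (Module.Dual.baseChange S l.ofConv) (Module.Dual.baseChange S l'.ofConv) z')) : z = z' := by
  obtain ⟨n, e, f, hef⟩ := exists_db (R := R) (A := A)
  have key : ∀ z : (S ⊗[R] A) ⊗[S] (S ⊗[R] A), z = ∑ i, ∑ j, LinearMap.mul' S S (TensorProduct.map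
      (Module.Dual.baseChange S (f i).ofConv) (Module.Dual.baseChange S (f j).ofConv) z) •
        (((1 : S) ⊗ₜ[R] e i) ⊗ₜ[S] ((1 : S) ⊗ₜ[R] e j)) := by
    intro z
    induction z using TensorProduct.induction_on with
    | zero => simp
    | add x y hx hy =>
      conv_lhs => rw [hx, hy, ← Finset.sum_add_distrib]
      refine Finset.sum_congr rfl fun i _ => ?_
      rw [← Finset.sum_add_distrib]
      refine Finset.sum_congr rfl fun j _ => ?_
      rw [map_add, map_add, add_smul]
    | tmul x y =>
      conv_lhs => rw [db_bc hef x, db_bc hef y, TensorProduct.sum_tmul]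
      refine Finset.sum_congr rfl fun i _ => ?_
      rw [TensorProduct.tmul_sum]
      refine Finset.sum_congr rfl fun j _ => ?_
      rw [TensorProduct.smul_tmul_smul, TensorProduct.map_tmul, LinearMap.mul'_apply]
      rfl
  rw [key z, key z']
  refine Finset.sum_congr rfl fun i _ => Finset.sum_congr rfl fun j _ => ?_
  rw [h]

/-- The element of `S ⊗ A` which corresponds to an algebra map from the dual. -/
theorem exists_gl [Module.Finite R A] [Module.Projective R A] (χ : WithConv (A →ₗ[R] R) →ₐ[R] S) :
    ∃ x : S ⊗[R] A, IsGroupLikeElem S x ∧ ∀ l, evL x l = χ l := by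
  obtain ⟨n, e, f, hef⟩ := exists_db (R := R) (A := A)
  have hx : ∀ l, evL (∑ i, χ (f i) • ((1 : S) ⊗ₜ[R] e i)) l = χ l := by
    intro l
    rw [evL_sum]
    conv_rhs => rw [db_dual hef l, map_sum]
    refine Finset.sum_congr rfl fun i _ => ?_
    rw [evL_smul, evL_tmul, map_smul, Algebra.smul_def, Algebra.smul_def, mul_one, mul_comm]
  refine ⟨∑ i, χ (f i) • ((1 : S) ⊗ₜ[R] e i), ⟨?_, ?_⟩, hx⟩
  · rw [← evL_one, hx, map_one]
  · apply tensor_ext (R := R) (A := A)
    intro l l'
    rw [← evL_mul, hx, map_mul, TensorProduct.map_tmul, LinearMap.mul'_apply, ← evL_apply, ← evL_apply, hx, hx]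

end gl

section conn

theorem pi_algHom {S : Type*} [CommRing S] [ConnectedSpace (PrimeSpectrum S)] {ι : Type*} [Fintype ι] [DecidableEq ι]
    (ψ : (ι → S) →ₐ[S] S) : ∃ i, ∀ v, ψ v = v i := by
  have hnt : Nontrivial S := PrimeSpectrum.nonempty_iff_nontrivial.mp inferInstance
  have h1 : ∑ i, ψ (Pi.single i 1) = 1 := by
    rw [← map_sum, Finset.univ_sum_single (fun _ : ι => (1 : S))]
    exact map_one ψ
  have hidem : ∀ i, IsIdempotentElem (ψ (Pi.single i 1)) := fun i => by
    rw [IsIdempotentElem, ← map_mul, ← Pi.single_mul, one_mul]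
  obtain ⟨i, hi⟩ : ∃ i, ψ (Pi.single i 1) = 1 := by
    by_contra hcon
    push Not at hcon
    have h2 : ∑ i, ψ (Pi.single i 1) = 0 :=
      Finset.sum_eq_zero fun i _ => (K202.ConnRing.idem (hidem i)).resolve_right (hcon i)
    rw [h1] at h2
    exact one_ne_zero h2
  refine ⟨i, fun v => ?_⟩
  rw [← mul_one (ψ v), ← hi, ← map_mul]
  have : v * Pi.single i 1 = v i • Pi.single i 1 := by
    ext j
    by_cases hj : j = i
    · subst hj; simp
    · simp [hj]
  rw [this, map_smul, hi, smul_eq_mul, mul_one]

variable {R A S : Type u} [CommRing R] [CommRing A] [HopfAlgebra R A] [CommRing S] [Algebra R S]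
  [ConnectedSpace (PrimeSpectrum S)] [Coalgebra.IsCocomm R A] [Module.Finite R A] [Module.Projective R A]

/-- If the dual algebra of `A` is split over the ring `S` with connected spectrum then `S ⊗ A` is a group
algebra. -/
theorem isDiag_of_split (hsp : Algebra.IsFiniteSplit S (S ⊗[R] WithConv (A →ₗ[R] R))) :
    IsDiag S (S ⊗[R] A) := by
  classical
  have hnt : Nontrivial S := PrimeSpectrum.nonempty_iff_nontrivial.mp inferInstance
  obtain ⟨d, ⟨E⟩⟩ := hsp.nonempty_algEquiv_fun
  let χ : Fin d → (WithConv (A →ₗ[R] R) →ₐ[R] S) := fun i =>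
    (((Pi.evalAlgHom S (fun _ : Fin d => S) i).comp E.toAlgHom).restrictScalars R).comp
      Algebra.TensorProduct.includeRight
  have hχ : ∀ i l, χ i l = E ((1 : S) ⊗ₜ[R] l) i := fun i l => rfl
  choose x hx hxl using fun i => exists_gl (χ i)
  let L : S ⊗[R] A → (S ⊗[R] WithConv (A →ₗ[R] R) →ₗ[S] S) := fun y =>
    TensorProduct.AlgebraTensorModule.lift (LinearMap.toSpanSingleton S _ (evL y))
  have hL : ∀ y s l, L y (s ⊗ₜ l) = s * evL y l := fun y s l => rfl
  have hspan : ⊤ ≤ Submodule.span S (Set.range x) := by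
    intro y _
    have hy : y = ∑ i, L y (E.symm (Pi.single i 1)) • x i := by
      apply evL_ext
      intro l
      rw [evL_sum]
      have h1 : (1 : S) ⊗ₜ[R] l = ∑ i, (E ((1 : S) ⊗ₜ[R] l) i) • E.symm (Pi.single i 1) := by
        apply E.injective
        rw [map_sum]
        simp only [map_smul, AlgEquiv.apply_symm_apply]
        ext j
        simp [Finset.sum_apply, Pi.single_apply]
      have h2 : evL y l = L y ((1 : S) ⊗ₜ[R] l) := by rw [hL, one_mul]
      rw [h2, h1, map_sum]
      refine Finset.sum_congr rfl fun i _ => ?_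
      rw [map_smul, evL_smul, hxl, hχ, smul_eq_mul, mul_comm]
    rw [hy]
    exact Submodule.sum_mem _ fun i _ => Submodule.smul_mem _ _ (Submodule.subset_span ⟨i, rfl⟩)
  have hli : LinearIndependent S x := by
    rw [Fintype.linearIndependent_iff]
    intro a ha
    have h1 : ∀ z : S ⊗[R] WithConv (A →ₗ[R] R), ∑ i, a i * E z i = 0 := by
      intro z
      induction z using TensorProduct.induction_on with
      | zero => simp
      | add y z hy hz =>
        rw [map_add]
        simp only [Pi.add_apply, mul_add, Finset.sum_add_distrib, hy, hz, add_zero]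
      | tmul s l =>
        have h2 : s ⊗ₜ[R] l = s • ((1 : S) ⊗ₜ[R] l) := by rw [TensorProduct.smul_tmul', smul_eq_mul, mul_one]
        have h3 : ∑ i, a i * E ((1 : S) ⊗ₜ[R] l) i = 0 := by
          have h4 := congrArg (fun y => evL y l) ha
          simp only [evL_sum, evL_smul, hxl, hχ] at h4
          rw [h4]
          simp [evL_apply]
        rw [h2, map_smul]
        simp only [Pi.smul_apply, smul_eq_mul]
        calc ∑ i, a i * (s * E ((1 : S) ⊗ₜ[R] l) i) = s * ∑ i, a i * E ((1 : S) ⊗ₜ[R] l) i := by
              rw [Finset.mul_sum]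
              exact Finset.sum_congr rfl fun i _ => by ring
          _ = 0 := by rw [h3, mul_zero]
    intro i
    have h2 := h1 (E.symm (Pi.single i 1))
    rw [AlgEquiv.apply_symm_apply] at h2
    simpa [Pi.single_apply] using h2
  let b : Module.Basis (Fin d) S (S ⊗[R] A) := Module.Basis.mk hli hspan
  have hb : ∀ i, b i = x i := fun i => Module.Basis.mk_apply hli hspan i
  let ι : Fin d → GroupLike S (S ⊗[R] A) := fun i => ⟨x i, hx i⟩
  have hι : Function.Bijective ι := by
    constructor
    · intro i j hij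
      have h1 : x i = x j := congrArg GroupLike.val hij
      exact hli.injective h1
    · intro g
      let ψ : (Fin d → S) →ₐ[S] S := (Algebra.TensorProduct.lift (Algebra.ofId S S)
        (ev g.val g.isGroupLikeElem_val) (fun _ _ => .all _ _)).comp E.symm.toAlgHom
      obtain ⟨i, hi⟩ := pi_algHom ψ
      refine ⟨i, GroupLike.val_injective ?_⟩
      apply evL_ext
      intro l
      rw [hxl, hχ]
      exact (hi (E ((1 : S) ⊗ₜ[R] l))).symm.trans (by simp [ψ])
  let e : Fin d ≃ GroupLike S (S ⊗[R] A) := Equiv.ofBijective ι hι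
  have he : ∀ g, (b.reindex e) g = g.val := by
    intro g
    rw [Module.Basis.reindex_apply, hb]
    exact congrArg GroupLike.val (e.apply_symm_apply g)
  let G : GBasis S (S ⊗[R] A) (GroupLike S (S ⊗[R] A)) :=
    { b := b.reindex e
      one := by rw [he]; rfl
      mul := fun m n => by rw [he, he, he]; rfl
      gl := fun m => by rw [he]; exact m.isGroupLikeElem_val }
  exact ⟨GroupLike S (S ⊗[R] A), inferInstance, ⟨G.bialgEquiv.symm⟩⟩

end conn

/-- Over a ring with connected spectrum: a finite projective commutative and cocommutative Hopf algebra whose dual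
algebra is étale is isotrivial. -/
theorem isIsotrivial_of_etale_dual (R : Type u) [CommRing R] [ConnectedSpace (PrimeSpectrum R)] (A : Type u)
    [CommRing A] [HopfAlgebra R A] [Coalgebra.IsCocomm R A] [Module.Finite R A] [Module.Projective R A]
    [Algebra.Etale R (WithConv (A →ₗ[R] R))] : IsIsotrivial R A := by
  have : Module.Finite R (WithConv (A →ₗ[R] R)) := Module.Finite.equiv (WithConv.linearEquiv R (A →ₗ[R] R)).symm
  obtain ⟨T, _, _, h1, h2, h3, h4, h5⟩ := K202.ConnRing.exists_connected_split R (WithConv (A →ₗ[R] R))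
  exact ⟨T, inferInstance, inferInstance, h3, h2, h1, isDiag_of_split h5⟩

end K202.DualSplit
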