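import Mathlib.RingTheory.HopfAlgebra.Convolution
import Mathlib.RingTheory.HopfAlgebra.TensorProduct
import Mathlib.RingTheory.Bialgebra.Equiv

/-!
# Hopf algebras from group laws on points
-/

set_option autoImplicit false

open TensorProduct

namespace K202.GroupLaw

universe u

variable {K H : Type u} [CommRing K] [CommRing H] [Algebra K H]

/-- the product of two points -/
noncomputable def gm (δ : H →ₐ[K] H ⊗[K] H) {Q : Type u} [CommRing Q] [Algebra K Q] (a b : H →ₐ[K] Q) : H →ₐ[K] Q :=
  (Algebra.TensorProduct.lift a b (fun _ _ => .all _ _)).comp δ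

lemma comp_gm (δ : H →ₐ[K] H ⊗[K] H) {Q Q' : Type u} [CommRing Q] [Algebra K Q] [CommRing Q'] [Algebra K Q']
    (g : Q →ₐ[K] Q') (a b : H →ₐ[K] Q) : g.comp (gm δ a b) = gm δ (g.comp a) (g.comp b) := by
  rw [gm, gm, ← AlgHom.comp_assoc]
  congr 1
  ext <;> simp

lemma gm_incl (δ : H →ₐ[K] H ⊗[K] H) :
    gm δ Algebra.TensorProduct.includeLeft Algebra.TensorProduct.includeRight = δ := by
  rw [gm]
  have : Algebra.TensorProduct.lift (Algebra.TensorProduct.includeLeft : H →ₐ[K] H ⊗[K] H)
      (Algebra.TensorProduct.includeRight : H →ₐ[K] H ⊗[K] H) (fun _ _ => .all _ _) = AlgHom.id K _ := by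
    ext <;> simp
  rw [this, AlgHom.id_comp]

/-- the structure which is needed to define a Hopf algebra -/
structure Law (δ : H →ₐ[K] H ⊗[K] H) (ε : H →ₐ[K] K) (s : H →ₐ[K] H) : Prop where
  assoc : ∀ {Q : Type u} [CommRing Q] [Algebra K Q] (a b c : H →ₐ[K] Q),
    gm δ (gm δ a b) c = gm δ a (gm δ b c)
  one_mul : ∀ {Q : Type u} [CommRing Q] [Algebra K Q] (a : H →ₐ[K] Q), gm δ ((Algebra.ofId K Q).comp ε) a = a
  mul_one : ∀ {Q : Type u} [CommRing Q] [Algebra K Q] (a : H →ₐ[K] Q), gm δ a ((Algebra.ofId K Q).comp ε) = a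
  inv_mul : ∀ {Q : Type u} [CommRing Q] [Algebra K Q] (a : H →ₐ[K] Q),
    gm δ (a.comp s) a = (Algebra.ofId K Q).comp ε
  mul_inv : ∀ {Q : Type u} [CommRing Q] [Algebra K Q] (a : H →ₐ[K] Q),
    gm δ a (a.comp s) = (Algebra.ofId K Q).comp ε

variable {δ : H →ₐ[K] H ⊗[K] H} {ε : H →ₐ[K] K} {s : H →ₐ[K] H} (h : Law δ ε s)

include h in
theorem Law.coassoc : (Algebra.TensorProduct.assoc K K K H H H).toAlgHom.comp
      ((Algebra.TensorProduct.map δ (AlgHom.id K H)).comp δ) =
    (Algebra.TensorProduct.map (AlgHom.id K H) δ).comp δ := by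
  let k1 : H →ₐ[K] H ⊗[K] (H ⊗[K] H) := Algebra.TensorProduct.includeLeft
  let k2 : H →ₐ[K] H ⊗[K] (H ⊗[K] H) := Algebra.TensorProduct.includeRight.comp Algebra.TensorProduct.includeLeft
  let k3 : H →ₐ[K] H ⊗[K] (H ⊗[K] H) := Algebra.TensorProduct.includeRight.comp Algebra.TensorProduct.includeRight
  have e1 : ((Algebra.TensorProduct.assoc K K K H H H).toAlgHom.comp
      (Algebra.TensorProduct.map δ (AlgHom.id K H))).comp Algebra.TensorProduct.includeLeft = gm δ k1 k2 := by
    have e : (Algebra.TensorProduct.map δ (AlgHom.id K H)).comp Algebra.TensorProduct.includeLeft =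
        (Algebra.TensorProduct.includeLeft : H ⊗[K] H →ₐ[K] (H ⊗[K] H) ⊗[K] H).comp δ := by
      ext c; simp
    rw [AlgHom.comp_assoc, e]
    conv_lhs => rw [← gm_incl δ]
    rw [comp_gm, comp_gm]
    congr 1
  have e2 : ((Algebra.TensorProduct.assoc K K K H H H).toAlgHom.comp
      (Algebra.TensorProduct.map δ (AlgHom.id K H))).comp Algebra.TensorProduct.includeRight = k3 := by
    ext c
    simp [k3, Algebra.TensorProduct.one_def]
  have e3 : (Algebra.TensorProduct.map (AlgHom.id K H) δ).comp Algebra.TensorProduct.includeLeft = k1 := by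
    ext c
    simp [k1]
  have e4 : (Algebra.TensorProduct.map (AlgHom.id K H) δ).comp Algebra.TensorProduct.includeRight = gm δ k2 k3 := by
    have e : (Algebra.TensorProduct.map (AlgHom.id K H) δ).comp Algebra.TensorProduct.includeRight =
        (Algebra.TensorProduct.includeRight : H ⊗[K] H →ₐ[K] H ⊗[K] (H ⊗[K] H)).comp δ := by
      ext c; simp
    rw [e]
    conv_lhs => rw [← gm_incl δ]
    rw [comp_gm]
  have e5 : ∀ g : H ⊗[K] H →ₐ[K] H ⊗[K] (H ⊗[K] H), g.comp δ = gm δ (g.comp Algebra.TensorProduct.includeLeft)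
      (g.comp Algebra.TensorProduct.includeRight) := by
    intro g
    rw [← comp_gm, gm_incl]
  rw [← AlgHom.comp_assoc, e5, e5, e1, e2, e3, e4]
  exact h.assoc k1 k2 k3

include h in
theorem Law.rTensor : (Algebra.TensorProduct.map ε (.id K H)).comp δ = (Algebra.TensorProduct.lid K H).symm := by
  have e5 : (Algebra.TensorProduct.map ε (.id K H)).comp δ =
      gm δ ((Algebra.TensorProduct.map ε (.id K H)).comp Algebra.TensorProduct.includeLeft)
      ((Algebra.TensorProduct.map ε (.id K H)).comp Algebra.TensorProduct.includeRight) := by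
    rw [← comp_gm, gm_incl]
  have e1 : (Algebra.TensorProduct.map ε (.id K H)).comp Algebra.TensorProduct.includeLeft =
      (Algebra.ofId K (K ⊗[K] H)).comp ε := by
    ext c
    simp [Algebra.ofId_apply]
  have e2 : (Algebra.TensorProduct.map ε (.id K H)).comp Algebra.TensorProduct.includeRight =
      ((Algebra.TensorProduct.lid K H).symm : H →ₐ[K] K ⊗[K] H) := by
    ext c
    simp
  rw [e5, e1, e2, h.one_mul]

include h in
theorem Law.lTensor : (Algebra.TensorProduct.map (.id K H) ε).comp δ = (Algebra.TensorProduct.rid K K H).symm := by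
  have e5 : (Algebra.TensorProduct.map (.id K H) ε).comp δ =
      gm δ ((Algebra.TensorProduct.map (.id K H) ε).comp Algebra.TensorProduct.includeLeft)
      ((Algebra.TensorProduct.map (.id K H) ε).comp Algebra.TensorProduct.includeRight) := by
    rw [← comp_gm, gm_incl]
  have e1 : (Algebra.TensorProduct.map (.id K H) ε).comp Algebra.TensorProduct.includeRight =
      (Algebra.ofId K (H ⊗[K] K)).comp ε := by
    ext c
    simp only [AlgHom.comp_apply, Algebra.TensorProduct.includeRight_apply, Algebra.TensorProduct.map_tmul,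
      map_one, Algebra.ofId_apply, Algebra.TensorProduct.algebraMap_apply,
      Algebra.algebraMap_eq_smul_one (R := K) (A := H)]
    rw [TensorProduct.smul_tmul, smul_eq_mul, _root_.mul_one]
  have e2 : (Algebra.TensorProduct.map (.id K H) ε).comp Algebra.TensorProduct.includeLeft =
      ((Algebra.TensorProduct.rid K K H).symm : H →ₐ[K] H ⊗[K] K) := by
    ext c
    simp
  rw [e5, e1, e2, h.mul_one]

/-- The group law of a Hopf algebra. -/
theorem law_of_hopfAlgebra (K H : Type u) [CommRing K] [CommRing H] [HopfAlgebra K H] :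
    Law (Bialgebra.comulAlgHom K H) (Bialgebra.counitAlgHom K H) (HopfAlgebra.antipodeAlgHom K H) := by
  have hm : ∀ {Q : Type u} [CommRing Q] [Algebra K Q] (a b : H →ₐ[K] Q),
      WithConv.toConv (gm (Bialgebra.comulAlgHom K H) a b) = WithConv.toConv a * WithConv.toConv b := by
    intro Q _ _ a b
    apply WithConv.ext
    ext c
    change _ = (WithConv.toConv a * WithConv.toConv b : WithConv (H →ₐ[K] Q)) c
    rw [AlgHom.convMul_apply]
    rfl
  have h1 : ∀ {Q : Type u} [CommRing Q] [Algebra K Q],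
      WithConv.toConv ((Algebra.ofId K Q).comp (Bialgebra.counitAlgHom K H)) = 1 := rfl
  have hs1 : gm (Bialgebra.comulAlgHom K H) (HopfAlgebra.antipodeAlgHom K H) (AlgHom.id K H) =
      (Algebra.ofId K H).comp (Bialgebra.counitAlgHom K H) := by
    apply WithConv.toConv_injective
    rw [hm, h1]
    exact inv_mul_cancel (WithConv.toConv (AlgHom.id K H) : WithConv (H →ₐ[K] H))
  have hs2 : gm (Bialgebra.comulAlgHom K H) (AlgHom.id K H) (HopfAlgebra.antipodeAlgHom K H) =
      (Algebra.ofId K H).comp (Bialgebra.counitAlgHom K H) := by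
    apply WithConv.toConv_injective
    rw [hm, h1]
    exact mul_inv_cancel (WithConv.toConv (AlgHom.id K H) : WithConv (H →ₐ[K] H))
  constructor
  · intro Q _ _ a b c
    apply WithConv.toConv_injective
    rw [hm, hm, hm, hm, mul_assoc]
  · intro Q _ _ a
    apply WithConv.toConv_injective
    rw [hm, h1, one_mul]
  · intro Q _ _ a
    apply WithConv.toConv_injective
    rw [hm, h1, mul_one]
  · intro Q _ _ a
    have h2 := congrArg (fun z => a.comp z) hs1
    simp only [comp_gm, AlgHom.comp_id] at h2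
    rw [h2, ← AlgHom.comp_assoc]
    congr 1
    ext
  · intro Q _ _ a
    have h2 := congrArg (fun z => a.comp z) hs2
    simp only [comp_gm, AlgHom.comp_id] at h2
    rw [h2, ← AlgHom.comp_assoc]
    congr 1
    ext

/-- The bialgebra given by a group law. -/
@[reducible] noncomputable def Law.bialgebra : Bialgebra K H :=
  Bialgebra.ofAlgHom δ ε h.coassoc h.rTensor h.lTensor

/-- The Hopf algebra given by a group law. -/
@[reducible] noncomputable def Law.hopfAlgebra : HopfAlgebra K H :=
  letI := h.bialgebra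
  HopfAlgebra.ofAlgHom s (h.inv_mul (AlgHom.id K H)) (h.mul_inv (AlgHom.id K H))

end K202.GroupLaw
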