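import Groth.Agent.SGA3b.K202.Conv
import Groth.Agent.SGA3b.K202.KerAny
import Groth.Agent.Sga3A.TorsionDense
import Groth.Agent.Sga3A.BCIso
import Mathlib.RingTheory.Support
import Mathlib.RingTheory.LocalRing.Module
import Mathlib.RingTheory.Noetherian.Nilpotent
import Mathlib.FieldTheory.IsAlgClosed.AlgebraicClosure

/-!
# Affine groups whose geometric fibres are killed by an integer

`L` a commutative Hopf algebra of finite type over a ring `R`, `n` a natural number such that the
`n`-th power map is trivial on `Ω ⊗ L` for every algebraically closed field `Ω` over `R`. Then the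
`n ^ j`-th power map of `L` is trivial for some `j`.
-/

set_option autoImplicit false
universe u

open TensorProduct SGA3b Coalgebra Bialgebra WithConv

namespace K202.Kill

open K202.Conv

section Conv

variable {R : Type*} [CommRing R] {L D : Type*} [CommRing L] [Bialgebra R L]
  [CommRing D] [Algebra R D]

/-- points congruent to `1` modulo an ideal multiply additively modulo its square -/
lemma mul_sub_mem {𝔡 : Ideal D} {z w : WithConv (L →ₐ[R] D)}
    (hz : ∀ x, counit (R := R) x = 0 → z x ∈ 𝔡) (hw : ∀ x, counit (R := R) x = 0 → w x ∈ 𝔡)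
    {x : L} (hx : counit (R := R) x = 0) : (z * w) x - z x - w x ∈ 𝔡 ^ 2 := by
  let z' : L →ₗ[R] D := z.ofConv.toLinearMap - Algebra.linearMap R D ∘ₗ counit
  let w' : L →ₗ[R] D := w.ofConv.toLinearMap - Algebra.linearMap R D ∘ₗ counit
  have hz' : ∀ y, z' y ∈ 𝔡 := by
    intro y
    have h1 := hz (y - algebraMap R L (counit (R := R) y)) (by simp)
    have h2 : z.ofConv (y - algebraMap R L (counit (R := R) y)) = z' y := by
      rw [map_sub, AlgHom.commutes]
      rfl
    rwa [h2] at h1
  have hw' : ∀ y, w' y ∈ 𝔡 := by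
    intro y
    have h1 := hw (y - algebraMap R L (counit (R := R) y)) (by simp)
    have h2 : w.ofConv (y - algebraMap R L (counit (R := R) y)) = w' y := by
      rw [map_sub, AlgHom.commutes]
      rfl
    rwa [h2] at h1
  have key : LinearMap.mul' R D (TensorProduct.map z' w' (comul (R := R) x)) =
      (z * w) x - z x - w x := by
    have e1 : (z * w) x = LinearMap.mul' R D
        (TensorProduct.map z.ofConv.toLinearMap w.ofConv.toLinearMap (comul (R := R) x)) := by
      rw [AlgHom.convMul_apply]
      generalize comul (R := R) x = y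
      induction y using TensorProduct.induction_on with
      | zero => simp
      | tmul a b => simp
      | add a b ha hb => rw [map_add, map_add, map_add, ha, hb]
    have e2 : z x = LinearMap.mul' R D
        (TensorProduct.map z.ofConv.toLinearMap (Algebra.linearMap R D ∘ₗ counit)
          (comul (R := R) x)) := by
      have h3 : TensorProduct.map z.ofConv.toLinearMap
          (Algebra.linearMap R D ∘ₗ (counit : L →ₗ[R] R)) =
        (TensorProduct.map z.ofConv.toLinearMap (Algebra.linearMap R D)) ∘ₗ
          (counit.lTensor L) := by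
        ext a b
        simp
      rw [h3, LinearMap.comp_apply, Coalgebra.lTensor_counit_comul]
      simp
    have e3 : w x = LinearMap.mul' R D
        (TensorProduct.map (Algebra.linearMap R D ∘ₗ counit) w.ofConv.toLinearMap
          (comul (R := R) x)) := by
      have h3 : TensorProduct.map (Algebra.linearMap R D ∘ₗ (counit : L →ₗ[R] R))
          w.ofConv.toLinearMap =
        (TensorProduct.map (Algebra.linearMap R D) w.ofConv.toLinearMap) ∘ₗ
          (counit.rTensor L) := by
        ext a b
        simp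
      rw [h3, LinearMap.comp_apply, Coalgebra.rTensor_counit_comul]
      simp
    have e4 : (0 : D) = LinearMap.mul' R D
        (TensorProduct.map (Algebra.linearMap R D ∘ₗ counit)
          (Algebra.linearMap R D ∘ₗ counit) (comul (R := R) x)) := by
      have h3 : TensorProduct.map (Algebra.linearMap R D ∘ₗ counit)
          (Algebra.linearMap R D ∘ₗ (counit : L →ₗ[R] R)) =
        (TensorProduct.map (Algebra.linearMap R D ∘ₗ counit) (Algebra.linearMap R D)) ∘ₗ
          (counit.lTensor L) := by
        ext a b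
        simp
      rw [h3, LinearMap.comp_apply, Coalgebra.lTensor_counit_comul]
      simp [hx]
    rw [e1, e2, e3]
    conv_rhs => rw [← add_zero (_ - _ - _), e4]
    simp only [z', w']
    generalize comul (R := R) x = y
    induction y using TensorProduct.induction_on with
    | zero => simp
    | tmul a b => simp; ring
    | add a b ha hb =>
      simp only [map_add] at ha hb ⊢
      rw [ha, hb]
      ring
  rw [← key]
  generalize comul (R := R) x = y
  induction y using TensorProduct.induction_on with
  | zero => simp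
  | tmul a b =>
    simp only [TensorProduct.map_tmul, LinearMap.mul'_apply]
    rw [pow_two]
    exact Ideal.mul_mem_mul (hz' a) (hw' b)
  | add a b ha hb =>
    rw [map_add, map_add]
    exact Ideal.add_mem _ ha hb

lemma pow_mem {𝔡 : Ideal D} {z : WithConv (L →ₐ[R] D)}
    (hz : ∀ x, counit (R := R) x = 0 → z x ∈ 𝔡) (N : ℕ) :
    ∀ x, counit (R := R) x = 0 → (z ^ N) x ∈ 𝔡 ∧ (z ^ N) x - N • z x ∈ 𝔡 ^ 2 := by
  induction N with
  | zero =>
    intro x hx
    rw [pow_zero, AlgHom.convOne_apply, hx, map_zero, zero_smul, sub_zero]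
    exact ⟨zero_mem _, zero_mem _⟩
  | succ N ih =>
    intro x hx
    have h1 := mul_sub_mem (z := z ^ N) (w := z) (fun x hx => (ih x hx).1) hz hx
    rw [← pow_succ] at h1
    have h2 : 𝔡 ^ 2 ≤ 𝔡 := Ideal.pow_le_self two_ne_zero
    constructor
    · have h3 := 𝔡.add_mem (𝔡.add_mem (h2 h1) (ih x hx).1) (hz x hx)
      convert h3 using 1
      ring
    · have h3 := (𝔡 ^ 2).add_mem h1 (ih x hx).2
      convert h3 using 1
      rw [add_smul, one_smul]
      ring

end Conv

section Main

variable {R : Type u} [CommRing R] {L : Type u} [CommRing L] [HopfAlgebra R L]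

/-- If the `n`-th power map is trivial on the fibres, then a power of `n` kills the cotangent space
along the unit section. -/
lemma exists_pow_smul_mem (hft : Algebra.FiniteType R L) (n : ℕ)
    (h : ∀ (Ω : Type u) [Field Ω] [IsAlgClosed Ω] [Algebra R Ω], torsionIdeal Ω (Ω ⊗[R] L) n = ⊥) :
    ∃ a : ℕ, ∀ x : L, counit (R := R) x = 0 →
      (n ^ a) • x ∈ (RingHom.ker (counitAlgHom R L)) ^ 2 := by
  classical
  let 𝔞 := RingHom.ker (counitAlgHom R L)
  obtain ⟨T, hT⟩ := K202.KerAny.ker_counit_fg hft
  let W : Submodule R L := (𝔞 ^ 2).restrictScalars R ⊔ Submodule.span R {(1 : L)}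
  have hW1 : ∀ x ∈ 𝔞 ^ 2, x ∈ W := fun x hx => Submodule.mem_sup_left hx
  have hsub : ∀ l : L, l - algebraMap R L (counit (R := R) l) ∈ 𝔞 := by
    intro l
    change counitAlgHom R L _ = 0
    rw [map_sub, AlgHom.commutes]
    simp
  have hspan' : ∀ y ∈ Ideal.span (T : Set L), y ∈ Submodule.span R (T : Set L) ⊔ W := by
    intro y hy
    induction hy using Submodule.span_induction with
    | mem y hy => exact Submodule.mem_sup_left (Submodule.subset_span hy)
    | zero => exact zero_mem _
    | add y z _ _ hy hz => exact Submodule.add_mem _ hy hz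
    | smul l y hy1 hy =>
      have h1 : y ∈ 𝔞 := by
        have h0 : y ∈ Ideal.span (T : Set L) := hy1
        rwa [hT] at h0
      have h2 : l • y = counit (R := R) l • y + (l - algebraMap R L (counit (R := R) l)) * y := by
        rw [smul_eq_mul, Algebra.smul_def]
        ring
      rw [h2]
      refine Submodule.add_mem _ (Submodule.smul_mem _ _ hy) ?_
      apply Submodule.mem_sup_right
      apply hW1
      rw [pow_two]
      exact Ideal.mul_mem_mul (hsub l) h1
  have hspan : ∀ y ∈ 𝔞, y ∈ Submodule.span R (T : Set L) ⊔ W :=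
    fun y hy => hspan' y (hT ▸ hy)
  have htop : Submodule.span R (T : Set L) ⊔ W = ⊤ := by
    rw [eq_top_iff]
    intro l _
    have h1 : l = (l - algebraMap R L (counit (R := R) l)) + algebraMap R L (counit (R := R) l) := by
      ring
    rw [h1]
    refine Submodule.add_mem _ (hspan _ (hsub l)) ?_
    apply Submodule.mem_sup_right
    apply Submodule.mem_sup_right
    rw [Algebra.algebraMap_eq_smul_one]
    exact Submodule.smul_mem _ _ (Submodule.subset_span rfl)
  have hfin : Module.Finite R (L ⧸ W) := by
    refine ⟨⟨T.image (W.mkQ), ?_⟩⟩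
    have h1 : (Submodule.span R (T : Set L) ⊔ W).map W.mkQ = ⊤ := by
      rw [htop, Submodule.map_top, Submodule.range_mkQ]
    rw [Submodule.map_sup, Submodule.map_span] at h1
    have h2 : W.map W.mkQ = ⊥ := by
      rw [Submodule.mkQ_map_self]
    rw [h2, sup_bot_eq] at h1
    rw [Finset.coe_image]
    exact h1
  -- the support
  have hsupp : ∀ p : PrimeSpectrum R, (n : R) ∉ p.asIdeal → p ∉ Module.support R (L ⧸ W) := by
    intro p hp
    rw [Module.mem_support_iff_nontrivial_residueField_tensorProduct, not_nontrivial_iff_subsingleton]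
    let κ := p.asIdeal.ResidueField
    let Ω := AlgebraicClosure κ
    have hκ : torsionIdeal κ (κ ⊗[R] L) n = ⊥ := by
      rw [eq_bot_iff]
      intro x hx
      have h1 := Groth.Agent.Sga3A.TorsionDense.torsionIdeal_le_comap_includeRight κ (κ ⊗[R] L) Ω n hx
      rw [Ideal.mem_comap] at h1
      have h2 : torsionIdeal Ω (Ω ⊗[κ] (κ ⊗[R] L)) n = ⊥ := by
        rw [Groth.Agent.Sga3A.PowConv.torsionIdeal_eq_bot_iff]
        have h3 := (Groth.Agent.Sga3A.PowConv.torsionIdeal_eq_bot_iff Ω (Ω ⊗[R] L) n).mp (h Ω)
        exact Groth.Agent.Sga3A.PowConv.powConv_trivial_of_equiv Ω _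
          (Groth.Agent.Sga3A.BCIso.cancelBialg R κ Ω L).symm n h3
      rw [h2] at h1
      have h4 : (1 : Ω) ⊗ₜ[κ] x = 0 := h1
      exact Module.FaithfullyFlat.tensorProduct_mk_injective (A := κ) (B := Ω) (κ ⊗[R] L)
        (by simpa using h4)
    rw [Groth.Agent.Sga3A.PowConv.torsionIdeal_eq_bot_iff] at hκ
    have hn : (n : κ) ≠ 0 := by
      intro h0
      apply hp
      have h1 : algebraMap R κ (n : R) = 0 := by rw [map_natCast]; exact h0
      have h2 : (n : R) ∈ RingHom.ker (algebraMap R κ) := h1
      rwa [Ideal.ker_algebraMap_residueField] at h2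
    have hx : ∀ x ∈ 𝔞, (1 : κ) ⊗ₜ[R] (W.mkQ x) = 0 := by
      intro x hx
      have h1 := (pow_mem (𝔡 := 𝔞) (z := toConv (AlgHom.id R L)) (fun x hx => hx) n x hx).2
      have h2 : W.mkQ (powConv R L n x) = W.mkQ (n • x) := by
        rw [← sub_eq_zero, ← map_sub]
        exact (Submodule.Quotient.mk_eq_zero W).mpr (hW1 _ h1)
      have h3 : (n : κ) • ((1 : κ) ⊗ₜ[R] (W.mkQ x)) = 0 := by
        rw [Nat.cast_smul_eq_nsmul, ← TensorProduct.tmul_smul, ← map_nsmul, ← h2]
        have h4 : (W.mkQ).lTensor κ ((1 : κ) ⊗ₜ[R] (powConv R L n x)) = 0 := by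
          rw [← Groth.Agent.Sga3A.PowConv.powConv_tmul, hκ, TensorProduct.counit_tmul]
          have h5 : counit (R := R) x = 0 := hx
          rw [h5, zero_smul, map_zero, map_zero]
        exact h4
      exact (smul_eq_zero.mp h3).resolve_left hn
    have hall : ∀ z : κ ⊗[R] (L ⧸ W), z = 0 := by
      intro z
      induction z using TensorProduct.induction_on with
      | zero => rfl
      | tmul c l =>
        obtain ⟨l, rfl⟩ := W.mkQ_surjective l
        have h1 : W.mkQ l = W.mkQ (l - algebraMap R L (counit (R := R) l)) := by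
          rw [← sub_eq_zero, ← map_sub, sub_sub_cancel]
          refine (Submodule.Quotient.mk_eq_zero W).mpr ?_
          apply Submodule.mem_sup_right
          rw [Algebra.algebraMap_eq_smul_one]
          exact Submodule.smul_mem _ _ (Submodule.subset_span rfl)
        have h2 : c ⊗ₜ[R] W.mkQ l = c • ((1 : κ) ⊗ₜ[R] W.mkQ l) := by
          rw [TensorProduct.smul_tmul', smul_eq_mul, mul_one]
        rw [h2, h1, hx _ (hsub l), smul_zero]
      | add y z hy hz => rw [hy, hz, add_zero]
    exact ⟨fun a b => by rw [hall a, hall b]⟩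
  have hrad : (n : R) ∈ (Module.annihilator R (L ⧸ W)).radical := by
    rw [Ideal.radical_eq_sInf, Submodule.mem_sInf]
    rintro p ⟨hp1, hp2⟩
    by_contra hcon
    have h1 := hsupp ⟨p, hp2⟩ hcon
    rw [Module.support_eq_zeroLocus] at h1
    exact h1 hp1
  obtain ⟨a, ha⟩ := hrad
  refine ⟨a, fun x hx => ?_⟩
  have h1 : ((n : R) ^ a) • x ∈ W := by
    rw [Module.mem_annihilator] at ha
    have h2 := ha (Submodule.Quotient.mk x)
    rwa [← Submodule.Quotient.mk_smul, Submodule.Quotient.mk_eq_zero] at h2
  obtain ⟨u, hu, v, hv, huv⟩ := Submodule.mem_sup.mp h1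
  obtain ⟨r, rfl⟩ := Submodule.mem_span_singleton.mp hv
  have hu' : u ∈ 𝔞 ^ 2 := hu
  have hu0 : counit (R := R) u = 0 := Ideal.pow_le_self two_ne_zero hu'
  have h3 := congrArg (counit (R := R)) huv
  rw [map_add, map_smul, map_smul, hu0, hx, smul_zero, zero_add, Bialgebra.counit_one, smul_eq_mul,
    mul_one] at h3
  rw [h3, zero_smul, add_zero] at huv
  have h4 : (n ^ a) • x = ((n : R) ^ a) • x := by
    rw [← Nat.cast_pow, Nat.cast_smul_eq_nsmul]
  rw [h4, ← huv]
  exact hu'

/-- **Groups whose geometric fibres are killed by `n`.** -/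
theorem exists_torsionIdeal_eq_bot (hft : Algebra.FiniteType R L) (n : ℕ)
    (h : ∀ (Ω : Type u) [Field Ω] [IsAlgClosed Ω] [Algebra R Ω], torsionIdeal Ω (Ω ⊗[R] L) n = ⊥) :
    ∃ j : ℕ, torsionIdeal R L (n ^ j) = ⊥ := by
  let 𝔞 := RingHom.ker (counitAlgHom R L)
  let 𝔟 := torsionIdeal R L n
  have hfg : 𝔟.FG := (K202.KerAny.ker_counit_fg hft).map _
  have hnil : 𝔟 ≤ nilradical L := by
    rw [nilradical_eq_sInf]
    refine le_sInf fun q hq => ?_
    have hq' : q.IsPrime := hq
    let Ω := AlgebraicClosure q.ResidueField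
    let f : L →ₐ[R] Ω := (Algebra.ofId L Ω).restrictScalars R
    intro x hx
    have h1 := Groth.Agent.Sga3A.TorsionDense.torsionIdeal_le_comap_includeRight R L Ω n hx
    rw [Ideal.mem_comap, h Ω] at h1
    have h2 : (1 : Ω) ⊗ₜ[R] x = 0 := h1
    have h3 : f x = 0 := by
      have h4 := congrArg (Algebra.TensorProduct.lift (Algebra.ofId Ω Ω) f (fun _ _ => .all _ _)) h2
      rwa [Algebra.TensorProduct.lift_tmul, map_one, one_mul, map_zero] at h4
    have h5 : algebraMap q.ResidueField Ω (algebraMap L q.ResidueField x) = 0 := h3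
    have h6 : algebraMap L q.ResidueField x = 0 :=
      (map_eq_zero_iff _ (algebraMap q.ResidueField Ω).injective).mp h5
    have h7 : x ∈ RingHom.ker (algebraMap L q.ResidueField) := h6
    rwa [Ideal.ker_algebraMap_residueField] at h7
  obtain ⟨r, hr⟩ := (Ideal.FG.isNilpotent_iff_le_nilradical hfg).mpr hnil
  obtain ⟨a, ha⟩ := exists_pow_smul_mem hft n h
  have key : ∀ i : ℕ, ∃ j : ℕ, ∀ x : L, counit (R := R) x = 0 → powConv R L (n ^ j) x ∈ 𝔟 ^ i := by
    intro i
    induction i with
    | zero =>
      refine ⟨0, fun x _ => ?_⟩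
      rw [pow_zero 𝔟, Ideal.one_eq_top]
      exact Submodule.mem_top
    | succ i ih =>
      obtain ⟨j, hj⟩ := ih
      rcases Nat.eq_zero_or_pos i with hi | hi
      · subst hi
        refine ⟨1, fun x hx => ?_⟩
        rw [zero_add, pow_one, pow_one]
        exact Ideal.mem_map_of_mem _ hx
      · refine ⟨j + a, fun x hx => ?_⟩
        let z : WithConv (L →ₐ[R] L) := toConv (powConv R L (n ^ j))
        have hz : z = (toConv (AlgHom.id R L)) ^ (n ^ j) := rfl
        have h1 := (pow_mem (𝔡 := 𝔟 ^ i) (z := z) hj (n ^ a) x hx).2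
        have h2 : z ^ (n ^ a) = toConv (powConv R L (n ^ (j + a))) := by
          rw [hz, ← pow_mul, ← pow_add]
          rfl
        rw [h2] at h1
        have h3 : (n ^ a) • z x ∈ (𝔟 ^ i) ^ 2 := by
          have h4 : (n ^ a) • z x = powConv R L (n ^ j) ((n ^ a) • x) := by
            rw [map_nsmul]
          rw [h4]
          have h5 := Ideal.mem_map_of_mem (powConv R L (n ^ j)) (ha x hx)
          rw [Ideal.map_pow] at h5
          refine Ideal.pow_right_mono ?_ 2 h5
          rw [Ideal.map_le_iff_le_comap]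
          exact fun y hy => hj y hy
        have h6 : powConv R L (n ^ (j + a)) x ∈ (𝔟 ^ i) ^ 2 := by
          have h7 := Ideal.add_mem _ h1 h3
          rwa [sub_add_cancel] at h7
        rw [← pow_mul] at h6
        exact Ideal.pow_le_pow_right (by omega) h6
  obtain ⟨j, hj⟩ := key r
  refine ⟨j, ?_⟩
  rw [eq_bot_iff, torsionIdeal, Ideal.map_le_iff_le_comap]
  intro x hx
  have h1 := hj x hx
  rw [hr] at h1
  exact h1

end Main

end K202.Kill
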