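import Mathlib.LinearAlgebra.TensorProduct.DirectLimit
import Mathlib.RingTheory.FinitePresentation
import Mathlib.RingTheory.TensorProduct.Maps
import Mathlib.RingTheory.Bialgebra.TensorProduct

/-!
# Filtered systems of algebras

`Sys T ι L`: a filtered system of `T`-algebras `S i` with colimit the `T`-algebra `L`, given by the two elementary
conditions (every element comes from some `S i`, an element of `S i` which becomes zero in `L` is zero in some `S j`).
Consequences for `S i ⊗ N`, and spreading out of homomorphisms and isomorphisms of finitely presented algebras.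
-/

set_option autoImplicit false

open TensorProduct

namespace K202

universe u v

/-- A filtered system of algebras with its colimit. -/
structure Sys (T : Type u) [CommRing T] (ι : Type v) [Preorder ι] (L : Type u) [CommRing L] [Algebra T L] where
  S : ι → Type u
  [ring : ∀ i, CommRing (S i)]
  [alg : ∀ i, Algebra T (S i)]
  f : ∀ {i j : ι}, i ≤ j → (S i →ₐ[T] S j)
  u : ∀ i : ι, S i →ₐ[T] L
  f_id : ∀ i : ι, f (le_refl i) = AlgHom.id T (S i)
  f_comp : ∀ {i j k : ι} (h : i ≤ j) (h' : j ≤ k), (f h').comp (f h) = f (h.trans h')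
  u_comp : ∀ {i j : ι} (h : i ≤ j), (u j).comp (f h) = u i
  surj : ∀ a : L, ∃ i s, u i s = a
  zero : ∀ i s, u i s = 0 → ∃ j, ∃ h : i ≤ j, f h s = 0

attribute [instance] Sys.ring Sys.alg

namespace Sys

section bcA

variable {T : Type u} [CommRing T] {K K' K'' : Type u} [CommRing K] [Algebra T K] [CommRing K'] [Algebra T K']
  [CommRing K''] [Algebra T K'']

/-- the base change map on modules -/
noncomputable abbrev rT (N : Type u) [AddCommGroup N] [Module T N] (f : K →ₐ[T] K') :
    K ⊗[T] N →ₗ[T] K' ⊗[T] N := f.toLinearMap.rTensor N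

/-- the base change map on algebras -/
noncomputable def bcA (B : Type u) [CommRing B] [Algebra T B] (f : K →ₐ[T] K') : K ⊗[T] B →ₐ[T] K' ⊗[T] B :=
  Algebra.TensorProduct.map f (AlgHom.id T B)

@[simp] lemma bcA_tmul (B : Type u) [CommRing B] [Algebra T B] (f : K →ₐ[T] K') (k : K) (b : B) :
    bcA B f (k ⊗ₜ b) = f k ⊗ₜ b := rfl

lemma rT_eq_bcA (B : Type u) [CommRing B] [Algebra T B] (f : K →ₐ[T] K') (x : K ⊗[T] B) :
    rT B f x = bcA B f x := rfl

lemma rT_rT (N : Type u) [AddCommGroup N] [Module T N] (f : K →ₐ[T] K') (f' : K' →ₐ[T] K'') (x : K ⊗[T] N) :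
    rT N f' (rT N f x) = rT N (f'.comp f) x := by
  rw [rT, rT, rT, AlgHom.comp_toLinearMap, LinearMap.rTensor_comp, LinearMap.comp_apply]

lemma bcA_comp (B : Type u) [CommRing B] [Algebra T B] (f : K →ₐ[T] K') (f' : K' →ₐ[T] K'') :
    bcA B (f'.comp f) = (bcA B f').comp (bcA B f) := by
  ext <;> simp

lemma bcA_bcA (B : Type u) [CommRing B] [Algebra T B] (f : K →ₐ[T] K') (f' : K' →ₐ[T] K'') (x : K ⊗[T] B) :
    bcA B f' (bcA B f x) = bcA B (f'.comp f) x := by
  rw [bcA_comp]; rfl

lemma bcA_id (B : Type u) [CommRing B] [Algebra T B] : bcA B (AlgHom.id T K) = AlgHom.id T _ := by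
  ext <;> simp

lemma bcA_smul (B : Type u) [CommRing B] [Algebra T B] (f : K →ₐ[T] K') (s : K) (x : K ⊗[T] B) :
    bcA B f (s • x) = f s • bcA B f x := by
  induction x using TensorProduct.induction_on with
  | zero => simp
  | tmul s a => simp [TensorProduct.smul_tmul']
  | add x y hx hy => rw [smul_add, map_add, map_add, hx, hy, smul_add]

lemma bcA_comp_includeRight (B : Type u) [CommRing B] [Algebra T B] (f : K →ₐ[T] K') :
    (bcA B f).comp (Algebra.TensorProduct.includeRight : B →ₐ[T] K ⊗[T] B) =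
      Algebra.TensorProduct.includeRight := by
  ext b; simp

/-- `K`-linear extension of an algebra map `C → K ⊗ B` -/
noncomputable def ex {B C : Type u} [CommRing B] [Algebra T B] [CommRing C] [Algebra T C]
    (φ : C →ₐ[T] K ⊗[T] B) : K ⊗[T] C →ₐ[K] K ⊗[T] B :=
  Algebra.TensorProduct.lift (Algebra.ofId K _) φ (fun _ _ => .all _ _)

variable {B C : Type u} [CommRing B] [Algebra T B] [CommRing C] [Algebra T C]

@[simp] lemma ex_one_tmul (φ : C →ₐ[T] K ⊗[T] B) (c : C) : ex φ (1 ⊗ₜ c) = φ c := by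
  simp only [ex, Algebra.TensorProduct.lift_tmul, map_one, one_mul]

lemma ex_comp_includeRight (f : K ⊗[T] C →ₐ[K] K ⊗[T] B) :
    ex ((f.restrictScalars T).comp Algebra.TensorProduct.includeRight) = f := by
  ext c
  simp [ex]

lemma bcA_ex (f : K →ₐ[T] K') (φ : C →ₐ[T] K ⊗[T] B) (y : K ⊗[T] C) :
    bcA B f (ex φ y) = ex ((bcA B f).comp φ) (bcA C f y) := by
  induction y using TensorProduct.induction_on with
  | zero => simp
  | tmul s a =>
    have h1 : s ⊗ₜ[T] a = s • ((1 : K) ⊗ₜ[T] a) := by simp [TensorProduct.smul_tmul']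
    rw [h1, map_smul, bcA_smul, bcA_smul, map_smul, ex_one_tmul, bcA_tmul, map_one, ex_one_tmul,
      AlgHom.comp_apply]
  | add x y hx hy => rw [map_add, map_add, map_add, map_add, hx, hy]

end bcA

section sys

variable {T : Type u} [CommRing T] {ι : Type v} [Preorder ι] {L : Type u} [CommRing L] [Algebra T L]
  (D : Sys T ι L)

lemma f_f {i j k : ι} (h : i ≤ j) (h' : j ≤ k) (s : D.S i) : D.f h' (D.f h s) = D.f (h.trans h') s :=
  DFunLike.congr_fun (D.f_comp h h') s

lemma u_f {i j : ι} (h : i ≤ j) (s : D.S i) : D.u j (D.f h s) = D.u i s :=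
  DFunLike.congr_fun (D.u_comp h) s

variable [IsDirected ι (· ≤ ·)]

omit [IsDirected ι (· ≤ ·)] in
lemma exists_sub {i : ι} (s t : D.S i) (h : D.u i s = D.u i t) : ∃ j, ∃ h : i ≤ j, D.f h s = D.f h t := by
  obtain ⟨j, h, hj⟩ := D.zero i (s - t) (by rw [map_sub, h, sub_self])
  exact ⟨j, h, by rwa [map_sub, sub_eq_zero] at hj⟩

section module

variable {N : Type u} [AddCommGroup N] [Module T N]

lemma exists_lift (x : L ⊗[T] N) : ∃ (i : ι) (y : D.S i ⊗[T] N), rT N (D.u i) y = x := by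
  induction x using TensorProduct.induction_on with
  | zero =>
    obtain ⟨i, s, _⟩ := D.surj 0
    exact ⟨i, 0, map_zero _⟩
  | tmul a n =>
    obtain ⟨i, s, rfl⟩ := D.surj a
    exact ⟨i, s ⊗ₜ n, rfl⟩
  | add x y hx hy =>
    obtain ⟨i, x', rfl⟩ := hx
    obtain ⟨j, y', rfl⟩ := hy
    obtain ⟨k, hik, hjk⟩ := exists_ge_ge i j
    refine ⟨k, rT N (D.f hik) x' + rT N (D.f hjk) y', ?_⟩
    rw [map_add, rT_rT, rT_rT, D.u_comp, D.u_comp]

omit [IsDirected ι (· ≤ ·)] in
lemma directedSystem : DirectedSystem D.S (fun _ _ h => (D.f h).toLinearMap) where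
  map_self {i} x := by
    have := DFunLike.congr_fun (D.f_id i) x
    exact this
  map_map {k j i} hij hjk x := D.f_f hij hjk x

lemma exists_eq_zero (i : ι) (y : D.S i ⊗[T] N) (hy : rT N (D.u i) y = 0) :
    ∃ j, ∃ h : i ≤ j, rT N (D.f h) y = 0 := by
  classical
  have hne : Nonempty ι := ⟨i⟩
  have hds := D.directedSystem
  let F : ∀ a b : ι, a ≤ b → (D.S a →ₗ[T] D.S b) := fun a b h => (D.f h).toLinearMap
  let φ : Module.DirectLimit D.S F →ₗ[T] L :=
    Module.DirectLimit.lift T ι D.S F (fun a => (D.u a).toLinearMap) (fun a b h x => D.u_f h x)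
  have hφ : ∀ a x, φ (Module.DirectLimit.of T ι D.S F a x) = D.u a x := fun a x =>
    Module.DirectLimit.lift_of _ _ _
  have hbij : Function.Bijective φ := by
    constructor
    · rw [injective_iff_map_eq_zero]
      intro z hz
      obtain ⟨a, x, rfl⟩ := Module.DirectLimit.exists_of z
      rw [hφ] at hz
      obtain ⟨b, h, hb⟩ := D.zero a x hz
      have h1 : Module.DirectLimit.of T ι D.S F a x = Module.DirectLimit.of T ι D.S F b (F a b h x) :=
        Module.DirectLimit.of_f.symm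
      rw [h1]
      have h2 : F a b h x = 0 := hb
      rw [h2, map_zero]
    · intro a
      obtain ⟨i, s, rfl⟩ := D.surj a
      exact ⟨Module.DirectLimit.of T ι D.S F i s, hφ i s⟩
  have h1 : (LinearMap.rTensor N φ) (LinearMap.rTensor N (Module.DirectLimit.of T ι D.S F i) y) = 0 := by
    rw [← LinearMap.comp_apply, ← LinearMap.rTensor_comp]
    have : φ ∘ₗ Module.DirectLimit.of T ι D.S F i = (D.u i).toLinearMap := LinearMap.ext fun x => hφ i x
    rw [this]
    exact hy
  have h2 : LinearMap.rTensor N (Module.DirectLimit.of T ι D.S F i) y = 0 := by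
    have hinj : Function.Injective (LinearMap.rTensor N φ) :=
      (TensorProduct.congr (LinearEquiv.ofBijective φ hbij) (LinearEquiv.refl T N)).injective
    exact hinj (h1.trans (map_zero _).symm)
  have h3 := TensorProduct.directLimitLeft_rTensor_of F N y
  rw [h2, map_zero] at h3
  have hds' : DirectedSystem (fun a => D.S a ⊗[T] N) (fun a b h => (F a b h).rTensor N) :=
    { map_self := fun {a} x => by
        have : F a a le_rfl = LinearMap.id := LinearMap.ext fun z => DFunLike.congr_fun (D.f_id a) z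
        change LinearMap.rTensor N (F a a le_rfl) x = x
        rw [this, LinearMap.rTensor_id]
        rfl
      map_map := fun {k j i} hij hjk x => by
        change LinearMap.rTensor N (F j k hjk) (LinearMap.rTensor N (F i j hij) x) = _
        rw [← LinearMap.comp_apply, ← LinearMap.rTensor_comp]
        congr 2
        exact LinearMap.ext fun z => D.f_f hij hjk z }
  obtain ⟨j, h, hj⟩ := Module.DirectLimit.of.zero_exact h3.symm
  exact ⟨j, h, hj⟩

/-- finitely many elements can be killed simultaneously -/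
lemma exists_forall_eq_zero {κ : Type*} (F : Set κ) (hF : F.Finite) (i : ι)
    (y : κ → D.S i ⊗[T] N) (hy : ∀ k ∈ F, rT N (D.u i) (y k) = 0) :
    ∃ j, ∃ h : i ≤ j, ∀ k ∈ F, rT N (D.f h) (y k) = 0 := by
  induction F, hF using Set.Finite.induction_on with
  | empty => exact ⟨i, le_rfl, by simp⟩
  | @insert a F _ _ ih =>
    obtain ⟨j, h, H⟩ := ih (fun i hi => hy i (Set.mem_insert_of_mem _ hi))
    obtain ⟨j', h', H'⟩ := D.exists_eq_zero j (rT N (D.f h) (y a)) (by
      rw [rT_rT, D.u_comp]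
      exact hy a (Set.mem_insert _ _))
    refine ⟨j', h.trans h', fun k hk => ?_⟩
    rw [← D.f_comp h h', ← rT_rT]
    rcases Set.mem_insert_iff.mp hk with rfl | hk
    · exact H'
    · rw [H k hk, map_zero]

lemma exists_forall_lift {κ : Type*} [Finite κ] (x : κ → L ⊗[T] N) :
    ∃ (i : ι) (y : κ → D.S i ⊗[T] N), ∀ k, rT N (D.u i) (y k) = x k := by
  classical
  cases nonempty_fintype κ
  choose w y hy using fun k => D.exists_lift (x k)
  have hne : Nonempty ι := by
    obtain ⟨i, _, _⟩ := D.surj 0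
    exact ⟨i⟩
  obtain ⟨j, hj⟩ := Finset.exists_le (Finset.image w Finset.univ)
  refine ⟨j, fun k => rT N (D.f (hj (w k) (Finset.mem_image_of_mem w (Finset.mem_univ k)))) (y k), fun k => ?_⟩
  rw [rT_rT, D.u_comp, hy]

end module

section algebra

variable {B C : Type u} [CommRing B] [Algebra T B] [CommRing C] [Algebra T C]

/-- equality of algebra homomorphisms spreads out -/
lemma exists_comp_eq [Algebra.FiniteType T C] (i : ι) (φ φ' : C →ₐ[T] D.S i ⊗[T] B)
    (h : (bcA B (D.u i)).comp φ = (bcA B (D.u i)).comp φ') :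
    ∃ j, ∃ h : i ≤ j, (bcA B (D.f h)).comp φ = (bcA B (D.f h)).comp φ' := by
  obtain ⟨s, hs⟩ := (Algebra.FiniteType.out : (⊤ : Subalgebra T C).FG)
  obtain ⟨j, hj, H⟩ := D.exists_forall_eq_zero (s : Set C) s.finite_toSet i (fun c => φ c - φ' c) (by
    intro c _
    rw [map_sub, sub_eq_zero]
    exact DFunLike.congr_fun h c)
  refine ⟨j, hj, ?_⟩
  apply AlgHom.ext_of_adjoin_eq_top hs
  intro c hc
  have := H c hc
  rw [map_sub, sub_eq_zero] at this
  exact this

/-- algebra homomorphisms from finitely presented algebras spread out -/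
lemma exists_algHom [Algebra.FinitePresentation T C] (φ : C →ₐ[T] L ⊗[T] B) :
    ∃ (i : ι) (φ' : C →ₐ[T] D.S i ⊗[T] B), (bcA B (D.u i)).comp φ' = φ := by
  obtain ⟨k, f, hf, r, hr⟩ := Algebra.FinitePresentation.out (R := T) (A := C)
  obtain ⟨i, y, hy⟩ := D.exists_forall_lift (N := B) (fun i : Fin k => φ (f (MvPolynomial.X i)))
  let F : MvPolynomial (Fin k) T →ₐ[T] D.S i ⊗[T] B := MvPolynomial.aeval y
  have hF : (bcA B (D.u i)).comp F = φ.comp f := by
    ext i
    simp only [AlgHom.comp_apply, F, MvPolynomial.aeval_X]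
    exact hy i
  obtain ⟨j, hij, H⟩ := D.exists_forall_eq_zero (r : Set (MvPolynomial (Fin k) T)) r.finite_toSet i
    (fun c => F c) (by
      intro c hc
      have h1 : c ∈ RingHom.ker f.toRingHom := hr ▸ Ideal.subset_span hc
      have h2 := DFunLike.congr_fun hF c
      rw [AlgHom.comp_apply, AlgHom.comp_apply, (show f c = 0 from h1), map_zero] at h2
      exact h2)
  let F' : MvPolynomial (Fin k) T →ₐ[T] D.S j ⊗[T] B := (bcA B (D.f hij)).comp F
  have hker : ∀ c, c ∈ RingHom.ker f.toRingHom → F' c = 0 := by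
    have : RingHom.ker f.toRingHom ≤ RingHom.ker F'.toRingHom := by
      rw [← hr, Ideal.span_le]
      intro c hc
      exact H c hc
    intro c hc
    exact this hc
  let φ' : C →ₐ[T] D.S j ⊗[T] B :=
    (Ideal.Quotient.liftₐ (RingHom.ker f) F' hker).comp (Ideal.quotientKerAlgEquivOfSurjective hf).symm.toAlgHom
  have hφ' : φ'.comp f = F' := by
    apply AlgHom.ext
    intro c
    have : (Ideal.quotientKerAlgEquivOfSurjective hf).symm (f c) = Ideal.Quotient.mk _ c := by
      rw [AlgEquiv.symm_apply_eq]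
      rfl
    simp only [φ', AlgHom.comp_apply]
    change (Ideal.Quotient.liftₐ (RingHom.ker f) F' hker) ((Ideal.quotientKerAlgEquivOfSurjective hf).symm (f c)) = _
    rw [this]
    rfl
  refine ⟨j, φ', ?_⟩
  apply AlgHom.ext
  intro c
  obtain ⟨c, rfl⟩ := hf c
  have h3 : φ' (f c) = F' c := DFunLike.congr_fun hφ' c
  have h4 := DFunLike.congr_fun hF c
  rw [AlgHom.comp_apply, h3]
  simp only [F', AlgHom.comp_apply] at *
  rw [bcA_bcA, D.u_comp, h4]

/-- two homomorphisms, at a common index above a given one -/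
lemma exists_algHom_ge [Algebra.FinitePresentation T C] (i₀ : ι) (φ : C →ₐ[T] L ⊗[T] B) :
    ∃ (i : ι) (_ : i₀ ≤ i) (φ' : C →ₐ[T] D.S i ⊗[T] B), (bcA B (D.u i)).comp φ' = φ := by
  obtain ⟨i, φ', h⟩ := D.exists_algHom φ
  obtain ⟨j, h1, h2⟩ := exists_ge_ge i i₀
  refine ⟨j, h2, (bcA B (D.f h1)).comp φ', ?_⟩
  rw [← AlgHom.comp_assoc, ← bcA_comp, D.u_comp, h]

/-- isomorphisms of finitely presented algebras spread out -/
theorem exists_algEquiv [Algebra.FinitePresentation T B] [Algebra.FinitePresentation T C]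
    (g : L ⊗[T] C ≃ₐ[L] L ⊗[T] B) :
    ∃ (i : ι) (e : D.S i ⊗[T] C ≃ₐ[D.S i] D.S i ⊗[T] B),
      ∀ x, bcA B (D.u i) (e x) = g (bcA C (D.u i) x) := by
  let Φ0 : C →ₐ[T] L ⊗[T] B := (g.toAlgHom.restrictScalars T).comp Algebra.TensorProduct.includeRight
  let Ψ0 : B →ₐ[T] L ⊗[T] C := (g.symm.toAlgHom.restrictScalars T).comp Algebra.TensorProduct.includeRight
  have hΦ0 : ex Φ0 = g.toAlgHom := ex_comp_includeRight _
  have hΨ0 : ex Ψ0 = g.symm.toAlgHom := ex_comp_includeRight _
  obtain ⟨w1, Φ1, hΦ1⟩ := D.exists_algHom Φ0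
  obtain ⟨w2, hw2, Ψ2, hΨ2⟩ := D.exists_algHom_ge w1 Ψ0
  let Φ2 := (bcA B (D.f hw2)).comp Φ1
  have hΦ2 : (bcA B (D.u w2)).comp Φ2 = Φ0 := by
    rw [← AlgHom.comp_assoc, ← bcA_comp, D.u_comp, hΦ1]
  have hΦ2' : ∀ c, bcA B (D.u w2) (Φ2 c) = g (1 ⊗ₜ c) := fun c => DFunLike.congr_fun hΦ2 c
  have hΨ2' : ∀ c, bcA C (D.u w2) (Ψ2 c) = g.symm (1 ⊗ₜ c) := fun c => DFunLike.congr_fun hΨ2 c
  obtain ⟨w4, h4, H4⟩ := D.exists_comp_eq w2
    (((ex Ψ2).restrictScalars T).comp Φ2) Algebra.TensorProduct.includeRight (by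
      rw [bcA_comp_includeRight]
      apply AlgHom.ext
      intro c
      simp only [AlgHom.comp_apply, AlgHom.restrictScalars_apply]
      rw [bcA_ex, hΨ2, hΨ0, hΦ2']
      exact g.symm_apply_apply _)
  have H4' : ∀ c, bcA C (D.f h4) (ex Ψ2 (Φ2 c)) = 1 ⊗ₜ c := by
    intro c
    have := DFunLike.congr_fun H4 c
    rw [bcA_comp_includeRight] at this
    exact this
  obtain ⟨w5, h5, H5⟩ := D.exists_comp_eq w4
    ((bcA B (D.f h4)).comp (((ex Φ2).restrictScalars T).comp Ψ2))
    Algebra.TensorProduct.includeRight (by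
      rw [bcA_comp_includeRight]
      apply AlgHom.ext
      intro c
      simp only [AlgHom.comp_apply, AlgHom.restrictScalars_apply]
      rw [bcA_bcA, D.u_comp, bcA_ex, hΦ2, hΦ0, hΨ2']
      exact g.apply_symm_apply _)
  have h35 := h4.trans h5
  have H5' : ∀ c, bcA B (D.f h35) (ex Φ2 (Ψ2 c)) = 1 ⊗ₜ c := by
    intro c
    have := DFunLike.congr_fun H5 c
    rw [bcA_comp_includeRight] at this
    simp only [AlgHom.comp_apply, AlgHom.restrictScalars_apply] at this
    rw [bcA_bcA, D.f_comp] at this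
    exact this
  have H4'' : ∀ c, bcA C (D.f h35) (ex Ψ2 (Φ2 c)) = 1 ⊗ₜ c := by
    intro c
    have := congrArg (bcA C (D.f h5)) (H4' c)
    rw [bcA_bcA, D.f_comp, bcA_tmul, map_one] at this
    exact this
  let Φ5 := (bcA B (D.f h35)).comp Φ2
  let Ψ5 := (bcA C (D.f h35)).comp Ψ2
  refine ⟨w5, AlgEquiv.ofAlgHom (ex Φ5) (ex Ψ5) ?_ ?_, ?_⟩
  · apply Algebra.TensorProduct.ext (by ext)
    apply AlgHom.ext
    intro b
    simp only [AlgHom.comp_apply, AlgHom.restrictScalars_apply, Algebra.TensorProduct.includeRight_apply,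
      AlgHom.id_apply]
    rw [ex_one_tmul, AlgHom.comp_apply, ← bcA_ex, H5']
  · apply Algebra.TensorProduct.ext (by ext)
    apply AlgHom.ext
    intro b
    simp only [AlgHom.comp_apply, AlgHom.restrictScalars_apply, Algebra.TensorProduct.includeRight_apply,
      AlgHom.id_apply]
    rw [ex_one_tmul, AlgHom.comp_apply, ← bcA_ex, H4'']
  · intro x
    change bcA B _ (ex Φ5 x) = _
    rw [bcA_ex]
    have : (bcA B (D.u w5)).comp Φ5 = Φ0 := by
      rw [← AlgHom.comp_assoc, ← bcA_comp, D.u_comp, hΦ2]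
    rw [this, hΦ0]
    rfl

end algebra

end sys

end Sys

end K202
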