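import Groth.Agent.SGA3b.K202.Sys
import Groth.Agent.SGA3b.K202.GroupLaw
import Groth.Agent.Sga3A.GLBasic
import Mathlib.RingTheory.HopfAlgebra.Convolution
import Mathlib.RingTheory.HopfAlgebra.TensorProduct
import Mathlib.RingTheory.Bialgebra.Equiv

/-!
# Descent of Hopf algebras along filtered systems

A Hopf algebra over the colimit `L` of a filtered system `S i`, finitely presented as an algebra, comes from
a Hopf algebra over some `S i`.
-/

set_option autoImplicit false

open TensorProduct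

namespace K202

universe u v

/-- A would-be Hopf structure on `K ⊗ C`. -/
structure HopfDatum (T K C : Type u) [CommRing T] [CommRing K] [Algebra T K] [CommRing C] [Algebra T C] where
  δ : C →ₐ[T] K ⊗[T] (C ⊗[T] C)
  ε : C →ₐ[T] K
  s : C →ₐ[T] K ⊗[T] C

namespace HopfDatum

open Sys GroupLaw

section basic


variable {T K K' C Q Q' B : Type u} [CommRing T] [CommRing K] [Algebra T K] [CommRing K'] [Algebra T K']
  [CommRing C] [Algebra T C] [CommRing B] [Algebra T B] [CommRing Q] [Algebra T Q] [CommRing Q'] [Algebra T Q']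

/-- the homomorphism out of a tensor product -/
noncomputable def lift2 (κ : K →ₐ[T] Q) (g : B →ₐ[T] Q) : K ⊗[T] B →ₐ[T] Q :=
  Algebra.TensorProduct.lift κ g (fun _ _ => .all _ _)

@[simp] lemma lift2_tmul (κ : K →ₐ[T] Q) (g : B →ₐ[T] Q) (k : K) (b : B) : lift2 κ g (k ⊗ₜ b) = κ k * g b := rfl

lemma comp_lift2 (h : Q →ₐ[T] Q') (κ : K →ₐ[T] Q) (g : B →ₐ[T] Q) :
    h.comp (lift2 κ g) = lift2 (h.comp κ) (h.comp g) := by
  ext <;> simp

lemma lift2_comp_bcA (f : K →ₐ[T] K') (κ : K' →ₐ[T] Q) (g : B →ₐ[T] Q) :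
    (lift2 κ g).comp (bcA B f) = lift2 (κ.comp f) g := by
  ext <;> simp

lemma lift2_comp_right (κ : K →ₐ[T] Q) (g : B →ₐ[T] Q) :
    (lift2 κ g).comp Algebra.TensorProduct.includeRight = g := by
  ext; simp

lemma lift2_comp_left (κ : K →ₐ[T] Q) (g : B →ₐ[T] Q) :
    (lift2 κ g).comp Algebra.TensorProduct.includeLeft = κ := by
  ext; simp

variable (D : HopfDatum T K C)

/-- the product of two points -/
noncomputable def mul (κ : K →ₐ[T] Q) (a b : C →ₐ[T] Q) : C →ₐ[T] Q := (lift2 κ (lift2 a b)).comp D.δ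

/-- the unit -/
noncomputable def one (κ : K →ₐ[T] Q) : C →ₐ[T] Q := κ.comp D.ε

/-- the inverse -/
noncomputable def inv (κ : K →ₐ[T] Q) (a : C →ₐ[T] Q) : C →ₐ[T] Q := (lift2 κ a).comp D.s

lemma comp_mul (h : Q →ₐ[T] Q') (κ : K →ₐ[T] Q) (a b : C →ₐ[T] Q) :
    h.comp (D.mul κ a b) = D.mul (h.comp κ) (h.comp a) (h.comp b) := by
  rw [mul, mul, ← AlgHom.comp_assoc, comp_lift2, comp_lift2]

lemma comp_one (h : Q →ₐ[T] Q') (κ : K →ₐ[T] Q) : h.comp (D.one κ) = D.one (h.comp κ) := rfl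

lemma comp_inv (h : Q →ₐ[T] Q') (κ : K →ₐ[T] Q) (a : C →ₐ[T] Q) :
    h.comp (D.inv κ a) = D.inv (h.comp κ) (h.comp a) := by
  rw [inv, inv, ← AlgHom.comp_assoc, comp_lift2]

/-- base change -/
noncomputable def map (f : K →ₐ[T] K') : HopfDatum T K' C :=
  ⟨(bcA _ f).comp D.δ, f.comp D.ε, (bcA _ f).comp D.s⟩

lemma map_mul (f : K →ₐ[T] K') (κ : K' →ₐ[T] Q) (a b : C →ₐ[T] Q) :
    (D.map f).mul κ a b = D.mul (κ.comp f) a b := by
  rw [mul, mul, map, ← AlgHom.comp_assoc, lift2_comp_bcA]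

lemma map_one (f : K →ₐ[T] K') (κ : K' →ₐ[T] Q) : (D.map f).one κ = D.one (κ.comp f) := rfl

lemma map_inv (f : K →ₐ[T] K') (κ : K' →ₐ[T] Q) (a : C →ₐ[T] Q) :
    (D.map f).inv κ a = D.inv (κ.comp f) a := by
  rw [inv, inv, map, ← AlgHom.comp_assoc, lift2_comp_bcA]

/-- The axioms of a group, for all points. -/
structure IsHopf : Prop where
  assoc : ∀ {Q : Type u} [CommRing Q] [Algebra T Q] (κ : K →ₐ[T] Q) (a b c : C →ₐ[T] Q),
    D.mul κ (D.mul κ a b) c = D.mul κ a (D.mul κ b c)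
  one_mul : ∀ {Q : Type u} [CommRing Q] [Algebra T Q] (κ : K →ₐ[T] Q) (a : C →ₐ[T] Q), D.mul κ (D.one κ) a = a
  mul_one : ∀ {Q : Type u} [CommRing Q] [Algebra T Q] (κ : K →ₐ[T] Q) (a : C →ₐ[T] Q), D.mul κ a (D.one κ) = a
  inv_mul : ∀ {Q : Type u} [CommRing Q] [Algebra T Q] (κ : K →ₐ[T] Q) (a : C →ₐ[T] Q),
    D.mul κ (D.inv κ a) a = D.one κ
  mul_inv : ∀ {Q : Type u} [CommRing Q] [Algebra T Q] (κ : K →ₐ[T] Q) (a : C →ₐ[T] Q),
    D.mul κ a (D.inv κ a) = D.one κ

section univ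

/-- the universal points -/
noncomputable abbrev i0 : K →ₐ[T] K ⊗[T] B := Algebra.TensorProduct.includeLeft
noncomputable abbrev p1 : C →ₐ[T] K ⊗[T] (C ⊗[T] (C ⊗[T] C)) :=
  Algebra.TensorProduct.includeRight.comp Algebra.TensorProduct.includeLeft
noncomputable abbrev p2 : C →ₐ[T] K ⊗[T] (C ⊗[T] (C ⊗[T] C)) :=
  Algebra.TensorProduct.includeRight.comp (Algebra.TensorProduct.includeRight.comp Algebra.TensorProduct.includeLeft)
noncomputable abbrev p3 : C →ₐ[T] K ⊗[T] (C ⊗[T] (C ⊗[T] C)) :=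
  Algebra.TensorProduct.includeRight.comp (Algebra.TensorProduct.includeRight.comp Algebra.TensorProduct.includeRight)
noncomputable abbrev q1 : C →ₐ[T] K ⊗[T] C := Algebra.TensorProduct.includeRight

/-- The axioms for the universal points suffice. -/
theorem isHopf_of
    (h1 : D.mul i0 (D.mul i0 p1 p2) p3 = D.mul i0 p1 (D.mul i0 p2 p3))
    (h2 : D.mul i0 (D.one i0) q1 = q1) (h3 : D.mul i0 q1 (D.one i0) = q1)
    (h4 : D.mul i0 (D.inv i0 q1) q1 = D.one i0) (h5 : D.mul i0 q1 (D.inv i0 q1) = D.one i0) : D.IsHopf where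
  assoc {Q} _ _ κ a b c := by
    have h := congrArg (fun z => (lift2 κ (lift2 a (lift2 b c))).comp z) h1
    simpa only [comp_mul, ← AlgHom.comp_assoc, lift2_comp_left, lift2_comp_right] using h
  one_mul {Q} _ _ κ a := by
    have h := congrArg (fun z => (lift2 κ a).comp z) h2
    simpa only [comp_mul, comp_one, lift2_comp_left, lift2_comp_right] using h
  mul_one {Q} _ _ κ a := by
    have h := congrArg (fun z => (lift2 κ a).comp z) h3
    simpa only [comp_mul, comp_one, lift2_comp_left, lift2_comp_right] using h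
  inv_mul {Q} _ _ κ a := by
    have h := congrArg (fun z => (lift2 κ a).comp z) h4
    simpa only [comp_mul, comp_one, comp_inv, lift2_comp_left, lift2_comp_right] using h
  mul_inv {Q} _ _ κ a := by
    have h := congrArg (fun z => (lift2 κ a).comp z) h5
    simpa only [comp_mul, comp_one, comp_inv, lift2_comp_left, lift2_comp_right] using h

end univ

section sys

variable {ι : Type v} [Preorder ι] [IsDirected ι (· ≤ ·)] {L : Type u} [CommRing L] [Algebra T L] (Y : Sys T ι L)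
  [Algebra.FiniteType T C]

/-- the Hopf axioms spread out -/
theorem exists_isHopf (i : ι) (D : HopfDatum T (Y.S i) C) (h : (D.map (Y.u i)).IsHopf) :
    ∃ j, ∃ h : i ≤ j, (D.map (Y.f h)).IsHopf := by
  -- equality of two maps is a property which spreads out
  have key : ∀ (B : Type u) [CommRing B] [Algebra T B] (P : Finset ((C →ₐ[T] Y.S i ⊗[T] B) × (C →ₐ[T] Y.S i ⊗[T] B))),
      (∀ p ∈ P, (bcA B (Y.u i)).comp p.1 = (bcA B (Y.u i)).comp p.2) →
      ∀ i₀, i ≤ i₀ → ∃ j, i₀ ≤ j ∧ ∀ h : i ≤ j, ∀ p ∈ P, (bcA B (Y.f h)).comp p.1 = (bcA B (Y.f h)).comp p.2 := by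
    intro B _ _ P
    classical
    induction P using Finset.induction_on with
    | empty => intro _ i₀ _; exact ⟨i₀, le_rfl, fun _ p hp => absurd hp (Finset.notMem_empty p)⟩
    | insert a P _ ih =>
      intro hP i₀ hi₀
      obtain ⟨j, hj, H⟩ := ih (fun p hp => hP p (Finset.mem_insert_of_mem hp)) i₀ hi₀
      obtain ⟨j', hj', H'⟩ := Y.exists_comp_eq i a.1 a.2 (hP a (Finset.mem_insert_self _ _))
      obtain ⟨k, h1, h2⟩ := exists_ge_ge j j'
      refine ⟨k, hj.trans h1, fun h p hp => ?_⟩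
      rcases Finset.mem_insert.mp hp with rfl | hp
      · rw [← Y.f_comp hj' h2, bcA_comp, AlgHom.comp_assoc, H', AlgHom.comp_assoc]
      · rw [← Y.f_comp (hi₀.trans hj) h1, bcA_comp, AlgHom.comp_assoc, H _ p hp, AlgHom.comp_assoc]
  have hnat : ∀ {K' : Type u} [CommRing K'] [Algebra T K'] (f : Y.S i →ₐ[T] K') (B : Type u) [CommRing B] [Algebra T B],
      (bcA B f).comp (i0 : Y.S i →ₐ[T] Y.S i ⊗[T] B) = i0.comp f := by
    intro K' _ _ f B _ _
    ext; simp
  classical
  obtain ⟨j1, hj1, H1⟩ := key (C ⊗[T] (C ⊗[T] C))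
    {(D.mul i0 (D.mul i0 p1 p2) p3, D.mul i0 p1 (D.mul i0 p2 p3))} (by
      intro p hp
      rw [Finset.mem_singleton] at hp
      subst hp
      simp only [comp_mul, hnat, ← AlgHom.comp_assoc, bcA_comp_includeRight]
      rw [← map_mul, ← map_mul, ← map_mul, ← map_mul]
      exact h.assoc _ _ _ _) i le_rfl
  obtain ⟨j2, hj2, H2⟩ := key C
    {(D.mul i0 (D.one i0) q1, q1), (D.mul i0 q1 (D.one i0), q1), (D.mul i0 (D.inv i0 q1) q1, D.one i0),
      (D.mul i0 q1 (D.inv i0 q1), D.one i0)} (by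
      intro p hp
      simp only [Finset.mem_insert, Finset.mem_singleton] at hp
      rcases hp with rfl | rfl | rfl | rfl
      · simp only [comp_mul, comp_one, hnat, bcA_comp_includeRight]
        rw [← map_mul, ← map_one]
        exact h.one_mul _ _
      · simp only [comp_mul, comp_one, hnat, bcA_comp_includeRight]
        rw [← map_mul, ← map_one]
        exact h.mul_one _ _
      · simp only [comp_mul, comp_one, comp_inv, hnat, bcA_comp_includeRight]
        rw [← map_mul, ← map_one, ← map_inv]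
        exact h.inv_mul _ _
      · simp only [comp_mul, comp_one, comp_inv, hnat, bcA_comp_includeRight]
        rw [← map_mul, ← map_one, ← map_inv]
        exact h.mul_inv _ _) j1 hj1
  have hij : i ≤ j2 := hj1.trans hj2
  refine ⟨j2, hij, ?_⟩
  have E1 : (bcA (C ⊗[T] (C ⊗[T] C)) (Y.f hij)).comp (D.mul i0 (D.mul i0 p1 p2) p3) =
      (bcA (C ⊗[T] (C ⊗[T] C)) (Y.f hij)).comp (D.mul i0 p1 (D.mul i0 p2 p3)) := by
    have := H1 hj1 _ (Finset.mem_singleton_self _)
    rw [← Y.f_comp hj1 hj2, bcA_comp, AlgHom.comp_assoc, this, AlgHom.comp_assoc]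
  have E2 := H2 hij (D.mul i0 (D.one i0) q1, q1) (by simp)
  have E3 := H2 hij (D.mul i0 q1 (D.one i0), q1) (by simp)
  have E4 := H2 hij (D.mul i0 (D.inv i0 q1) q1, D.one i0) (by simp)
  have E5 := H2 hij (D.mul i0 q1 (D.inv i0 q1), D.one i0) (by simp)
  simp only [comp_mul, comp_one, comp_inv, hnat, ← AlgHom.comp_assoc, bcA_comp_includeRight] at E1 E2 E3 E4 E5
  refine isHopf_of _ ?_ ?_ ?_ ?_ ?_
  · rw [map_mul, map_mul, map_mul, map_mul]; exact E1
  · rw [map_mul, map_one]; exact E2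
  · rw [map_mul, map_one]; exact E3
  · rw [map_mul, map_one, map_inv]; exact E4
  · rw [map_mul, map_one, map_inv]; exact E5

end sys

end basic


section points

variable {T K C : Type u} [CommRing T] [CommRing K] [Algebra T K] [CommRing C] [Algebra T C]

/-- the structure map of a `K`-algebra, over `T` -/
noncomputable abbrev st (K Q : Type u) [CommRing K] [Algebra T K] [CommRing Q] [Algebra T Q] [Algebra K Q]
    [IsScalarTower T K Q] : K →ₐ[T] Q := IsScalarTower.toAlgHom T K Q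

/-- `K`-linear extension of a point -/
noncomputable def ext' (K : Type u) [CommRing K] [Algebra T K] {Q : Type u} [CommRing Q] [Algebra T Q] [Algebra K Q]
    [IsScalarTower T K Q] (a : C →ₐ[T] Q) : K ⊗[T] C →ₐ[K] Q :=
  Algebra.TensorProduct.lift (Algebra.ofId K Q) a (fun _ _ => .all _ _)

/-- restriction of a `K`-algebra map -/
noncomputable def rst {Q : Type u} [CommRing Q] [Algebra T Q] [Algebra K Q] [IsScalarTower T K Q]
    (g : K ⊗[T] C →ₐ[K] Q) : C →ₐ[T] Q :=
  (g.restrictScalars T).comp Algebra.TensorProduct.includeRight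

variable {Q Q' : Type u} [CommRing Q] [Algebra T Q] [Algebra K Q] [IsScalarTower T K Q]
    [CommRing Q'] [Algebra T Q'] [Algebra K Q'] [IsScalarTower T K Q']

lemma rst_apply (g : K ⊗[T] C →ₐ[K] Q) (c : C) : rst g c = g (1 ⊗ₜ c) := rfl

lemma ext'_one_tmul (a : C →ₐ[T] Q) (c : C) : ext' K a (1 ⊗ₜ c) = a c := by simp [ext']

lemma rst_ext' (a : C →ₐ[T] Q) : rst (ext' K a) = a := by
  ext; simp [rst, ext']

lemma ext'_rst (g : K ⊗[T] C →ₐ[K] Q) : ext' K (rst g) = g := by
  ext; simp [rst, ext']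

lemma rst_injective {g h : K ⊗[T] C →ₐ[K] Q} (e : rst g = rst h) : g = h := by
  rw [← ext'_rst g, e, ext'_rst]

lemma rst_comp (g : K ⊗[T] C →ₐ[K] Q) (h : Q →ₐ[K] Q') : rst (h.comp g) = (h.restrictScalars T).comp (rst g) := by
  ext; simp [rst]

lemma res_comp_st (h : Q →ₐ[K] Q') : (h.restrictScalars T).comp (st K Q) = st K Q' := by
  ext; simp

lemma lift2_st (a : C →ₐ[T] Q) : lift2 (st K Q) a = (ext' K a).restrictScalars T := by
  ext <;> simp [ext', Algebra.ofId_apply]

end points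

section build

variable {T K C : Type u} [CommRing T] [CommRing K] [Algebra T K] [CommRing C] [Algebra T C]
  (D : HopfDatum T K C)

/-- points of `K ⊗ C` in a tensor product -/
noncomputable abbrev jl : C →ₐ[T] (K ⊗[T] C) ⊗[K] (K ⊗[T] C) := rst Algebra.TensorProduct.includeLeft
/-- points of `K ⊗ C` in a tensor product -/
noncomputable abbrev jr : C →ₐ[T] (K ⊗[T] C) ⊗[K] (K ⊗[T] C) := rst Algebra.TensorProduct.includeRight

/-- the comultiplication -/
noncomputable def comulH : K ⊗[T] C →ₐ[K] (K ⊗[T] C) ⊗[K] (K ⊗[T] C) := ext' K (D.mul (st K _) jl jr)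

/-- the counit -/
noncomputable def counitH : K ⊗[T] C →ₐ[K] K := ext' K (D.one (st K K))

/-- the antipode -/
noncomputable def antipodeH : K ⊗[T] C →ₐ[K] K ⊗[T] C := ext' K (D.inv (st K _) (rst (AlgHom.id K _)))

variable {Q : Type u} [CommRing Q] [Algebra T Q] [Algebra K Q] [IsScalarTower T K Q]

lemma rst_gm (a b : K ⊗[T] C →ₐ[K] Q) : rst (gm D.comulH a b) = D.mul (st K Q) (rst a) (rst b) := by
  rw [gm, rst_comp, comulH, rst_ext', comp_mul, res_comp_st]
  congr 1
  · ext c; simp [rst]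
  · ext c; simp [rst]

lemma rst_counit : rst ((Algebra.ofId K Q).comp D.counitH) = D.one (st K Q) := by
  rw [rst_comp, counitH, rst_ext', comp_one, res_comp_st]

lemma rst_antipode (a : K ⊗[T] C →ₐ[K] Q) : rst (a.comp D.antipodeH) = D.inv (st K Q) (rst a) := by
  rw [rst_comp, antipodeH, rst_ext', comp_inv, res_comp_st]
  congr 1

variable {D} in
theorem law (hD : D.IsHopf) : Law D.comulH D.counitH D.antipodeH := by
  constructor
  · intro Q _ _ a b c
    let _ : Algebra T Q := ((algebraMap K Q).comp (algebraMap T K)).toAlgebra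
    have : IsScalarTower T K Q := .of_algebraMap_eq' rfl
    apply rst_injective (T := T)
    rw [rst_gm, rst_gm, rst_gm, rst_gm, hD.assoc]
  · intro Q _ _ a
    let _ : Algebra T Q := ((algebraMap K Q).comp (algebraMap T K)).toAlgebra
    have : IsScalarTower T K Q := .of_algebraMap_eq' rfl
    apply rst_injective (T := T)
    rw [rst_gm, rst_counit, hD.one_mul]
  · intro Q _ _ a
    let _ : Algebra T Q := ((algebraMap K Q).comp (algebraMap T K)).toAlgebra
    have : IsScalarTower T K Q := .of_algebraMap_eq' rfl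
    apply rst_injective (T := T)
    rw [rst_gm, rst_counit, hD.mul_one]
  · intro Q _ _ a
    let _ : Algebra T Q := ((algebraMap K Q).comp (algebraMap T K)).toAlgebra
    have : IsScalarTower T K Q := .of_algebraMap_eq' rfl
    apply rst_injective (T := T)
    rw [rst_gm, rst_counit, rst_antipode, hD.inv_mul]
  · intro Q _ _ a
    let _ : Algebra T Q := ((algebraMap K Q).comp (algebraMap T K)).toAlgebra
    have : IsScalarTower T K Q := .of_algebraMap_eq' rfl
    apply rst_injective (T := T)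
    rw [rst_gm, rst_counit, rst_antipode, hD.mul_inv]

end build

section ofLaw

variable {T K C H : Type u} [CommRing T] [CommRing K] [Algebra T K] [CommRing C] [Algebra T C]
  [CommRing H] [Algebra K H] (e : K ⊗[T] C ≃ₐ[K] H) (δ : H →ₐ[K] H ⊗[K] H) (ε : H →ₐ[K] K) (s : H →ₐ[K] H)

/-- the point of `H` of a point of `C` -/
noncomputable def hat {Q : Type u} [CommRing Q] [Algebra T Q] [Algebra K Q] [IsScalarTower T K Q]
    (a : C →ₐ[T] Q) : H →ₐ[K] Q := (ext' K a).comp (e.symm : H →ₐ[K] K ⊗[T] C)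

/-- the datum of a group law -/
noncomputable def ofLaw : HopfDatum T K C where
  δ := rst ((gm δ (hat e (Algebra.TensorProduct.includeRight.comp Algebra.TensorProduct.includeLeft))
    (hat e (Algebra.TensorProduct.includeRight.comp Algebra.TensorProduct.includeRight))).comp
      (e : K ⊗[T] C →ₐ[K] H))
  ε := rst (ε.comp (e : K ⊗[T] C →ₐ[K] H))
  s := rst (((e.symm : H →ₐ[K] K ⊗[T] C).comp s).comp (e : K ⊗[T] C →ₐ[K] H))

variable {Q : Type u} [CommRing Q] [Algebra T Q] [Algebra K Q] [IsScalarTower T K Q]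

lemma hat_rst (g : H →ₐ[K] Q) : hat e (rst (g.comp (e : K ⊗[T] C →ₐ[K] H))) = g := by
  rw [hat, ext'_rst]
  ext c
  simp

lemma rst_hat (a : C →ₐ[T] Q) : rst ((hat e a).comp (e : K ⊗[T] C →ₐ[K] H)) = a := by
  ext c
  simp [rst, hat, ext']

lemma comp_hat {B : Type u} [CommRing B] [Algebra T B] (a : C →ₐ[T] B) (g : B →ₐ[T] Q) :
    (ext' K g).comp (hat e ((Algebra.TensorProduct.includeRight : B →ₐ[T] K ⊗[T] B).comp a)) = hat e (g.comp a) := by
  rw [hat, hat, ← AlgHom.comp_assoc]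
  congr 1
  apply rst_injective (T := T)
  ext c; simp [rst, ext']

lemma ofLaw_mul (a b : C →ₐ[T] Q) : (ofLaw e δ ε s).mul (st K Q) a b =
    rst ((gm δ (hat e a) (hat e b)).comp (e : K ⊗[T] C →ₐ[K] H)) := by
  rw [mul, lift2_st, ofLaw, ← rst_comp, ← AlgHom.comp_assoc, comp_gm, comp_hat, comp_hat]
  congr 3
  · rw [lift2_comp_left]
  · rw [lift2_comp_right]

lemma ofLaw_one : (ofLaw e δ ε s).one (st K Q) =
    rst (((Algebra.ofId K Q).comp ε).comp (e : K ⊗[T] C →ₐ[K] H)) := by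
  rw [one, ofLaw]
  ext c
  simp [rst, Algebra.ofId_apply]

lemma ofLaw_inv (a : C →ₐ[T] Q) : (ofLaw e δ ε s).inv (st K Q) a =
    rst (((hat e a).comp s).comp (e : K ⊗[T] C →ₐ[K] H)) := by
  rw [inv, lift2_st, ofLaw, ← rst_comp]
  rfl

variable {δ ε s} in
theorem isHopf_ofLaw (h : Law δ ε s) : (ofLaw e δ ε s).IsHopf := by
  constructor
  · intro Q _ _ κ a b c
    let _ : Algebra K Q := κ.toRingHom.toAlgebra
    have : IsScalarTower T K Q := .of_algebraMap_eq' (κ.comp_algebraMap).symm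
    have hκ : κ = st K Q := by ext; rfl
    rw [hκ, ofLaw_mul, ofLaw_mul, ofLaw_mul, ofLaw_mul, hat_rst, hat_rst, h.assoc]
  · intro Q _ _ κ a
    let _ : Algebra K Q := κ.toRingHom.toAlgebra
    have : IsScalarTower T K Q := .of_algebraMap_eq' (κ.comp_algebraMap).symm
    have hκ : κ = st K Q := by ext; rfl
    rw [hκ, ofLaw_mul, ofLaw_one, hat_rst, h.one_mul, rst_hat]
  · intro Q _ _ κ a
    let _ : Algebra K Q := κ.toRingHom.toAlgebra
    have : IsScalarTower T K Q := .of_algebraMap_eq' (κ.comp_algebraMap).symm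
    have hκ : κ = st K Q := by ext; rfl
    rw [hκ, ofLaw_mul, ofLaw_one, hat_rst, h.mul_one, rst_hat]
  · intro Q _ _ κ a
    let _ : Algebra K Q := κ.toRingHom.toAlgebra
    have : IsScalarTower T K Q := .of_algebraMap_eq' (κ.comp_algebraMap).symm
    have hκ : κ = st K Q := by ext; rfl
    rw [hκ, ofLaw_mul, ofLaw_one, ofLaw_inv, hat_rst, h.inv_mul]
  · intro Q _ _ κ a
    let _ : Algebra K Q := κ.toRingHom.toAlgebra
    have : IsScalarTower T K Q := .of_algebraMap_eq' (κ.comp_algebraMap).symm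
    have hκ : κ = st K Q := by ext; rfl
    rw [hκ, ofLaw_mul, ofLaw_one, ofLaw_inv, hat_rst, h.mul_inv]

end ofLaw


/-- the datum of a Hopf algebra `X` with an isomorphism `K ⊗ C ≃ X` -/
noncomputable abbrev ofHopf {T K C X : Type u} [CommRing T] [CommRing K] [Algebra T K] [CommRing C] [Algebra T C]
    [CommRing X] [HopfAlgebra K X] (i : K ⊗[T] C ≃ₐ[K] X) : HopfDatum T K C :=
  ofLaw i (Bialgebra.comulAlgHom K X) (Bialgebra.counitAlgHom K X) (HopfAlgebra.antipodeAlgHom K X)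

theorem isHopf_ofHopf {T K C X : Type u} [CommRing T] [CommRing K] [Algebra T K] [CommRing C] [Algebra T C]
    [CommRing X] [HopfAlgebra K X] (i : K ⊗[T] C ≃ₐ[K] X) : (ofHopf i).IsHopf :=
  isHopf_ofLaw i (law_of_hopfAlgebra K X)

section

variable {T K C X : Type u} [CommRing T] [CommRing K] [Algebra T K] [CommRing C] [Algebra T C]
    [CommRing X] [HopfAlgebra K X] (i : K ⊗[T] C ≃ₐ[K] X) [Algebra T X] [IsScalarTower T K X]

/-- the comultiplication in terms of the datum -/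
lemma rst_comul : rst ((Bialgebra.comulAlgHom K X).comp (i : K ⊗[T] C →ₐ[K] X)) =
    (ofHopf i).mul (st K (X ⊗[K] X))
      (rst ((Algebra.TensorProduct.includeLeft : X →ₐ[K] X ⊗[K] X).comp (i : K ⊗[T] C →ₐ[K] X)))
      (rst ((Algebra.TensorProduct.includeRight : X →ₐ[K] X ⊗[K] X).comp (i : K ⊗[T] C →ₐ[K] X))) := by
  rw [ofLaw_mul, hat_rst, hat_rst, gm_incl]

end

section compare

variable {T K L C X H : Type u} [CommRing T] [CommRing K] [Algebra T K] [CommRing L] [Algebra T L] [Algebra K L]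
  [IsScalarTower T K L] [CommRing C] [Algebra T C] [CommRing X] [HopfAlgebra K X] [CommRing H] [HopfAlgebra L H]
  (i : K ⊗[T] C ≃ₐ[K] X) (e : L ⊗[T] C ≃ₐ[L] H)

theorem exists_bialgEquiv (hmap : (ofHopf i).map (st K L) = ofHopf e) : Nonempty (L ⊗[K] X ≃ₐc[L] H) := by
  let _ : Algebra T X := ((algebraMap K X).comp (algebraMap T K)).toAlgebra
  have : IsScalarTower T K X := .of_algebraMap_eq' rfl
  let _ : Algebra T H := ((algebraMap L H).comp (algebraMap T L)).toAlgebra
  have : IsScalarTower T L H := .of_algebraMap_eq' rfl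
  let _ : Algebra K H := ((algebraMap L H).comp (algebraMap K L)).toAlgebra
  have : IsScalarTower K L H := .of_algebraMap_eq' rfl
  have : IsScalarTower T K H := by
    refine .of_algebraMap_eq' ?_
    change (algebraMap L H).comp (algebraMap T L) = ((algebraMap L H).comp (algebraMap K L)).comp (algebraMap T K)
    rw [RingHom.comp_assoc, ← IsScalarTower.algebraMap_eq T K L]
  let E' : L ⊗[T] C ≃ₐ[L] L ⊗[K] X :=
    (Algebra.TensorProduct.cancelBaseChange T K L L C).symm.trans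
      (Algebra.TensorProduct.congr (AlgEquiv.refl : L ≃ₐ[L] L) i)
  have hE' : ∀ c, E' (1 ⊗ₜ c) = 1 ⊗ₜ i (1 ⊗ₜ c) := fun c => by simp [E']
  let E : L ⊗[K] X ≃ₐ[L] H := E'.symm.trans e
  have hE : ∀ c, E (1 ⊗ₜ i (1 ⊗ₜ c)) = e (1 ⊗ₜ c) := by
    intro c
    rw [← hE']
    simp [E]
  -- `X → H`
  let g : X →ₐ[K] H := (E.toAlgHom.restrictScalars K).comp Algebra.TensorProduct.includeRight
  have hg : ∀ x, g x = E (1 ⊗ₜ x) := fun x => rfl
  let J : X ⊗[K] X →ₐ[K] H ⊗[L] H := Algebra.TensorProduct.lift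
    (((Algebra.TensorProduct.includeLeft : H →ₐ[L] H ⊗[L] H).restrictScalars K).comp g)
    (((Algebra.TensorProduct.includeRight : H →ₐ[L] H ⊗[L] H).restrictScalars K).comp g) (fun _ _ => .all _ _)
  have hJ : ∀ x y, J (x ⊗ₜ y) = g x ⊗ₜ g y := fun x y => by simp [J]
  have hJ2 : ∀ z : X ⊗[K] X, Algebra.TensorProduct.map E.toAlgHom E.toAlgHom
      (TensorProduct.AlgebraTensorModule.distribBaseChange K L X X ((1 : L) ⊗ₜ[K] z)) = J z := by
    intro z
    induction z using TensorProduct.induction_on with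
    | zero => simp
    | tmul x y => simp [hJ, hg]
    | add x y hx hy => rw [TensorProduct.tmul_add, map_add, map_add, map_add, hx, hy]
  have hcomul : ∀ x : X, Algebra.TensorProduct.map E.toAlgHom E.toAlgHom (Coalgebra.comul (R := L) ((1 : L) ⊗ₜ[K] x)) =
      J (Coalgebra.comul (R := K) x) := by
    intro x
    rw [Groth.Agent.Sga3A.GLBasic.comul_one_tmul, hJ2]
  -- the two comultiplications
  have h1 : (J.restrictScalars T).comp (rst ((Bialgebra.comulAlgHom K X).comp (i : K ⊗[T] C →ₐ[K] X))) =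
      rst ((Bialgebra.comulAlgHom L H).comp (e : L ⊗[T] C →ₐ[L] H)) := by
    rw [rst_comul, rst_comul, ← hmap, comp_mul, map_mul]
    congr 1
    · ext k
      simp only [AlgHom.comp_apply, AlgHom.restrictScalars_apply, IsScalarTower.coe_toAlgHom']
      rw [AlgHom.commutes]
      exact IsScalarTower.algebraMap_apply K L (H ⊗[L] H) k
    · ext c
      simp [rst, J, hg, hE]
      rw [← Algebra.TensorProduct.one_def, _root_.map_one]
    · ext c
      simp [rst, J, hg, hE]
      rw [← Algebra.TensorProduct.one_def, _root_.map_one]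
  have h2 : ((Algebra.TensorProduct.map E.toAlgHom E.toAlgHom).comp
      (Bialgebra.comulAlgHom L (L ⊗[K] X))).comp E'.toAlgHom = (Bialgebra.comulAlgHom L H).comp (e : L ⊗[T] C →ₐ[L] H) := by
    apply rst_injective (T := T)
    rw [← h1]
    ext c
    change Algebra.TensorProduct.map E.toAlgHom E.toAlgHom (Coalgebra.comul (R := L) (E' (1 ⊗ₜ c))) =
      J (Coalgebra.comul (R := K) (i (1 ⊗ₜ c)))
    rw [hE', hcomul]
  have h3 : ((Bialgebra.counitAlgHom L H).comp E.toAlgHom).comp E'.toAlgHom =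
      (Bialgebra.counitAlgHom L (L ⊗[K] X)).comp E'.toAlgHom := by
    apply rst_injective (T := T)
    ext c
    change Coalgebra.counit (R := L) (E (E' (1 ⊗ₜ c))) = Coalgebra.counit (R := L) (E' (1 ⊗ₜ c))
    rw [hE', hE]
    have h4 := DFunLike.congr_fun (congrArg HopfDatum.ε hmap) c
    change algebraMap K L (Coalgebra.counit (R := K) (i (1 ⊗ₜ c))) = Coalgebra.counit (R := L) (e (1 ⊗ₜ c)) at h4
    rw [← h4, TensorProduct.counit_tmul, Bialgebra.counit_one, Algebra.smul_def, mul_one]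
  refine ⟨BialgEquiv.ofAlgEquiv E ?_ ?_⟩
  · have h5 := congrArg (fun z => z.comp E'.symm.toAlgHom) h3
    simp only [AlgHom.comp_assoc] at h5
    have h6 : E'.toAlgHom.comp E'.symm.toAlgHom = AlgHom.id L _ := by
      ext x; simp
    rw [h6] at h5
    exact h5
  · have h5 := congrArg (fun z => z.comp E'.symm.toAlgHom) h2
    simp only [AlgHom.comp_assoc] at h5
    have h6 : E'.toAlgHom.comp E'.symm.toAlgHom = AlgHom.id L _ := by
      ext x; simp
    rw [h6] at h5
    exact h5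

end compare

section descent

variable {T : Type u} [CommRing T] {C : Type u} [CommRing C] [Algebra T C]

@[ext] lemma ext_datum {K : Type u} [CommRing K] [Algebra T K] {D D' : HopfDatum T K C} (h1 : D.δ = D'.δ)
    (h2 : D.ε = D'.ε) (h3 : D.s = D'.s) : D = D' := by
  cases D; cases D'
  congr

lemma map_map {K K' K'' : Type u} [CommRing K] [Algebra T K] [CommRing K'] [Algebra T K']
    [CommRing K''] [Algebra T K''] (D : HopfDatum T K C) (f : K →ₐ[T] K') (f' : K' →ₐ[T] K'') :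
    (D.map f).map f' = D.map (f'.comp f) := by
  apply ext_datum
  · change (bcA _ f').comp ((bcA _ f).comp D.δ) = (bcA _ (f'.comp f)).comp D.δ
    rw [bcA_comp, AlgHom.comp_assoc]
  · rfl
  · change (bcA _ f').comp ((bcA _ f).comp D.s) = (bcA _ (f'.comp f)).comp D.s
    rw [bcA_comp, AlgHom.comp_assoc]

lemma ofLaw_refl {K : Type u} [CommRing K] [Algebra T K] (D : HopfDatum T K C) :
    ofLaw (AlgEquiv.refl : K ⊗[T] C ≃ₐ[K] K ⊗[T] C) D.comulH D.counitH D.antipodeH = D := by
  have hr : ∀ {Q : Type u} [CommRing Q] [Algebra T Q] [Algebra K Q] [IsScalarTower T K Q] (a : C →ₐ[T] Q),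
      hat (AlgEquiv.refl : K ⊗[T] C ≃ₐ[K] K ⊗[T] C) a = ext' K a := by
    intro Q _ _ _ _ a
    ext x; simp [hat]
  have hr2 : ∀ {Q : Type u} [CommRing Q] [Algebra T Q] [Algebra K Q] [IsScalarTower T K Q]
      (g : K ⊗[T] C →ₐ[K] Q), g.comp ((AlgEquiv.refl : K ⊗[T] C ≃ₐ[K] K ⊗[T] C) : K ⊗[T] C →ₐ[K] K ⊗[T] C) = g := by
    intro Q _ _ _ _ g
    ext x; simp
  apply ext_datum
  · change rst _ = _
    rw [hr2, rst_gm, hr, hr, rst_ext', rst_ext', mul]
    have : lift2 (st K (K ⊗[T] (C ⊗[T] C))) (lift2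
        (Algebra.TensorProduct.includeRight.comp Algebra.TensorProduct.includeLeft)
        (Algebra.TensorProduct.includeRight.comp Algebra.TensorProduct.includeRight)) =
        AlgHom.id T (K ⊗[T] (C ⊗[T] C)) := by
      ext <;> simp
    rw [this, AlgHom.id_comp]
  · change rst _ = _
    rw [hr2, counitH, rst_ext', one]
    ext; simp
  · change rst _ = _
    rw [hr2]
    have : ((AlgEquiv.refl : K ⊗[T] C ≃ₐ[K] K ⊗[T] C).symm : K ⊗[T] C →ₐ[K] K ⊗[T] C) = AlgHom.id K _ := by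
      ext; simp
    rw [this, rst_antipode, inv]
    have : lift2 (st K (K ⊗[T] C)) (rst (AlgHom.id K (K ⊗[T] C))) = AlgHom.id T (K ⊗[T] C) := by
      ext <;> simp [rst]
    rw [this, AlgHom.id_comp]

variable {ι : Type v} [Preorder ι] [IsDirected ι (· ≤ ·)] {L : Type u} [CommRing L] [Algebra T L] (Y : Sys T ι L)

/-- **Descent of Hopf algebras.** -/
theorem _root_.K202.Sys.exists_hopf [Algebra.FinitePresentation T C] {H : Type u} [CommRing H] [HopfAlgebra L H]
    [∀ j, Algebra (Y.S j) L] (hu : ∀ j s, algebraMap (Y.S j) L s = Y.u j s) (e : L ⊗[T] C ≃ₐ[L] H) :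
    ∃ (j : ι) (X : Type u) (_ : CommRing X) (_ : HopfAlgebra (Y.S j) X), Algebra.FinitePresentation (Y.S j) X ∧
      Nonempty (L ⊗[Y.S j] X ≃ₐc[L] H) := by
  let dH : HopfDatum T L C := ofHopf e
  have hdH : dH.IsHopf := isHopf_ofHopf e
  obtain ⟨i1, δ, hδ⟩ := Y.exists_algHom dH.δ
  obtain ⟨i2, h12, s, hs⟩ := Y.exists_algHom_ge i1 dH.s
  obtain ⟨i3, h23, ε, hε⟩ := Y.exists_algHom_ge (B := T) i2
    (((Algebra.TensorProduct.rid T T L).symm : L →ₐ[T] L ⊗[T] T).comp dH.ε)
  let d₀ : HopfDatum T (Y.S i3) C :=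
    { δ := (bcA _ (Y.f (h12.trans h23))).comp δ
      ε := ((Algebra.TensorProduct.rid T T (Y.S i3)) : Y.S i3 ⊗[T] T →ₐ[T] Y.S i3).comp ε
      s := (bcA _ (Y.f h23)).comp s }
  have hd₀ : d₀.map (Y.u i3) = dH := by
    apply ext_datum
    · change (bcA _ (Y.u i3)).comp ((bcA _ (Y.f (h12.trans h23))).comp δ) = _
      rw [← AlgHom.comp_assoc, ← bcA_comp, Y.u_comp, hδ]
    · change (Y.u i3).comp (((Algebra.TensorProduct.rid T T (Y.S i3)) : Y.S i3 ⊗[T] T →ₐ[T] Y.S i3).comp ε) = _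
      have h1 : ∀ z : Y.S i3 ⊗[T] T, (Y.u i3) (Algebra.TensorProduct.rid T T (Y.S i3) z) =
          Algebra.TensorProduct.rid T T L (bcA T (Y.u i3) z) := by
        intro z
        induction z using TensorProduct.induction_on with
        | zero => simp
        | tmul a t => simp
        | add x y hx hy => rw [map_add, map_add, map_add, map_add, hx, hy]
      ext c
      have h2 := DFunLike.congr_fun hε c
      change (Y.u i3) (Algebra.TensorProduct.rid T T (Y.S i3) (ε c)) = dH.ε c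
      change bcA T (Y.u i3) (ε c) = (Algebra.TensorProduct.rid T T L).symm (dH.ε c) at h2
      rw [h1, h2, AlgEquiv.apply_symm_apply]
    · change (bcA _ (Y.u i3)).comp ((bcA _ (Y.f h23)).comp s) = _
      rw [← AlgHom.comp_assoc, ← bcA_comp, Y.u_comp, hs]
  obtain ⟨j, hij, hd⟩ := exists_isHopf Y i3 d₀ (hd₀ ▸ hdH)
  let _ : HopfAlgebra (Y.S j) (Y.S j ⊗[T] C) := (law hd).hopfAlgebra
  refine ⟨j, Y.S j ⊗[T] C, inferInstance, inferInstance, ?_, ?_⟩
  · exact (inferInstance : Algebra.FinitePresentation (Y.S j) (Y.S j ⊗[T] C))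
  · have : IsScalarTower T (Y.S j) L := .of_algebraMap_eq fun t => by rw [hu, AlgHom.commutes]
    refine exists_bialgEquiv (T := T) (C := C) (AlgEquiv.refl : Y.S j ⊗[T] C ≃ₐ[Y.S j] Y.S j ⊗[T] C) e ?_
    have h1 : ofHopf (AlgEquiv.refl : Y.S j ⊗[T] C ≃ₐ[Y.S j] Y.S j ⊗[T] C) = d₀.map (Y.f hij) :=
      ofLaw_refl (d₀.map (Y.f hij))
    have h2 : st (T := T) (Y.S j) L = Y.u j := by ext s; exact hu j s
    rw [h1, map_map, h2, Y.u_comp, hd₀]

end descent

end HopfDatum

end K202
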