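import Groth.Agent.SGA3b.K202.Sys
import Groth.Agent.Sga3A.MTSpread
import Mathlib.RingTheory.Polynomial.Basic
import Mathlib.Algebra.Polynomial.Lifts
import Mathlib.RingTheory.Spectrum.Prime.Chevalley
import Mathlib.RingTheory.LocalRing.ResidueField.Ideal
import Mathlib.RingTheory.Flat.FaithfullyFlat.Algebra
import Mathlib.RingTheory.IntegralClosure.Algebra.Basic
import Mathlib.RingTheory.Etale.Basic
import Mathlib.RingTheory.Finiteness.ModuleFinitePresentation

/-!
# Filtered systems: splittings, finiteness, faithful flatness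
-/

set_option autoImplicit false

open TensorProduct

namespace K202.Sys

universe u v

open Groth.Agent.Sga3A.MTBasis Groth.Agent.Sga3A.MTSpread

variable {T : Type u} [CommRing T] {ι : Type v} [Preorder ι] [IsDirected ι (· ≤ ·)] {L : Type u} [CommRing L]
  [Algebra T L] (D : Sys T ι L)

/-- the system `S i ⊗ Q` -/
noncomputable def tensor (Q : Type u) [CommRing Q] [Algebra T Q] : Sys T ι (L ⊗[T] Q) where
  S i := D.S i ⊗[T] Q
  f h := bcA Q (D.f h)
  u i := bcA Q (D.u i)
  f_id i := by rw [D.f_id, bcA_id]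
  f_comp h h' := by rw [← bcA_comp, D.f_comp]
  u_comp h := by rw [← bcA_comp, D.u_comp]
  surj a := D.exists_lift a
  zero i s hs := D.exists_eq_zero i s hs

section gbasis

variable {B : Type u} [CommRing B] [HopfAlgebra T B]

/-- group-likeness spreads out -/
lemma exists_isGroupLikeElem {κ : Type*} (F : Set κ) (hF : F.Finite) (i : ι) (x : κ → D.S i ⊗[T] B)
    (hx : ∀ k ∈ F, IsGroupLikeElem L (bcA B (D.u i) (x k))) :
    ∃ j, ∃ h : i ≤ j, ∀ k ∈ F, IsGroupLikeElem (D.S j) (bcA B (D.f h) (x k)) := by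
  obtain ⟨j, h, H⟩ := D.exists_forall_eq_zero F hF i (fun k => dft B (x k)) (by
    intro k hk
    have h1 := ((isGroupLikeElem_iff_dft _).mp (hx k hk)).2
    rw [← h1]
    exact rT_dft (D.u i) (x k))
  obtain ⟨j', h', H'⟩ := D.exists_forall_eq_zero (N := T) F hF j
    (fun k => (D.f h (Coalgebra.counit (R := D.S i) (x k)) - 1) ⊗ₜ[T] (1 : T)) (by
      intro k hk
      have h1 := ((isGroupLikeElem_iff_dft _).mp (hx k hk)).1
      have h2 : Coalgebra.counit (R := L) (bcA B (D.u i) (x k)) = D.u i (Coalgebra.counit (R := D.S i) (x k)) :=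
        counit_bc (D.u i) (x k)
      rw [h2] at h1
      simp only [LinearMap.rTensor_tmul, AlgHom.toLinearMap_apply, map_sub, map_one]
      rw [D.u_f, h1, sub_self, TensorProduct.zero_tmul])
  refine ⟨j', h.trans h', fun k hk => ?_⟩
  rw [isGroupLikeElem_iff_dft]
  constructor
  · have h1 := H' k hk
    simp only [LinearMap.rTensor_tmul, AlgHom.toLinearMap_apply, map_sub, map_one] at h1
    rw [D.f_f] at h1
    have h2 := congrArg (TensorProduct.rid T _) h1
    rw [TensorProduct.rid_tmul, one_smul, map_zero, sub_eq_zero] at h2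
    exact (counit_bc (D.f (h.trans h')) (x k)).trans h2
  · have h1 := congrArg (rT _ (D.f h')) (H k hk)
    rw [rT_rT, D.f_comp, map_zero] at h1
    rw [← h1]
    exact (rT_dft (D.f (h.trans h')) (x k)).symm

/-- **Spreading out of splittings.** -/
theorem exists_gbasis [Algebra.FinitePresentation T B] (M : Type u) [CommGroup M] [Group.FG M]
    (g : GBasis L (L ⊗[T] B) M) : ∃ i, Nonempty (GBasis (D.S i) (D.S i ⊗[T] B) M) := by
  have hfpC := finitePresentation_monoidAlgebra T M
  let f : L ⊗[T] MonoidAlgebra T M ≃ₐ[L] L ⊗[T] B :=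
    (Groth.Agent.Sga3A.MultBC.bcMonoidAlgebra T L M : _ ≃ₐ[L] MonoidAlgebra L M).trans
      (g.bialgEquiv : _ ≃ₐ[L] L ⊗[T] B)
  have hf : ∀ m, f (1 ⊗ₜ MonoidAlgebra.single m 1) = g.b m := by
    intro m
    change g.bialgEquiv (Groth.Agent.Sga3A.MultBC.bcMonoidAlgebra T L M _) = _
    rw [Groth.Agent.Sga3A.MultBC.bcMonoidAlgebra_tmul_single]
    simp
  obtain ⟨w, e, he⟩ := D.exists_algEquiv f
  obtain ⟨X, hX⟩ := Group.fg_def.mp ‹Group.FG M›
  obtain ⟨w', h', H⟩ := D.exists_isGroupLikeElem (X : Set M) X.finite_toSet w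
    (fun m => e (1 ⊗ₜ MonoidAlgebra.single m 1)) (by
      intro m _
      rw [he, bcA_tmul, map_one, hf]
      exact g.gl m)
  -- the monoid hom
  let γ : M →* D.S w' ⊗[T] B :=
    { toFun := fun m => bcA B (D.f h') (e (1 ⊗ₜ MonoidAlgebra.single m 1))
      map_one' := by
        rw [← MonoidAlgebra.one_def]
        have : (1 : D.S w) ⊗ₜ[T] (1 : MonoidAlgebra T M) = 1 := rfl
        rw [this, map_one, map_one]
      map_mul' := fun m m' => by
        rw [← map_mul, ← map_mul, Algebra.TensorProduct.tmul_mul_tmul, MonoidAlgebra.single_mul_single, one_mul,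
          one_mul] }
  have hgl : ∀ m, IsGroupLikeElem (D.S w') (γ m) := by
    let P : Subgroup M :=
      { carrier := {m | IsGroupLikeElem (D.S w') (γ m)}
        one_mem' := by rw [Set.mem_ofPred_eq, map_one]; exact .one
        mul_mem' := fun {a b} ha hb => by
          rw [Set.mem_ofPred_eq] at *
          rw [map_mul]
          exact ha.mul hb
        inv_mem' := fun {a} ha => by
          rw [Set.mem_ofPred_eq] at *
          exact ha.of_mul_eq_one (by rw [← map_mul, mul_inv_cancel, map_one])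
            (by rw [← map_mul, inv_mul_cancel, map_one]) }
    have : P = ⊤ := by
      rw [eq_top_iff, ← hX, Subgroup.closure_le]
      exact fun m hm => H m hm
    intro m
    exact (this ▸ Subgroup.mem_top m : m ∈ P)
  -- the basis
  obtain ⟨e', he''⟩ := exists_algEquiv_bc (D.f h') e
  have he' : ∀ m, e' (1 ⊗ₜ MonoidAlgebra.single m 1) = γ m := by
    intro m
    have := he'' (1 ⊗ₜ MonoidAlgebra.single m 1)
    rw [bc_tmul, map_one] at this
    exact this
  let bas : Module.Basis M (D.S w') (D.S w' ⊗[T] B) :=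
    ((MonoidAlgebra.basis M T).baseChange (D.S w')).map e'.toLinearEquiv
  have hbas : ∀ m, bas m = γ m := by
    intro m
    rw [← he']
    simp [bas]
  exact ⟨w', ⟨⟨bas, by rw [hbas, map_one], fun m n => by rw [hbas, hbas, hbas, map_mul], fun m => by
    rw [hbas]; exact hgl m⟩⟩⟩

end gbasis

section finite

variable {E : Type u} [CommRing E] [Algebra T E]

omit [IsDirected ι (· ≤ ·)] in
lemma aeval_bcA (i : ι) (q : Polynomial (D.S i)) (y : E) :
    bcA E (D.u i) (Polynomial.aeval ((1 : D.S i) ⊗ₜ[T] y) q) =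
      Polynomial.aeval ((1 : L) ⊗ₜ[T] y) (q.map (D.u i : D.S i →+* L)) := by
  induction q using Polynomial.induction_on' with
  | add p q hp hq => simp [hp, hq]
  | monomial n a =>
    rw [Polynomial.aeval_monomial, Polynomial.map_monomial, Polynomial.aeval_monomial, map_mul, map_pow,
      bcA_tmul, map_one]
    congr 1

lemma exists_isIntegral (y : E) (h : IsIntegral L ((1 : L) ⊗ₜ[T] y)) :
    ∃ i, IsIntegral (D.S i) ((1 : D.S i) ⊗ₜ[T] y) := by
  obtain ⟨p, hp, hpy⟩ := h
  classical
  -- the coefficients come from some level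
  obtain ⟨i, hi⟩ : ∃ i, p ∈ Polynomial.lifts (D.u i : D.S i →+* L) := by
    have hne : Nonempty ι := by
      obtain ⟨i, _, _⟩ := D.surj 0
      exact ⟨i⟩
    choose w s hs using fun n : ℕ => D.surj (p.coeff n)
    obtain ⟨j, hj⟩ := Finset.exists_le (Finset.image w p.support)
    refine ⟨j, ?_⟩
    rw [Polynomial.lifts_iff_coeff_lifts]
    intro n
    by_cases hn : n ∈ p.support
    · exact ⟨D.f (hj (w n) (Finset.mem_image_of_mem w hn)) (s n), by
        change D.u j _ = _
        rw [D.u_f, hs]⟩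
    · rw [Polynomial.notMem_support_iff] at hn
      exact ⟨0, by rw [hn, map_zero]⟩
  obtain ⟨q, hq1, hq2, hq3⟩ := Polynomial.lifts_and_natDegree_eq_and_monic hi hp
  obtain ⟨j, h, hj⟩ := D.exists_eq_zero i (Polynomial.aeval ((1 : D.S i) ⊗ₜ[T] y) q) (by
    rw [rT_eq_bcA, aeval_bcA, hq1]
    exact hpy)
  refine ⟨j, q.map (D.f h : D.S i →+* D.S j), hq3.map _, ?_⟩
  rw [← Polynomial.aeval_def]
  -- same computation for the transition map
  have key : ∀ q : Polynomial (D.S i), bcA E (D.f h) (Polynomial.aeval ((1 : D.S i) ⊗ₜ[T] y) q) =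
      Polynomial.aeval ((1 : D.S j) ⊗ₜ[T] y) (q.map (D.f h : D.S i →+* D.S j)) := by
    intro q
    induction q using Polynomial.induction_on' with
    | add p q hp hq => simp [hp, hq]
    | monomial n a =>
      rw [Polynomial.aeval_monomial, Polynomial.map_monomial, Polynomial.aeval_monomial, map_mul, map_pow,
        bcA_tmul, map_one]
      congr 1
  rw [← key]
  exact hj

omit [IsDirected ι (· ≤ ·)] in
lemma isIntegral_mono {i j : ι} (h : i ≤ j) (y : E) (hy : IsIntegral (D.S i) ((1 : D.S i) ⊗ₜ[T] y)) :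
    IsIntegral (D.S j) ((1 : D.S j) ⊗ₜ[T] y) := by
  obtain ⟨p, hp, hpy⟩ := hy
  refine ⟨p.map (D.f h : D.S i →+* D.S j), hp.map _, ?_⟩
  have h1 := congrArg (bcA E (D.f h)) hpy
  rw [map_zero, ← AlgHom.coe_toRingHom, Polynomial.hom_eval₂] at h1
  rw [Polynomial.eval₂_map]
  have h2 : ((bcA E (D.f h)).toRingHom.comp (algebraMap (D.S i) (D.S i ⊗[T] E))) =
      (algebraMap (D.S j) (D.S j ⊗[T] E)).comp (D.f h : D.S i →+* D.S j) := by
    ext a
    simp [Algebra.TensorProduct.algebraMap_apply]
  rw [← h2]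
  have h3 : (bcA E (D.f h)).toRingHom ((1 : D.S i) ⊗ₜ[T] y) = (1 : D.S j) ⊗ₜ[T] y := by
    change bcA E (D.f h) _ = _
    rw [bcA_tmul, map_one]
  rw [← h3]
  exact h1

/-- Finiteness of a finitely generated algebra spreads out. -/
theorem exists_finite [Algebra.FiniteType T E] (h : Module.Finite L (L ⊗[T] E)) :
    ∃ i, Module.Finite (D.S i) (D.S i ⊗[T] E) := by
  obtain ⟨s, hs⟩ := (Algebra.FiniteType.out : (⊤ : Subalgebra T E).FG)
  have hne : Nonempty ι := by
    obtain ⟨i, _, _⟩ := D.surj 0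
    exact ⟨i⟩
  classical
  choose w hw using fun y : E => D.exists_isIntegral y (IsIntegral.of_finite L _)
  obtain ⟨j, hj⟩ := Finset.exists_le (Finset.image w s)
  have h1 : ∀ y ∈ s, IsIntegral (D.S j) ((1 : D.S j) ⊗ₜ[T] y) := fun y hy =>
    D.isIntegral_mono (hj (w y) (Finset.mem_image_of_mem w hy)) y (hw y)
  have h2 : ∀ y : E, IsIntegral (D.S j) ((1 : D.S j) ⊗ₜ[T] y) := by
    let P : Subalgebra T E := ((integralClosure (D.S j) (D.S j ⊗[T] E)).restrictScalars T).comap
      (Algebra.TensorProduct.includeRight : E →ₐ[T] D.S j ⊗[T] E)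
    have hP : P = ⊤ := by
      rw [eq_top_iff, ← hs, Algebra.adjoin_le_iff]
      intro y hy
      exact h1 y hy
    intro y
    exact (hP ▸ Algebra.mem_top : y ∈ P)
  refine ⟨j, ?_⟩
  have h3 : Algebra.IsIntegral (D.S j) (D.S j ⊗[T] E) := by
    constructor
    intro x
    induction x using TensorProduct.induction_on with
    | zero => exact isIntegral_zero
    | tmul a y =>
      have : a ⊗ₜ[T] y = a • ((1 : D.S j) ⊗ₜ[T] y) := by rw [TensorProduct.smul_tmul', smul_eq_mul, mul_one]
      rw [this]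
      exact (h2 y).smul a
    | add x y hx hy => exact hx.add hy
  exact Algebra.IsIntegral.finite

end finite

section ff

lemma mem_range_comap_tensor {T K E : Type u} [CommRing T] [CommRing K] [CommRing E] [Algebra T K] [Algebra T E]
    (p : PrimeSpectrum K)
    (hp : PrimeSpectrum.comap (algebraMap T K) p ∈ Set.range (PrimeSpectrum.comap (algebraMap T E))) :
    p ∈ Set.range (PrimeSpectrum.comap (algebraMap K (K ⊗[T] E))) := by
  rw [← PrimeSpectrum.nontrivial_iff_mem_rangeComap] at hp ⊢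
  obtain ⟨p, hpp⟩ := p
  generalize hp0 : PrimeSpectrum.comap (algebraMap T K) ⟨p, hpp⟩ = p0 at hp
  have hp0' : p0.asIdeal = p.comap (algebraMap T K) := by rw [← hp0]; rfl
  change Nontrivial (p.ResidueField ⊗[K] (K ⊗[T] E))
  let _ : Algebra p0.asIdeal.ResidueField p.ResidueField :=
    (Ideal.ResidueField.map p0.asIdeal p (algebraMap T K) hp0').toAlgebra
  have : IsScalarTower T p0.asIdeal.ResidueField p.ResidueField := by
    refine .of_algebraMap_eq fun t => ?_
    change _ = Ideal.ResidueField.map p0.asIdeal p (algebraMap T K) hp0' (algebraMap T _ t)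
    rw [Ideal.ResidueField.map_algebraMap, ← IsScalarTower.algebraMap_apply]
  have h1 : Nontrivial (p.ResidueField ⊗[p0.asIdeal.ResidueField] (p0.asIdeal.ResidueField ⊗[T] E)) :=
    Module.FaithfullyFlat.lTensor_nontrivial p0.asIdeal.ResidueField p.ResidueField
      (p0.asIdeal.ResidueField ⊗[T] E)
  have e1 := Algebra.TensorProduct.cancelBaseChange T p0.asIdeal.ResidueField p.ResidueField p.ResidueField E
  have e2 := Algebra.TensorProduct.cancelBaseChange T K p.ResidueField p.ResidueField E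
  exact (e1.trans e2.symm).injective.nontrivial

theorem faithfullyFlat_of_map_eq_top {T K E : Type u} [CommRing T] [CommRing K] [CommRing E] [Algebra T K]
    [Algebra T E] [Module.Flat T E] (I : Ideal T)
    (hI : (PrimeSpectrum.zeroLocus (I : Set T))ᶜ ⊆ Set.range (PrimeSpectrum.comap (algebraMap T E)))
    (h : I.map (algebraMap T K) = ⊤) : Module.FaithfullyFlat K (K ⊗[T] E) := by
  refine Module.FaithfullyFlat.of_comap_surjective fun p => ?_
  apply mem_range_comap_tensor
  apply hI
  intro hp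
  have h1 : I.map (algebraMap T K) ≤ p.asIdeal := Ideal.map_le_iff_le_comap.mpr hp
  rw [h] at h1
  exact p.isPrime.ne_top (top_le_iff.mp h1)

/-- Faithful flatness of a flat finitely presented algebra spreads out. -/
theorem exists_faithfullyFlat {E : Type u} [CommRing E] [Algebra T E] [Module.Flat T E]
    [Algebra.FinitePresentation T E] (h : Module.FaithfullyFlat L (L ⊗[T] E)) :
    ∃ i, Module.FaithfullyFlat (D.S i) (D.S i ⊗[T] E) := by
  have hopen : IsOpen (Set.range (PrimeSpectrum.comap (algebraMap T E))) :=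
    (PrimeSpectrum.isOpenMap_comap_of_hasGoingDown_of_finitePresentation).isOpen_range
  obtain ⟨I, hI⟩ : ∃ I : Ideal T, (Set.range (PrimeSpectrum.comap (algebraMap T E)))ᶜ =
      PrimeSpectrum.zeroLocus (I : Set T) := by
    exact (PrimeSpectrum.isClosed_iff_zeroLocus_ideal _).mp hopen.isClosed_compl
  have hI1 : (PrimeSpectrum.zeroLocus (I : Set T))ᶜ ⊆ Set.range (PrimeSpectrum.comap (algebraMap T E)) := by
    rw [← hI, compl_compl]
  have htop : I.map (algebraMap T L) = ⊤ := by
    by_contra hne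
    obtain ⟨m, hm, hle⟩ := Ideal.exists_le_maximal _ hne
    obtain ⟨q, hq⟩ := PrimeSpectrum.comap_surjective_of_faithfullyFlat (A := L) (B := L ⊗[T] E) ⟨m, hm.isPrime⟩
    have h1 : PrimeSpectrum.comap (algebraMap T L) ⟨m, hm.isPrime⟩ ∈ PrimeSpectrum.zeroLocus (I : Set T) :=
      Ideal.map_le_iff_le_comap.mp hle
    rw [← hI] at h1
    apply h1
    refine ⟨PrimeSpectrum.comap (Algebra.TensorProduct.includeRight : E →ₐ[T] L ⊗[T] E).toRingHom q, ?_⟩
    rw [← hq, ← PrimeSpectrum.comap_comp_apply, ← PrimeSpectrum.comap_comp_apply]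
    congr 1
    ext t
    change (1 : L) ⊗ₜ[T] (algebraMap T E t) = (algebraMap T L t) ⊗ₜ[T] (1 : E)
    rw [Algebra.algebraMap_eq_smul_one, Algebra.algebraMap_eq_smul_one, TensorProduct.smul_tmul]
  -- descend the equation
  have h1 : (1 : L) ∈ I.map (algebraMap T L) := htop ▸ trivial
  obtain ⟨i, hi⟩ : ∃ i, (1 : D.S i) ∈ I.map (algebraMap T (D.S i)) := by
    have key : ∀ x ∈ I.map (algebraMap T L), ∃ i, ∃ y ∈ I.map (algebraMap T (D.S i)), D.u i y = x := by
      intro x hx
      rw [Ideal.map] at hx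
      induction hx using Submodule.span_induction with
      | mem x hx =>
        obtain ⟨t, ht, rfl⟩ := hx
        obtain ⟨i, _, _⟩ := D.surj 0
        exact ⟨i, algebraMap T _ t, Ideal.mem_map_of_mem _ ht, AlgHom.commutes _ _⟩
      | zero =>
        obtain ⟨i, _, _⟩ := D.surj 0
        exact ⟨i, 0, zero_mem _, map_zero _⟩
      | add x y _ _ hx hy =>
        obtain ⟨i, a, ha, rfl⟩ := hx
        obtain ⟨j, b, hb, rfl⟩ := hy
        obtain ⟨k, h1, h2⟩ := exists_ge_ge i j
        have hf : ∀ {i k} (h : i ≤ k) (a : D.S i), a ∈ I.map (algebraMap T (D.S i)) →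
            D.f h a ∈ I.map (algebraMap T (D.S k)) := by
          intro i k h a ha
          have h3 := Ideal.mem_map_of_mem (D.f h : D.S i →+* D.S k) ha
          rw [Ideal.map_map] at h3
          have : (D.f h : D.S i →+* D.S k).comp (algebraMap T (D.S i)) = algebraMap T (D.S k) :=
            (D.f h).comp_algebraMap
          rwa [this] at h3
        exact ⟨k, D.f h1 a + D.f h2 b, add_mem (hf h1 a ha) (hf h2 b hb), by rw [map_add, D.u_f, D.u_f]⟩
      | smul c x _ hx =>
        obtain ⟨i, a, ha, rfl⟩ := hx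
        obtain ⟨j, b, rfl⟩ := D.surj c
        obtain ⟨k, h1, h2⟩ := exists_ge_ge i j
        have h3 := Ideal.mem_map_of_mem (D.f h1 : D.S i →+* D.S k) ha
        rw [Ideal.map_map] at h3
        have : (D.f h1 : D.S i →+* D.S k).comp (algebraMap T (D.S i)) = algebraMap T (D.S k) :=
          (D.f h1).comp_algebraMap
        rw [this] at h3
        exact ⟨k, D.f h2 b * D.f h1 a, Ideal.mul_mem_left _ _ h3, by
          rw [map_mul, D.u_f, D.u_f, smul_eq_mul]⟩
    obtain ⟨i, y, hy, hy1⟩ := key 1 h1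
    obtain ⟨j, hij, hj⟩ := D.exists_sub y 1 (by rw [hy1, map_one])
    refine ⟨j, ?_⟩
    have h3 := Ideal.mem_map_of_mem (D.f hij : D.S i →+* D.S j) hy
    rw [Ideal.map_map] at h3
    have : (D.f hij : D.S i →+* D.S j).comp (algebraMap T (D.S i)) = algebraMap T (D.S j) :=
      (D.f hij).comp_algebraMap
    rw [this] at h3
    rw [map_one] at hj
    rw [← hj]
    exact h3
  exact ⟨i, faithfullyFlat_of_map_eq_top I hI1 ((Ideal.eq_top_iff_one _).mpr hi)⟩

end ff

end K202.Sys
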